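import Groth.Agent.W4c1limliniiii.K807.Pencil

/-!
# Three points: uniqueness and existence in the intersection of three Schubert cycles
-/

set_option autoImplicit false
set_option linter.style.haveILetI false

open Polynomial W4c1limliniiii

namespace K807.Three

open K807.Wr K807.Pencil

variable {k : Type*} [Field k]

/-- The Schubert condition set: two-dimensional subspaces of polynomials of degree at most `d`
having a member vanishing to order at least `e i` at `P i`. -/
def Sch (d : ℕ) {n : ℕ} (P : Fin n → k) (e : Fin n → ℕ) (V : Submodule k k[X]) : Prop :=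
  V ≤ degreeLE k d ∧ Module.finrank k V = 2 ∧
    ∀ i, ∃ s ∈ V, s ≠ 0 ∧ e i ≤ rootMultiplicity (P i) s

theorem sch_of_mem {d n : ℕ} {P : Fin n → k} {e : Fin n → ℕ} {V : Submodule k k[X]}
    (h : V ∈ ramMaps d P e) : Sch d P e V :=
  ⟨h.1.1, h.1.2.1, fun i => (h.2.2 i).1⟩

theorem eq_zero_of_two {a b : k} (hab : a ≠ b) {m n d : ℕ} (hd : d < m + n) {s : k[X]}
    (hs : s.natDegree ≤ d) (ha : (X - C a) ^ m ∣ s) (hb : (X - C b) ^ n ∣ s) : s = 0 := by
  have hc : IsCoprime ((X - C a) ^ m) ((X - C b) ^ n) :=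
    (isCoprime_X_sub_C_of_isUnit_sub (sub_ne_zero.2 hab).isUnit).pow
  have h := hc.mul_dvd ha hb
  by_contra h0
  have h1 := natDegree_le_of_dvd h h0
  rw [((monic_X_sub_C a).pow m).natDegree_mul ((monic_X_sub_C b).pow n),
    (monic_X_sub_C a).natDegree_pow, (monic_X_sub_C b).natDegree_pow, natDegree_X_sub_C,
    natDegree_X_sub_C, mul_one, mul_one] at h1
  omega

/-- normal form of a three-point Schubert pencil: `s₀ + s₁ = s₂`. -/
theorem exists_normal {d : ℕ} {P : Fin 3 → k} (hP : Function.Injective P) {e : Fin 3 → ℕ}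
    (hed : ∀ i, e i ≤ d) (hsum : (∑ i, e i) + 2 = 2 * d + 3) {V : Submodule k k[X]}
    (hV : Sch d P e V) :
    ∃ s₀ s₁ : k[X], V = Submodule.span k {s₀, s₁} ∧ LinearIndependent k ![s₀, s₁] ∧
      (X - C (P 0)) ^ (e 0) ∣ s₀ ∧ (X - C (P 1)) ^ (e 1) ∣ s₁ ∧
      (X - C (P 2)) ^ (e 2) ∣ s₀ + s₁ := by
  obtain ⟨hVd, hV2, hVs⟩ := hV
  rw [Fin.sum_univ_three] at hsum
  obtain ⟨s₀, hs₀, hs₀0, hs₀m⟩ := hVs 0
  obtain ⟨s₁, hs₁, hs₁0, hs₁m⟩ := hVs 1
  obtain ⟨s₂, hs₂, hs₂0, hs₂m⟩ := hVs 2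
  have d₀ := (le_rootMultiplicity_iff hs₀0).1 hs₀m
  have d₁ := (le_rootMultiplicity_iff hs₁0).1 hs₁m
  have d₂ := (le_rootMultiplicity_iff hs₂0).1 hs₂m
  have h01 : P 0 ≠ P 1 := fun h => by simpa using hP h
  have h02 : P 0 ≠ P 2 := fun h => by simpa using hP h
  have h12 : P 1 ≠ P 2 := fun h => by simpa using hP h
  have e0 := hed 0
  have e1 := hed 1
  have e2 := hed 2
  have hli : LinearIndependent k ![s₀, s₁] := by
    apply linInd_of_not_mem hs₁0
    intro h
    obtain ⟨c, hc⟩ := Submodule.mem_span_singleton.1 h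
    apply hs₀0
    refine eq_zero_of_two h01 (m := e 0) (n := e 1) (d := d) (by omega)
      (natDegree_le_of_mem hVd hs₀) d₀ ?_
    rw [← hc]
    exact dvd_smul_of_dvd c d₁
  have hVe := eq_span_pair hV2 hs₀ hs₁ hli
  have hs₂' := hs₂
  rw [hVe] at hs₂'
  obtain ⟨x, y, hxy⟩ := Submodule.mem_span_pair.1 hs₂'
  have hx : x ≠ 0 := by
    rintro rfl
    rw [zero_smul, zero_add] at hxy
    apply hs₂0
    refine eq_zero_of_two h12 (m := e 1) (n := e 2) (d := d) (by omega)
      (natDegree_le_of_mem hVd hs₂) ?_ d₂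
    rw [← hxy]
    exact dvd_smul_of_dvd y d₁
  have hy : y ≠ 0 := by
    rintro rfl
    rw [zero_smul, add_zero] at hxy
    apply hs₂0
    refine eq_zero_of_two h02 (m := e 0) (n := e 2) (d := d) (by omega)
      (natDegree_le_of_mem hVd hs₂) ?_ d₂
    rw [← hxy]
    exact dvd_smul_of_dvd x d₀
  have hli' : LinearIndependent k ![x • s₀, y • s₁] := by
    rw [LinearIndependent.pair_iff] at hli ⊢
    intro s t hst
    rw [smul_smul, smul_smul] at hst
    have := hli _ _ hst
    exact ⟨(mul_eq_zero.1 this.1).resolve_right hx, (mul_eq_zero.1 this.2).resolve_right hy⟩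
  exact ⟨x • s₀, y • s₁, eq_span_pair hV2 (V.smul_mem _ hs₀) (V.smul_mem _ hs₁) hli', hli',
    dvd_smul_of_dvd x d₀, dvd_smul_of_dvd y d₁, by rw [hxy]; exact d₂⟩

/-- **Three-point uniqueness.** A base-point-free pencil in the intersection of the three Schubert
cycles is the only member of that intersection. -/
theorem eq_of_isPencil [IsAlgClosed k] {d : ℕ} {P : Fin 3 → k} (hP : Function.Injective P)
    {e : Fin 3 → ℕ} (hed : ∀ i, e i ≤ d) (hsum : (∑ i, e i) + 2 = 2 * d + 3)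
    {V V' : Submodule k k[X]} (hV : Sch d P e V) (hpen : IsPencil d V) (hV' : Sch d P e V') :
    V' = V := by
  obtain ⟨s₀, s₁, hVe, hli, d₀, d₁, d₂⟩ := exists_normal hP hed hsum hV
  obtain ⟨t₀, t₁, hVe', hli', d₀', d₁', d₂'⟩ := exists_normal hP hed hsum hV'
  have h01 : P 0 ≠ P 1 := fun h => by simpa using hP h
  have h02 : P 0 ≠ P 2 := fun h => by simpa using hP h
  have h12 : P 1 ≠ P 2 := fun h => by simpa using hP h
  rw [Fin.sum_univ_three] at hsum
  have m₀ : s₀ ∈ V := by rw [hVe]; exact Submodule.subset_span (by simp)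
  have m₁ : s₁ ∈ V := by rw [hVe]; exact Submodule.subset_span (by simp)
  have m₀' : t₀ ∈ V' := by rw [hVe']; exact Submodule.subset_span (by simp)
  have m₁' : t₁ ∈ V' := by rw [hVe']; exact Submodule.subset_span (by simp)
  -- the determinant
  have hD : t₀ * s₁ - s₀ * t₁ = 0 := by
    by_contra hne
    have hdvd : ∏ i, (X - C (P i)) ^ (e i) ∣ t₀ * s₁ - s₀ * t₁ := by
      apply prod_pow_dvd hP
      intro i
      fin_cases i
      · exact dvd_sub (Dvd.dvd.mul_right d₀' _) (Dvd.dvd.mul_right d₀ _)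
      · exact dvd_sub (Dvd.dvd.mul_left d₁ _) (Dvd.dvd.mul_left d₁' _)
      · have : t₀ * s₁ - s₀ * t₁ = t₀ * (s₀ + s₁) - s₀ * (t₀ + t₁) := by ring
        rw [this]
        exact dvd_sub (Dvd.dvd.mul_left d₂ _) (Dvd.dvd.mul_left d₂' _)
    have h1 := natDegree_le_of_dvd hdvd hne
    rw [natDegree_prod_pow, Fin.sum_univ_three] at h1
    have h2 : (t₀ * s₁ - s₀ * t₁).natDegree ≤ 2 * d := by
      refine (natDegree_sub_le _ _).trans (max_le ?_ ?_)
      · refine natDegree_mul_le.trans ?_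
        have := natDegree_le_of_mem hV'.1 m₀'
        have := natDegree_le_of_mem hV.1 m₁
        omega
      · refine natDegree_mul_le.trans ?_
        have := natDegree_le_of_mem hV.1 m₀
        have := natDegree_le_of_mem hV'.1 m₁'
        omega
    omega
  have hcop := isCoprime_of_isPencil hpen hVe
  have hs₀0 : s₀ ≠ 0 := by
    rw [LinearIndependent.pair_iff] at hli
    rintro rfl
    exact one_ne_zero (hli 1 0 (by simp)).1
  have hs₁0 : s₁ ≠ 0 := by
    rw [LinearIndependent.pair_iff] at hli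
    rintro rfl
    exact one_ne_zero (hli 0 1 (by simp)).2
  have hdiv : s₀ ∣ t₀ := by
    have : s₀ ∣ t₀ * s₁ := ⟨t₁, sub_eq_zero.1 hD⟩
    exact hcop.dvd_of_dvd_mul_right this
  obtain ⟨h, rfl⟩ := hdiv
  have ht₁ : t₁ = s₁ * h := by
    have : s₀ * (s₁ * h) = s₀ * t₁ := by
      have := sub_eq_zero.1 hD
      rw [← this]; ring
    exact (mul_left_cancel₀ hs₀0 this).symm
  subst ht₁
  have hh0 : h ≠ 0 := by
    rintro rfl
    rw [LinearIndependent.pair_iff] at hli'
    exact one_ne_zero (hli' 1 0 (by simp)).1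
  -- some member of `V` has degree `d`
  have hdeg : s₀.natDegree = d ∨ s₁.natDegree = d := by
    obtain ⟨s, hs, hsd⟩ := hpen.2.2.1
    rw [hVe] at hs
    obtain ⟨x, y, rfl⟩ := Submodule.mem_span_pair.1 hs
    by_contra hcon
    push Not at hcon
    have b0 := natDegree_le_of_mem hV.1 m₀
    have b1 := natDegree_le_of_mem hV.1 m₁
    have h3 : (x • s₀ + y • s₁).natDegree ≤ max s₀.natDegree s₁.natDegree :=
      (natDegree_add_le _ _).trans (max_le_max (natDegree_smul_le _ _) (natDegree_smul_le _ _))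
    rw [hsd] at h3
    rcases le_max_iff.1 h3 with h4 | h4
    · exact hcon.1 (le_antisymm b0 h4)
    · exact hcon.2 (le_antisymm b1 h4)
  have hh : h.natDegree = 0 := by
    rcases hdeg with h4 | h4
    · have := natDegree_le_of_mem hV'.1 m₀'
      rw [natDegree_mul hs₀0 hh0] at this
      omega
    · have := natDegree_le_of_mem hV'.1 m₁'
      rw [natDegree_mul hs₁0 hh0] at this
      omega
  rw [eq_C_of_natDegree_eq_zero hh] at m₀' m₁' hh0 hli'
  set c := h.coeff 0
  have hle : V' ≤ V := by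
    rw [hVe', Submodule.span_le]
    rw [eq_C_of_natDegree_eq_zero hh]
    rintro x (rfl | rfl)
    · rw [mul_comm, ← smul_eq_C_mul]; exact V.smul_mem _ m₀
    · rw [mul_comm, ← smul_eq_C_mul]; exact V.smul_mem _ m₁
  haveI : FiniteDimensional k V := Module.finite_of_finrank_pos (by rw [hV.2.1]; norm_num)
  exact Submodule.eq_of_le_of_finrank_eq hle (by rw [hV.2.1, hV'.2.1])

/-- **Three-point existence.** -/
theorem exists_sch {d : ℕ} {P : Fin 3 → k} (hP : Function.Injective P)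
    {e : Fin 3 → ℕ} (hed : ∀ i, e i ≤ d) (hsum : (∑ i, e i) + 2 = 2 * d + 3) :
    ∃ V : Submodule k k[X], Sch d P e V := by
  have h01 : P 0 ≠ P 1 := fun h => by simpa using hP h
  have h02 : P 0 ≠ P 2 := fun h => by simpa using hP h
  have h12 : P 1 ≠ P 2 := fun h => by simpa using hP h
  rw [Fin.sum_univ_three] at hsum
  have e0 := hed 0
  have e1 := hed 1
  have e2 := hed 2
  set q : Fin 3 → k[X] := fun i => (X - C (P i)) ^ (e i) with hq
  have hqd : ∀ i, (q i).natDegree = e i := by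
    intro i
    rw [hq]
    simp only [(monic_X_sub_C _).natDegree_pow, natDegree_X_sub_C, mul_one]
  -- the linear map
  have hmem : ∀ i, ∀ u ∈ degreeLT k (d + 1 - e i), q i * u ∈ degreeLT k (d + 1) := by
    intro i u hu
    by_cases hu0 : u = 0
    · rw [hu0, mul_zero]; exact Submodule.zero_mem _
    rw [mem_degreeLT] at hu ⊢
    rw [degree_lt_iff_coeff_zero] at hu
    have hu' : u.natDegree < d + 1 - e i := by
      by_contra hcon
      exact hu0 (leadingCoeff_eq_zero.1 (hu _ (not_lt.1 hcon)))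
    rw [← natDegree_lt_iff_degree_lt (mul_ne_zero (pow_ne_zero _ (X_sub_C_ne_zero _)) hu0)]
    refine natDegree_mul_le.trans_lt ?_
    rw [hqd]
    omega
  let Φ : (degreeLT k (d + 1 - e 0) × degreeLT k (d + 1 - e 1) × degreeLT k (d + 1 - e 2)) →ₗ[k]
      degreeLT k (d + 1) :=
    { toFun := fun x => ⟨q 0 * (x.1 : k[X]) + q 1 * (x.2.1 : k[X]) - q 2 * (x.2.2 : k[X]),
        Submodule.sub_mem _ (Submodule.add_mem _ (hmem 0 _ x.1.2) (hmem 1 _ x.2.1.2))
          (hmem 2 _ x.2.2.2)⟩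
      map_add' := by
        intro x y
        apply Subtype.ext
        simp only [Prod.fst_add, Prod.snd_add, Submodule.coe_add]
        ring
      map_smul' := by
        intro c x
        apply Subtype.ext
        simp only [Prod.smul_fst, Prod.smul_snd, Submodule.coe_smul, RingHom.id_apply,
          smul_eq_C_mul]
        ring }
  haveI : ∀ n, FiniteDimensional k (degreeLT k n) := fun n =>
    (degreeLTEquiv k n).symm.finiteDimensional
  have hfr : ∀ n, Module.finrank k (degreeLT k n) = n := fun n => by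
    rw [(degreeLTEquiv k n).finrank_eq, Module.finrank_fin_fun]
  have hker : LinearMap.ker Φ ≠ ⊥ := by
    apply LinearMap.ker_ne_bot_of_finrank_lt
    rw [Module.finrank_prod, Module.finrank_prod, hfr, hfr, hfr, hfr]
    omega
  obtain ⟨x, hx, hx0⟩ := Submodule.exists_mem_ne_zero_of_ne_bot hker
  have hrel : q 0 * (x.1 : k[X]) + q 1 * (x.2.1 : k[X]) - q 2 * (x.2.2 : k[X]) = 0 := by
    have := congrArg Subtype.val (LinearMap.mem_ker.1 hx)
    exact this
  set s₀ := q 0 * (x.1 : k[X]) with hs₀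
  set s₁ := q 1 * (x.2.1 : k[X]) with hs₁
  set s₂ := q 2 * (x.2.2 : k[X]) with hs₂
  have hdeg : ∀ s ∈ degreeLT k (d + 1), s.natDegree ≤ d := by
    intro s hs
    by_cases h0 : s = 0
    · rw [h0]; simp
    · have := (natDegree_lt_iff_degree_lt h0).2 (mem_degreeLT.1 hs)
      omega
  have D₀ : s₀.natDegree ≤ d := hdeg _ (hmem 0 _ x.1.2)
  have D₁ : s₁.natDegree ≤ d := hdeg _ (hmem 1 _ x.2.1.2)
  have D₂ : s₂.natDegree ≤ d := hdeg _ (hmem 2 _ x.2.2.2)
  have v₀ : (X - C (P 0)) ^ (e 0) ∣ s₀ := dvd_mul_right _ _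
  have v₁ : (X - C (P 1)) ^ (e 1) ∣ s₁ := dvd_mul_right _ _
  have v₂ : (X - C (P 2)) ^ (e 2) ∣ s₂ := dvd_mul_right _ _
  have hq0 : ∀ i, q i ≠ 0 := fun i => pow_ne_zero _ (X_sub_C_ne_zero _)
  have hs2 : s₂ = s₀ + s₁ := (sub_eq_zero.1 hrel).symm
  have hall : s₀ = 0 → s₁ = 0 → False := by
    intro h0 h1
    have h2 : s₂ = 0 := by rw [hs2, h0, h1, add_zero]
    apply hx0
    have a0 : (x.1 : k[X]) = 0 := (mul_eq_zero.1 h0).resolve_left (hq0 0)
    have a1 : (x.2.1 : k[X]) = 0 := (mul_eq_zero.1 h1).resolve_left (hq0 1)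
    have a2 : (x.2.2 : k[X]) = 0 := (mul_eq_zero.1 h2).resolve_left (hq0 2)
    exact Prod.ext (Subtype.ext a0) (Prod.ext (Subtype.ext a1) (Subtype.ext a2))
  have n₀ : s₀ ≠ 0 := by
    intro h
    refine hall h ?_
    refine eq_zero_of_two h12 (m := e 1) (n := e 2) (d := d) (by omega) D₁ v₁ ?_
    have : s₂ = s₁ := by rw [hs2, h, zero_add]
    rw [← this]; exact v₂
  have n₁ : s₁ ≠ 0 := by
    intro h
    refine hall ?_ h
    refine eq_zero_of_two h02 (m := e 0) (n := e 2) (d := d) (by omega) D₀ v₀ ?_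
    have : s₂ = s₀ := by rw [hs2, h, add_zero]
    rw [← this]; exact v₂
  have n₂ : s₂ ≠ 0 := by
    intro h
    apply n₀
    refine eq_zero_of_two h01 (m := e 0) (n := e 1) (d := d) (by omega) D₀ v₀ ?_
    have : s₀ = -s₁ := by
      rw [eq_neg_iff_add_eq_zero, ← hs2, h]
    rw [this, dvd_neg]; exact v₁
  have hli : LinearIndependent k ![s₀, s₁] := by
    apply linInd_of_not_mem n₁
    intro h
    obtain ⟨c, hc⟩ := Submodule.mem_span_singleton.1 h
    apply n₀
    refine eq_zero_of_two h01 (m := e 0) (n := e 1) (d := d) (by omega) D₀ v₀ ?_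
    rw [← hc]
    exact dvd_smul_of_dvd c v₁
  refine ⟨Submodule.span k {s₀, s₁}, le_degreeLE_of D₀ D₁, finrank_span_pair hli, ?_⟩
  intro i
  fin_cases i
  · exact ⟨s₀, Submodule.subset_span (by simp), n₀, (le_rootMultiplicity_iff n₀).2 v₀⟩
  · exact ⟨s₁, Submodule.subset_span (by simp), n₁, (le_rootMultiplicity_iff n₁).2 v₁⟩
  · refine ⟨s₂, ?_, n₂, (le_rootMultiplicity_iff n₂).2 v₂⟩
    rw [hs2]
    exact Submodule.add_mem _ (Submodule.subset_span (by simp)) (Submodule.subset_span (by simp))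

end K807.Three
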