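import Groth.Agent.W4c1limliniiii.K807.Three

/-!
# Separability for small degree, inseparable pencils
-/

set_option autoImplicit false
set_option linter.style.haveILetI false

open Polynomial W4c1limliniiii

namespace K807.Sep

open K807.Wr K807.Pencil

variable {k : Type*} [Field k]

theorem cast_sub_ne_zero (p : ℕ) [CharP k p] {a b : ℕ} (hab : b < a) (h : p = 0 ∨ a < p + b) :
    ((b : k) - (a : k)) ≠ 0 := by
  intro h0
  have h1 : ((a - b : ℕ) : k) = 0 := by
    rw [Nat.cast_sub hab.le]
    rw [sub_eq_zero] at h0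
    rw [h0, sub_self]
  rcases h with h | h
  · subst h
    haveI := CharP.charP_to_charZero k
    have := Nat.cast_eq_zero.1 h1
    omega
  · have h2 := (CharP.cast_eq_zero_iff k p (a - b)).1 h1
    have := Nat.le_of_dvd (by omega) h2
    omega

/-- the Wronskian of polynomials with degrees distinct modulo `p` is non-zero -/
theorem wr_ne_zero_of_natDegree (p : ℕ) [CharP k p] {F G : k[X]} (hF : F ≠ 0) (hG : G ≠ 0)
    (hab : G.natDegree < F.natDegree) (h : p = 0 ∨ F.natDegree < p + G.natDegree) :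
    wronskian F G ≠ 0 := by
  intro h0
  have h1 := coeff_wr (a := F.natDegree) (b := G.natDegree) (by omega) (F := F) (G := G) le_rfl
    le_rfl
  rw [h0, coeff_zero] at h1
  exact mul_ne_zero (cast_sub_ne_zero p hab h)
    (mul_ne_zero (leadingCoeff_ne_zero.2 hF) (leadingCoeff_ne_zero.2 hG)) h1.symm

/-- every pencil of degree `< p` is separable -/
theorem isSeparable_of_lt (p : ℕ) [CharP k p] {d : ℕ} (h : p = 0 ∨ d < p)
    {V : Submodule k k[X]} (hV : V ≤ degreeLE k d) (h2 : Module.finrank k V = 2) :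
    IsSeparable V := by
  obtain ⟨F, G, hF, hG, hG0, hli, hVe, hlt⟩ := exists_basis_deg_lt h2
  refine ⟨F, hF, G, hG, ?_⟩
  have hF0 : F ≠ 0 := by rintro rfl; simp at hlt
  refine wr_ne_zero_of_natDegree p hF0 hG0 hlt ?_
  have := natDegree_le_of_mem hV hF
  rcases h with h | h
  · exact Or.inl h
  · right; omega

/-- the inseparable pencil `⟨g X^p, g⟩` -/
theorem insep (p : ℕ) [hp : Fact p.Prime] [CharP k p] {g : k[X]} (hg : g ≠ 0) :
    Module.finrank k (Submodule.span k {g * X ^ p, g}) = 2 ∧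
      ¬ IsSeparable (Submodule.span k {g * X ^ p, g}) ∧
      ∀ a : k, g * (X - C a) ^ p ∈ Submodule.span k {g * X ^ p, g} := by
  have hp0 : 0 < p := hp.out.pos
  refine ⟨?_, ?_, ?_⟩
  · apply finrank_span_pair
    apply linInd_of_not_mem hg
    intro h
    obtain ⟨c, hc⟩ := Submodule.mem_span_singleton.1 h
    have h1 : (c • g).natDegree = (g * X ^ p).natDegree := by rw [hc]
    rw [natDegree_mul_X_pow p hg] at h1
    have := natDegree_smul_le c g
    omega
  · rw [isSeparable_iff rfl, not_not]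
    have h1 : wronskian (g * X ^ p) g = wronskian (g * X ^ p) (g * 1) := by rw [mul_one]
    rw [h1, wr_mul_mul]
    simp [wronskian, derivative_X_pow]
  · intro a
    rw [sub_pow_char, ← C_pow]
    refine Submodule.mem_span_pair.2 ⟨1, -(a ^ p), ?_⟩
    rw [smul_eq_C_mul, smul_eq_C_mul]
    simp only [C_1, C_neg]
    ring

end K807.Sep

namespace K807.Sep

open K807.Wr K807.Pencil

variable {k : Type*} [Field k]

/-- exact order of the Wronskian at a non-base point with ramification index prime to `p` -/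
theorem wr_exact (p : ℕ) [CharP k p] {V : Submodule k k[X]} {F G : k[X]}
    (hV : V = Submodule.span k {F, G}) (hW0 : wronskian F G ≠ 0) {a : k} {e : ℕ} (he : ¬ p ∣ e)
    (hram : HasRamIdx V a e) (hb : ∃ s ∈ V, s.eval a ≠ 0) :
    (X - C a) ^ (e - 1) ∣ wronskian F G ∧ ¬ (X - C a) ^ e ∣ wronskian F G := by
  have he1 : 1 ≤ e := by
    rcases Nat.eq_zero_or_pos e with h | h
    · subst h; exact absurd (dvd_zero p) he
    · exact h
  obtain ⟨s, hs, hs0, hse⟩ := hram.1
  have hsm : rootMultiplicity a s = e := le_antisymm (hram.2 s hs hs0) hse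
  have hdv := (le_rootMultiplicity_iff hs0).1 hse
  rw [hV] at hs
  refine ⟨pow_dvd_of_mem hs hs0 hdv, ?_⟩
  intro hdvd
  obtain ⟨u, hu⟩ := hdv
  have hu0 : u.eval a ≠ 0 := by
    intro h0
    have h1 : (X - C a) ^ (e + 1) ∣ s := by
      rw [hu, pow_succ]
      exact mul_dvd_mul_left _ (dvd_iff_isRoot.2 h0)
    have := (le_rootMultiplicity_iff hs0).2 h1
    omega
  obtain ⟨t, ht, hta⟩ := hb
  rw [hV] at ht
  obtain ⟨c, hc⟩ := exists_wr_eq hs ht
  have h1 : (X - C a) ^ e ∣ wronskian s t := by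
    rw [hc]; exact dvd_smul_of_dvd c hdvd
  have h2 := wr_pow a e 0 (by omega) u t
  rw [pow_zero, one_mul, ← hu, add_zero] at h2
  have h3 : (X - C a) ^ (e - 1) * (X - C a) ∣ wronskian s t := by
    rw [← pow_succ, Nat.sub_add_cancel he1]; exact h1
  rw [h2] at h3
  have h4 := (mul_dvd_mul_iff_left (pow_ne_zero _ (X_sub_C_ne_zero a))).1 h3
  rw [dvd_iff_isRoot, IsRoot] at h4
  simp only [eval_add, eval_mul, eval_sub, eval_X, eval_C, sub_self, zero_mul, add_zero,
    Nat.cast_zero, zero_sub, eval_neg, eval_natCast, neg_mul, neg_eq_zero, mul_eq_zero,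
    hu0, hta, or_false] at h4
  exact he ((CharP.cast_eq_zero_iff k p e).1 h4)

end K807.Sep
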