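import Groth.Agent.W4c1limliniiii.K807.GenCount

/-!
# Pencils at general points separate the ramification points
-/

set_option autoImplicit false
set_option linter.style.haveILetI false
universe u

open Polynomial

namespace K807.GenSep

open K807.Wr K807.Pencil K807.Bound K807.Normal K807.Gen K807.GenCount W4c1limliniiii

/-- a model of the generic configuration -/
theorem exists_generic (k : Type u) [Field k] (n : ℕ) :
    ∃ (L : Type u) (_ : Field L) (_ : IsAlgClosed L) (_ : Algebra k L) (P : Fin n → L),
      AlgebraicIndependent k P := by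
  let R := MvPolynomial (Fin n) k
  let L := AlgebraicClosure (FractionRing R)
  letI : Algebra k L := ((algebraMap (FractionRing R) L).comp
    ((algebraMap R (FractionRing R)).comp (algebraMap k R))).toAlgebra
  let θ : R →ₐ[k] L :=
    { toRingHom := (algebraMap (FractionRing R) L).comp (algebraMap R (FractionRing R))
      commutes' := fun r => rfl }
  have hθ : Function.Injective θ :=
    (algebraMap (FractionRing R) L).injective.comp (IsFractionRing.injective R _)
  refine ⟨L, inferInstance, inferInstance, inferInstance, fun i => θ (MvPolynomial.X i), ?_⟩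
  have : MvPolynomial.aeval (fun i => θ (MvPolynomial.X i)) = θ := by
    apply MvPolynomial.algHom_ext
    intro i
    simp
  show Function.Injective (MvPolynomial.aeval (fun i => θ (MvPolynomial.X i)))
  rw [this]
  exact hθ

variable {k : Type u} [Field k] {n : ℕ} {e : Fin n → ℕ} {d : ℕ}

/-- the coincidence equation -/
noncomputable def coin {R : Type*} [CommRing R] (x : Fin n → R) (α β : ℕ) (i j : Fin n) :
    MvPolynomial (Fin α ⊕ Fin β) R :=
  (uF R α β).eval (MvPolynomial.C (x i)) * (uG R α β).eval (MvPolynomial.C (x j)) -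
  (uF R α β).eval (MvPolynomial.C (x j)) * (uG R α β).eval (MvPolynomial.C (x i))

theorem eval_coin {R : Type*} [CommRing R] (x : Fin n → R) (α β : ℕ) (i j : Fin n) {K : Type*}
    [Field K] (θ : R →+* K) (z : Fin α ⊕ Fin β → K) :
    MvPolynomial.eval₂ θ z (coin x α β i j) =
      (mp α (fun j => z (Sum.inl j))).eval (θ (x i)) *
        (mp β (fun j => z (Sum.inr j))).eval (θ (x j)) -
      (mp α (fun j => z (Sum.inl j))).eval (θ (x j)) *
        (mp β (fun j => z (Sum.inr j))).eval (θ (x i)) := by
  have h1 : ∀ a : Fin n, MvPolynomial.eval₂Hom θ z ((uF R α β).eval (MvPolynomial.C (x a))) =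
      (mp α (fun j => z (Sum.inl j))).eval (θ (x a)) := by
    intro a
    rw [← map_uF θ z, ← eval_map_apply]
    congr 1
    rw [MvPolynomial.coe_eval₂Hom, MvPolynomial.eval₂_C]
  have h2 : ∀ a : Fin n, MvPolynomial.eval₂Hom θ z ((uG R α β).eval (MvPolynomial.C (x a))) =
      (mp β (fun j => z (Sum.inr j))).eval (θ (x a)) := by
    intro a
    rw [← map_uG θ z, ← eval_map_apply]
    congr 1
    rw [MvPolynomial.coe_eval₂Hom, MvPolynomial.eval₂_C]
  rw [← MvPolynomial.coe_eval₂Hom, coin, map_sub, map_mul, map_mul, h1, h1, h2, h2]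

theorem exists_separate [IsAlgClosed k] (he : ∀ i, 1 ≤ e i) (heK : ∀ i, (e i : k) ≠ 0)
    (hd : (∑ i, e i) + 2 = 2 * d + n) (i j : Fin n) (hij : i ≠ j) :
    ∃ Φ : MvPolynomial (Fin n) k, Φ ≠ 0 ∧ ∀ P : Fin n → k, MvPolynomial.eval P Φ ≠ 0 →
      ∀ V ∈ ramMaps d P e, ∀ s ∈ V, (s.IsRoot (P i) ∧ s.IsRoot (P j)) → s = 0 := by
  have hd1 : 1 ≤ d := one_le_of_sum he hd
  obtain ⟨L, _, _, _, P, hP⟩ := exists_generic k n
  let R := MvPolynomial (Fin n) k
  let θ : R →+* L := (MvPolynomial.aeval P : R →ₐ[k] L).toRingHom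
  have hθ : Function.Injective θ := hP
  have hθX : ∀ i, θ (MvPolynomial.X i) = P i := fun i => MvPolynomial.aeval_X P i
  have hPθ : (fun i => θ (MvPolynomial.X i)) = P := funext hθX
  let I := insert (coin (fun i : Fin n => (MvPolynomial.X i : R)) d (d - 1) i j)
    (eqs (fun i : Fin n => (MvPolynomial.X i : R)) e d (d - 1))
  have hb := bijOn θ (x := fun i : Fin n => (MvPolynomial.X i : R)) (e := e) (d := d)
    (by rw [hPθ]; exact hP.injective) he hd
  rw [hPθ] at hb
  have cmp : ∀ {K : Type u} [Field K] (α : ℕ) (a : Fin α → K), (mp α a).coeff α = 1 := by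
    intro K _ α a
    have := (monic_mp α a).coeff_natDegree
    rwa [natDegree_mp] at this
  obtain ⟨Φ, hΦ, hs⟩ := Transfer.exists_unsolvable.{u} θ hθ I 1 (by
    rintro ⟨z, hz, -⟩
    have hz1 : z ∈ Transfer.Z θ (eqs (fun i : Fin n => (MvPolynomial.X i : R)) e d (d - 1)) :=
      fun f hf => hz f (Set.mem_insert_of_mem _ hf)
    have hz2 := hz _ (Set.mem_insert _ _)
    rw [eval_coin, hθX, hθX] at hz2
    have hV : Submodule.span L {mp d (fun j => z (Sum.inl j)),
      mp (d - 1) (fun j => z (Sum.inr j))} ∈ ramMaps d P e := hb.1 hz1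
    set F := mp d (fun j => z (Sum.inl j)) with hF
    set G := mp (d - 1) (fun j => z (Sum.inr j)) with hG
    have h1 : F.eval (P j) • G - G.eval (P j) • F = 0 := by
      refine separate hP he heK hd hV hij (Submodule.sub_mem _
        (Submodule.smul_mem _ _ (Submodule.subset_span (by simp)))
        (Submodule.smul_mem _ _ (Submodule.subset_span (by simp)))) ?_ ?_
      · rw [eval_sub, eval_smul, eval_smul, smul_eq_mul, smul_eq_mul]
        linear_combination -hz2
      · rw [eval_sub, eval_smul, eval_smul, smul_eq_mul, smul_eq_mul]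
        ring
    have hGd : G.coeff d = 0 := by
      apply coeff_eq_zero_of_natDegree_lt
      rw [hG, natDegree_mp]; omega
    have h2 : G.eval (P j) = 0 := by
      have := congrArg (fun p : L[X] => p.coeff d) h1
      simp only [coeff_sub, coeff_smul, smul_eq_mul, coeff_zero] at this
      rw [hGd, hF, cmp, mul_one, mul_zero, zero_sub, neg_eq_zero] at this
      exact this
    have h3 : F.eval (P j) = 0 := by
      rw [h2, zero_smul, sub_zero] at h1
      have := congrArg (fun p : L[X] => p.coeff (d - 1)) h1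
      simp only [coeff_smul, smul_eq_mul, coeff_zero] at this
      rw [hG, cmp, mul_one] at this
      exact this
    obtain ⟨s, hs, hs0⟩ := hV.1.2.2.2 (P j)
    obtain ⟨a, b, rfl⟩ := Submodule.mem_span_pair.1 hs
    apply hs0
    rw [eval_add, eval_smul, eval_smul, h2, h3, smul_zero, smul_zero, add_zero])
  refine ⟨Φ * vdm k n, mul_ne_zero hΦ (vdm_ne_zero k n), fun P' hP' V hV s hsV hroot => ?_⟩
  rw [map_mul] at hP'
  have hinj := injective_of_vdm (right_ne_zero_of_mul hP')
  have hns := hs (MvPolynomial.eval P') (left_ne_zero_of_mul hP')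
  have hPX : ∀ i, MvPolynomial.eval P' (MvPolynomial.X i : R) = P' i := by
    intro i; simp
  have hPe : (fun i => MvPolynomial.eval P' (MvPolynomial.X i : R)) = P' := funext hPX
  have hb' := bijOn (MvPolynomial.eval P') (x := fun i : Fin n => (MvPolynomial.X i : R)) (e := e)
    (d := d) (by rw [hPe]; exact hinj) he hd
  rw [hPe] at hb'
  obtain ⟨z, hz, hzV⟩ := hb'.2.2 hV
  by_contra hs0
  apply hns
  refine ⟨z, ?_, by simp⟩
  rintro f (rfl | hf)
  · rw [eval_coin, hPX, hPX]
    rw [← hzV] at hsV
    obtain ⟨a, b, rfl⟩ := Submodule.mem_span_pair.1 hsV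
    have h1 := hroot.1
    have h2 := hroot.2
    rw [IsRoot.def, eval_add, eval_smul, eval_smul, smul_eq_mul, smul_eq_mul] at h1 h2
    by_cases ha : a = 0
    · subst ha
      have hb0 : b ≠ 0 := by rintro rfl; simp at hs0
      rw [zero_mul, zero_add, mul_eq_zero] at h1 h2
      rw [h1.resolve_left hb0, h2.resolve_left hb0]
      ring
    · refine (mul_eq_zero.1 ?_).resolve_left ha
      linear_combination (mp (d - 1) fun j => z (Sum.inr j)).eval (P' j) * h1 -
        (mp (d - 1) fun j => z (Sum.inr j)).eval (P' i) * h2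
  · exact hz f hf

end K807.GenSep
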