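import Groth.Agent.W4c1limliniiii.K807.GenSep
import Mathlib.Algebra.CharP.Lemmas

/-!
# Flipping two ramification indices in characteristic `p`
-/

set_option autoImplicit false
set_option linter.style.haveILetI false
universe u

open Polynomial

namespace K807.Flip

open K807.Wr K807.Pencil K807.Bound K807.Normal K807.Gen K807.GenCount W4c1limliniiii

section Field

variable {L : Type*} [Field L] {p : ℕ}

theorem wr_of_mul {c A B F G F' G' : L[X]} (hA : derivative A = 0) (hB : derivative B = 0)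
    (h1 : c * F' = B * F) (h2 : c * G' = A * G) :
    c ^ 2 * wronskian F' G' = A * B * wronskian F G := by
  rw [← wr_mul_mul, h1, h2]
  simp only [wronskian, derivative_mul, hA, hB]
  ring

theorem der_pow [CharP L p] (a : L) : derivative ((X - C a) ^ p) = 0 := by
  rw [derivative_X_sub_C_pow, CharP.cast_eq_zero, C_0, zero_mul]

theorem pow_dvd_sub [Fact p.Prime] [CharP L p] (a c : L) :
    (X - C c) ^ p ∣ (X - C a) ^ p - C ((c - a) ^ p) := by
  have h1 : (X - C a : L[X]) = (X - C c) + C (c - a) := by rw [C_sub]; ring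
  rw [h1, add_pow_char, C_pow, add_sub_cancel_right]

theorem span_smul_pair {x y : L} (hx : x ≠ 0) (hy : y ≠ 0) (F G : L[X]) :
    Submodule.span L {x • F, y • G} = Submodule.span L {F, G} := by
  have := span_comb (F := F) (G := G) (c := 0) hx hy
  rwa [zero_smul, add_zero] at this

/-- two pencils are related by a flip at `a`, `b` -/
def Rel (p : ℕ) (a b : L) (e f : ℕ) (V V' : Submodule L L[X]) : Prop :=
  ∃ u v : L[X], V = Submodule.span L {(X - C a) ^ e * u, (X - C b) ^ f * v} ∧
    V' = Submodule.span L {(X - C b) ^ (p - f) * u, (X - C a) ^ (p - e) * v}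

theorem Rel.symm {a b : L} {e f : ℕ} (he : e ≤ p) (hf : f ≤ p) {V V' : Submodule L L[X]}
    (h : Rel p a b e f V V') : Rel p a b (p - e) (p - f) V' V := by
  obtain ⟨u, v, h1, h2⟩ := h
  refine ⟨v, u, ?_, ?_⟩
  · rw [h2, Set.pair_comm]
  · rw [h1, Nat.sub_sub_self he, Nat.sub_sub_self hf, Set.pair_comm]

theorem Rel.unique {a b : L} {e f : ℕ} (he : 1 ≤ e) (hf : 1 ≤ f) {V V₁ V₂ : Submodule L L[X]}
    (hV : ∀ c : L, ∃ s ∈ V, s.eval c ≠ 0)
    (h₁ : Rel p a b e f V V₁) (h₂ : Rel p a b e f V V₂) : V₁ = V₂ := by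
  obtain ⟨u₁, v₁, h₁, rfl⟩ := h₁
  obtain ⟨u₂, v₂, h₂, rfl⟩ := h₂
  have ea : ∀ w : L[X], ((X - C a) ^ e * w).eval a = 0 := by
    intro w
    rw [eval_mul, eval_pow, eval_sub, eval_X, eval_C, sub_self, zero_pow (by omega), zero_mul]
  have eb : ∀ w : L[X], ((X - C b) ^ f * w).eval b = 0 := by
    intro w
    rw [eval_mul, eval_pow, eval_sub, eval_X, eval_C, sub_self, zero_pow (by omega), zero_mul]
  have hv : ((X - C b) ^ f * v₁).eval a ≠ 0 := by
    intro h0
    obtain ⟨s, hs, hs0⟩ := hV a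
    rw [h₁] at hs
    obtain ⟨x, y, rfl⟩ := Submodule.mem_span_pair.1 hs
    apply hs0
    rw [eval_add, eval_smul, eval_smul, ea, h0, smul_zero, smul_zero, add_zero]
  have hu : ((X - C a) ^ e * u₁).eval b ≠ 0 := by
    intro h0
    obtain ⟨s, hs, hs0⟩ := hV b
    rw [h₁] at hs
    obtain ⟨x, y, rfl⟩ := Submodule.mem_span_pair.1 hs
    apply hs0
    rw [eval_add, eval_smul, eval_smul, eb, h0, smul_zero, smul_zero, add_zero]
  have hv₂ : v₂ ≠ 0 := by
    rintro rfl
    obtain ⟨s, hs, hs0⟩ := hV a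
    rw [h₂] at hs
    obtain ⟨x, y, rfl⟩ := Submodule.mem_span_pair.1 hs
    apply hs0
    rw [eval_add, eval_smul, eval_smul, ea, mul_zero, eval_zero, smul_zero, smul_zero, add_zero]
  have hu₂ : u₂ ≠ 0 := by
    rintro rfl
    obtain ⟨s, hs, hs0⟩ := hV b
    rw [h₂] at hs
    obtain ⟨x, y, rfl⟩ := Submodule.mem_span_pair.1 hs
    apply hs0
    rw [eval_add, eval_smul, eval_smul, eb, mul_zero, eval_zero, smul_zero, smul_zero, add_zero]
  have m1 : (X - C a) ^ e * u₂ ∈ Submodule.span L {(X - C a) ^ e * u₁, (X - C b) ^ f * v₁} := by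
    rw [← h₁, h₂]; exact Submodule.subset_span (by simp)
  have m2 : (X - C b) ^ f * v₂ ∈ Submodule.span L {(X - C a) ^ e * u₁, (X - C b) ^ f * v₁} := by
    rw [← h₁, h₂]; exact Submodule.subset_span (by simp)
  obtain ⟨x, y, hxy⟩ := Submodule.mem_span_pair.1 m1
  obtain ⟨x', y', hxy'⟩ := Submodule.mem_span_pair.1 m2
  have hy : y = 0 := by
    have := congrArg (eval a) hxy
    rw [eval_add, eval_smul, eval_smul, ea, ea, smul_zero, zero_add, smul_eq_mul,
      mul_eq_zero] at this
    exact this.resolve_right hv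
  have hx' : x' = 0 := by
    have := congrArg (eval b) hxy'
    rw [eval_add, eval_smul, eval_smul, eb, eb, smul_zero, add_zero, smul_eq_mul,
      mul_eq_zero] at this
    exact this.resolve_right hu
  rw [hy, zero_smul, add_zero, ← mul_smul_comm] at hxy
  rw [hx', zero_smul, zero_add, ← mul_smul_comm] at hxy'
  have h3 : u₂ = x • u₁ := (mul_left_cancel₀ (pow_ne_zero _ (X_sub_C_ne_zero a)) hxy).symm
  have h4 : v₂ = y' • v₁ := (mul_left_cancel₀ (pow_ne_zero _ (X_sub_C_ne_zero b)) hxy').symm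
  have hx : x ≠ 0 := by rintro rfl; rw [zero_smul] at h3; exact hu₂ h3
  have hy' : y' ≠ 0 := by rintro rfl; rw [zero_smul] at h4; exact hv₂ h4
  rw [h3, h4, mul_smul_comm, mul_smul_comm, span_smul_pair hx hy']

/-- the flip of a pencil separating the two points -/
theorem exists_rel [Fact p.Prime] [CharP L p] {n : ℕ} {P : Fin n → L}
    (hP : Function.Injective P) {e e' : Fin n → ℕ} {d d' : ℕ} (he : ∀ l, 1 ≤ e l)
    (hlt : ∀ l, e l < p) {i j : Fin n} (hij : i ≠ j)
    (hi : e' i = p - e i) (hj : e' j = p - e j) (hl : ∀ l, l ≠ i → l ≠ j → e' l = e l)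
    (hd' : (∑ l, e' l) + 2 = 2 * d' + n)
    (hdd : d' + e i + e j = d + p) {V : Submodule L L[X]} (hV : V ∈ ramMaps d P e)
    (hsep : ∀ s ∈ V, s.eval (P i) = 0 → s.eval (P j) = 0 → s = 0) :
    ∃ V' ∈ ramMaps d' P e', Rel p (P i) (P j) (e i) (e j) V V' := by
  have he' : ∀ l, 1 ≤ e' l := by
    intro l
    by_cases h1 : l = i
    · rw [h1, hi]; have := hlt i; omega
    · by_cases h2 : l = j
      · rw [h2, hj]; have := hlt j; omega
      · rw [hl l h1 h2]; exact he l
  obtain ⟨F, hF, hF0, hFm⟩ := (hV.2.2 i).1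
  obtain ⟨G, hG, hG0, hGm⟩ := (hV.2.2 j).1
  obtain ⟨u, hu⟩ := (le_rootMultiplicity_iff hF0).1 hFm
  obtain ⟨v, hv⟩ := (le_rootMultiplicity_iff hG0).1 hGm
  have hFi : F.eval (P i) = 0 := by
    rw [hu, eval_mul, eval_pow, eval_sub, eval_X, eval_C, sub_self,
      zero_pow (by have := he i; omega), zero_mul]
  have hGj : G.eval (P j) = 0 := by
    rw [hv, eval_mul, eval_pow, eval_sub, eval_X, eval_C, sub_self,
      zero_pow (by have := he j; omega), zero_mul]
  have hFj : F.eval (P j) ≠ 0 := fun h0 => hF0 (hsep F hF hFi h0)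
  have hGi : G.eval (P i) ≠ 0 := fun h0 => hG0 (hsep G hG h0 hGj)
  have hli : LinearIndependent L ![F, G] := by
    rw [LinearIndependent.pair_iff]
    intro x y hxy
    have h1 := congrArg (eval (P j)) hxy
    have h2 := congrArg (eval (P i)) hxy
    rw [eval_add, eval_smul, eval_smul, hGj, smul_zero, add_zero, eval_zero, smul_eq_mul,
      mul_eq_zero] at h1
    rw [eval_add, eval_smul, eval_smul, hFi, smul_zero, zero_add, eval_zero, smul_eq_mul,
      mul_eq_zero] at h2
    exact ⟨h1.resolve_right hFj, h2.resolve_right hGi⟩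
  have hVs := eq_span_pair hV.1.2.1 hF hG hli
  have hW := (isSeparable_iff hVs).1 hV.2.1
  set a := P i with ha
  set b := P j with hb
  have ei := hlt i
  have ej := hlt j
  have ei1 := he i
  have ej1 := he j
  set F' := (X - C b) ^ (p - e j) * u with hF'
  set G' := (X - C a) ^ (p - e i) * v with hG'
  set c := (X - C a) ^ (e i) * (X - C b) ^ (e j) with hc
  have hcF : c * F' = (X - C b) ^ p * F := by
    have : (X - C b) ^ p = (X - C b) ^ (e j) * (X - C b) ^ (p - e j) := by
      rw [← pow_add]; congr 1; omega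
    rw [hc, hF', this, hu]; ring
  have hcG : c * G' = (X - C a) ^ p * G := by
    have : (X - C a) ^ p = (X - C a) ^ (e i) * (X - C a) ^ (p - e i) := by
      rw [← pow_add]; congr 1; omega
    rw [hc, hG', this, hv]; ring
  have hW' : wronskian F' G' ≠ 0 := by
    intro h0
    have h1 := wr_of_mul (der_pow (p := p) a) (der_pow (p := p) b) hcF hcG
    rw [h0, mul_zero] at h1
    exact mul_ne_zero (mul_ne_zero (pow_ne_zero _ (X_sub_C_ne_zero a))
      (pow_ne_zero _ (X_sub_C_ne_zero b))) hW h1.symm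
  have hli' := linInd_of_wr hW'
  have du : u.natDegree + e i ≤ d := by
    have h1 := natDegree_le_of_mem hV.1.1 hF
    have hu0 : u ≠ 0 := by rintro rfl; rw [mul_zero] at hu; exact hF0 hu
    rw [hu, natDegree_mul (pow_ne_zero _ (X_sub_C_ne_zero _)) hu0, natDegree_pow,
      natDegree_X_sub_C, mul_one] at h1
    omega
  have dv : v.natDegree + e j ≤ d := by
    have h1 := natDegree_le_of_mem hV.1.1 hG
    have hv0 : v ≠ 0 := by rintro rfl; rw [mul_zero] at hv; exact hG0 hv
    rw [hv, natDegree_mul (pow_ne_zero _ (X_sub_C_ne_zero _)) hv0, natDegree_pow,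
      natDegree_X_sub_C, mul_one] at h1
    omega
  have dF' : F'.natDegree ≤ d' := by
    refine natDegree_mul_le.trans ?_
    rw [natDegree_pow, natDegree_X_sub_C, mul_one]
    omega
  have dG' : G'.natDegree ≤ d' := by
    refine natDegree_mul_le.trans ?_
    rw [natDegree_pow, natDegree_X_sub_C, mul_one]
    omega
  refine ⟨Submodule.span L {F', G'}, ?_, u, v, ?_, rfl⟩
  · refine span_mem_ramMaps hP he' hd' dF' dG' hW' ?_
    intro l
    by_cases h1 : l = i
    · refine ⟨G', Submodule.subset_span (by simp), hli'.ne_zero 1, ?_⟩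
      rw [h1, hi]
      exact Dvd.intro _ rfl
    by_cases h2 : l = j
    · refine ⟨F', Submodule.subset_span (by simp), hli'.ne_zero 0, ?_⟩
      rw [h2, hj]
      exact Dvd.intro _ rfl
    rw [hl l h1 h2]
    obtain ⟨s, hs, hs0, hsd⟩ := schubert_of_mem hV hVs l
    obtain ⟨x, y, rfl⟩ := Submodule.mem_span_pair.1 hs
    have hla : P l - a ≠ 0 := sub_ne_zero.2 (fun h => h1 (hP h))
    have hlb : P l - b ≠ 0 := sub_ne_zero.2 (fun h => h2 (hP h))
    set A := (P l - a) ^ p with hA
    set B := (P l - b) ^ p with hB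
    have hA0 : A ≠ 0 := pow_ne_zero _ hla
    have hB0 : B ≠ 0 := pow_ne_zero _ hlb
    refine ⟨(x * A) • F' + (y * B) • G', Submodule.mem_span_pair.2 ⟨_, _, rfl⟩, ?_, ?_⟩
    · intro h0
      obtain ⟨h3, h4⟩ := LinearIndependent.pair_iff.1 hli' _ _ h0
      rw [(mul_eq_zero.1 h3).resolve_right hA0, (mul_eq_zero.1 h4).resolve_right hB0] at hs0
      simp at hs0
    · have hcop : IsCoprime ((X - C (P l)) ^ (e l)) c := by
        refine IsCoprime.mul_right (IsCoprime.pow ?_) (IsCoprime.pow ?_)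
        · exact isCoprime_X_sub_C_of_isUnit_sub (isUnit_iff_ne_zero.2 hla)
        · exact isCoprime_X_sub_C_of_isUnit_sub (isUnit_iff_ne_zero.2 hlb)
      apply hcop.dvd_of_dvd_mul_left
      have h3 : (X - C (P l)) ^ (e l) ∣ (X - C a) ^ p - C A :=
        (pow_dvd_pow _ (hlt l).le).trans (pow_dvd_sub a (P l))
      have h4 : (X - C (P l)) ^ (e l) ∣ (X - C b) ^ p - C B :=
        (pow_dvd_pow _ (hlt l).le).trans (pow_dvd_sub b (P l))
      have h5 : c * ((x * A) • F' + (y * B) • G') =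
          C (A * B) * (x • F + y • G) + C (x * A) * F * ((X - C b) ^ p - C B) +
            C (y * B) * G * ((X - C a) ^ p - C A) := by
        have : c * ((x * A) • F' + (y * B) • G') = C (x * A) * (c * F') + C (y * B) * (c * G') := by
          rw [smul_eq_C_mul, smul_eq_C_mul]; ring
        rw [this, hcF, hcG]
        simp only [smul_eq_C_mul, C_mul]
        ring
      rw [h5]
      exact dvd_add (dvd_add (Dvd.dvd.mul_left hsd _) (Dvd.dvd.mul_left h4 _))
        (Dvd.dvd.mul_left h3 _)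
  · rw [hVs, ← hu, ← hv]

theorem card_le [Fact p.Prime] [CharP L p] {n : ℕ} {P : Fin n → L}
    (hP : Function.Injective P) {e e' : Fin n → ℕ} {d d' : ℕ} (he : ∀ l, 1 ≤ e l)
    (hlt : ∀ l, e l < p) {i j : Fin n} (hij : i ≠ j)
    (hi : e' i = p - e i) (hj : e' j = p - e j) (hl : ∀ l, l ≠ i → l ≠ j → e' l = e l)
    (hd' : (∑ l, e' l) + 2 = 2 * d' + n)
    (hdd : d' + e i + e j = d + p)
    (hfin : (ramMaps d' P e').Finite)
    (hsep : ∀ V ∈ ramMaps d P e, ∀ s ∈ V, s.eval (P i) = 0 → s.eval (P j) = 0 → s = 0) :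
    Nat.card (ramMaps d P e) ≤ Nat.card (ramMaps d' P e') := by
  choose! φ hφ1 hφ2 using fun V hV =>
    exists_rel hP he hlt hij hi hj hl hd' hdd (V := V) hV (hsep V hV)
  have : Finite (ramMaps d' P e') := hfin
  refine Nat.card_le_card_of_injective
    (fun V : ramMaps d P e => (⟨φ V.1, hφ1 V.1 V.2⟩ : ramMaps d' P e')) ?_
  intro V V' h
  have h1 : φ V.1 = φ V'.1 := congrArg Subtype.val h
  have h2 := (hφ2 V.1 V.2).symm (hlt i).le (hlt j).le
  have h3 := (hφ2 V'.1 V'.2).symm (hlt i).le (hlt j).le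
  rw [← h1] at h3
  exact Subtype.ext (Rel.unique (by have := hlt i; omega) (by have := hlt j; omega)
    (hφ1 V.1 V.2).1.2.2.2 h2 h3)

end Field

/-- **Invariance of the generic count under a flip.** -/
theorem hasGenericCount_flip {k : Type u} [Field k] [IsAlgClosed k] {p : ℕ} [Fact p.Prime]
    [CharP k p] {n : ℕ} {e e' : Fin n → ℕ} {d d' : ℕ} (he : ∀ l, 1 ≤ e l)
    (hlt : ∀ l, e l < p) {i j : Fin n} (hij : i ≠ j)
    (hi : e' i = p - e i) (hj : e' j = p - e j) (hl : ∀ l, l ≠ i → l ≠ j → e' l = e l)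
    (hd : (∑ l, e l) + 2 = 2 * d + n) (hd' : (∑ l, e' l) + 2 = 2 * d' + n)
    (hdd : d' + e i + e j = d + p) (m : ℕ) :
    HasGenericCount (k := k) d e m ↔ HasGenericCount (k := k) d' e' m := by
  obtain ⟨L, _, _, _, P, hP⟩ := GenSep.exists_generic k n
  have : CharP L p := charP_of_injective_algebraMap (algebraMap k L).injective p
  have he' : ∀ l, 1 ≤ e' l := by
    intro l
    by_cases h1 : l = i
    · rw [h1, hi]; have := hlt i; omega
    · by_cases h2 : l = j
      · rw [h2, hj]; have := hlt j; omega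
      · rw [hl l h1 h2]; exact he l
  have hlt' : ∀ l, e' l < p := by
    intro l
    by_cases h1 : l = i
    · rw [h1, hi]; have := he i; have := hlt i; omega
    · by_cases h2 : l = j
      · rw [h2, hj]; have := he j; have := hlt j; omega
      · rw [hl l h1 h2]; exact hlt l
  have cast_ne : ∀ m : ℕ, 1 ≤ m → m < p → (m : k) ≠ 0 := by
    intro m h1 h2 h3
    rw [CharP.cast_eq_zero_iff k p] at h3
    exact absurd (Nat.le_of_dvd h1 h3) (by omega)
  have heK : ∀ l, (e l : k) ≠ 0 := fun l => cast_ne _ (he l) (hlt l)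
  have heK' : ∀ l, (e' l : k) ≠ 0 := fun l => cast_ne _ (he' l) (hlt' l)
  rw [hasGenericCount_iff hP he heK hd, hasGenericCount_iff hP he' heK' hd']
  have h1 := card_le (p := p) hP.injective he hlt hij hi hj hl hd' hdd
    (ramMaps_finite hP he' heK' hd') (fun V hV s hs h1 h2 => separate hP he heK hd hV hij hs h1 h2)
  have h2 := card_le (p := p) hP.injective (e := e') (e' := e) (d := d') (d' := d) he' hlt' hij
    (by rw [hi]; have := hlt i; omega) (by rw [hj]; have := hlt j; omega)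
    (fun l h1 h2 => (hl l h1 h2).symm) hd (by rw [hi, hj]; have := hlt i; have := hlt j; omega)
    (ramMaps_finite hP he heK hd)
    (fun V hV s hs h1 h2 => separate hP he' heK' hd' hV hij hs h1 h2)
  rw [le_antisymm h1 h2]

end K807.Flip
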