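import Groth.Agent.W4c1limliniiii.K807.MainA

/-!
# Assembly: the recursion for the generic counts
-/

set_option autoImplicit false
set_option linter.style.haveILetI false
set_option linter.unusedSectionVars false
universe u

open Polynomial

namespace K807.MainB

open K807.Wr K807.Pencil K807.Bound K807.Normal K807.Rigid K807.Family
open K807.MainA K807.GenCount W4c1limliniiii

variable {k : Type u} [Field k] {p : ℕ} [CharP k p]

theorem eq_ind {n : ℕ} (e' : Fin (n + 2) → ℕ) :
    e' = ind (fun i : Fin n => e' i.castSucc.castSucc) (e' (Fin.castSucc (Fin.last n)))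
      (e' (Fin.last (n + 1))) := by
  funext i
  refine Fin.lastCases ?_ (fun i => ?_) i
  · rw [ind, Fin.snoc_last]
  · rw [ind, Fin.snoc_castSucc]
    refine Fin.lastCases ?_ (fun i => ?_) i
    · rw [Fin.snoc_last]
    · rw [Fin.snoc_castSucc]

theorem le_of_mem {K : Type*} [Field K] {n : ℕ} {P : Fin n → K} {e : Fin n → ℕ} {d : ℕ}
    {V : Submodule K K[X]} (hV : V ∈ ramMaps d P e) (i : Fin n) : e i ≤ d := by
  obtain ⟨s, hs, hs0, hm⟩ := (hV.2.2 i).1
  have h1 := (le_rootMultiplicity_iff hs0).1 hm
  have h2 := natDegree_le_of_dvd h1 hs0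
  rw [natDegree_pow, natDegree_X_sub_C, mul_one] at h2
  exact h2.trans (natDegree_le_of_mem hV.1.1 hs)

/-- **The induction step for rigidity.** -/
theorem rigAll_step (hMb : p ≠ 0 → MbarProp.{u} p) {n : ℕ} (hR : RigAll k p (n + 1)) :
    RigAll k p (n + 2) := by
  intro K _ _ _ P hP e' d he' hlt' hd V hV
  set e : Fin n → ℕ := fun i => e' i.castSucc.castSucc with hedef
  set a := e' (Fin.castSucc (Fin.last n)) with ha
  set b := e' (Fin.last (n + 1)) with hb
  have hee : e' = ind e a b := eq_ind e'
  have hsum : (∑ i, e i) + a + b = 2 * d + n := by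
    rw [hee, sum_ind] at hd; omega
  have he : ∀ i, 1 ≤ e i := fun i => he' _
  have hlt : ∀ i, p = 0 ∨ e i < p := fun i => hlt' _
  have ha1 : 1 ≤ a := he' _
  have hb1 : 1 ≤ b := he' _
  by_cases hpab : p = 0 ∨ a + b ≤ p
  · rw [hee] at hV ⊢
    exact (step_small hMb hR hP hpab he hlt ha1 hb1 hsum).1 V hV
  push Not at hpab
  obtain ⟨hp0, hpab⟩ := hpab
  haveI : Fact p.Prime := ⟨(CharP.char_is_prime_or_zero k p).resolve_right hp0⟩
  haveI hpK : CharP K p := charP_of_injective_algebraMap (algebraMap k _).injective p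
  have hltp : ∀ i, e' i < p := fun i => (hlt' i).resolve_left hp0
  have hap : a < p := hltp _
  have hbp : b < p := hltp _
  have had : a ≤ d := le_of_mem hV _
  have hbd : b ≤ d := le_of_mem hV _
  set i := Fin.castSucc (Fin.last n) with hi
  set j := Fin.last (n + 1) with hj
  have hij : i ≠ j := (Fin.castSucc_lt_last _).ne
  set e'' := ind e (p - a) (p - b) with he''
  have hei : e'' i = p - e' i := by rw [he'', hi, ind, Fin.snoc_castSucc, Fin.snoc_last]
  have hej : e'' j = p - e' j := by rw [he'', hj, ind, Fin.snoc_last]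
  have hel : ∀ l, l ≠ i → l ≠ j → e'' l = e' l := by
    intro l
    refine Fin.lastCases ?_ (fun l => ?_) l
    · intro _ h; exact absurd rfl h
    · refine Fin.lastCases ?_ (fun l => ?_) l
      · intro h _; exact absurd rfl h
      · intro _ _
        rw [he'', ind, Fin.snoc_castSucc, Fin.snoc_castSucc]
  have hsum'' : (∑ i, e i) + (p - a) + (p - b) = 2 * (d + p - a - b) + n := by omega
  have hd'' : (∑ l, e'' l) + 2 = 2 * (d + p - a - b) + (n + 2) := by
    rw [he'', sum_ind]; omega
  have hdd : (d + p - a - b) + e' i + e' j = d + p := by omega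
  obtain ⟨V', hV', hrel⟩ := Flip.exists_rel (p := p) hP.injective he' hltp hij hei hej hel hd'' hdd
    hV (fun s hs h1 h2 => separate hP he' (fun i => cast_ne p (he' i) (hlt' i)) hd hV hij hs h1 h2)
  refine rigid_flip hP.injective he' hltp hei hej hel hdd hV hV' hrel ?_
  exact (step_small hMb hR hP (Or.inr (by omega)) he hlt (by omega) (by omega) hsum'').1 V' hV'

theorem rigAll (hMb : p ≠ 0 → MbarProp.{u} p) : ∀ n : ℕ, RigAll k p (n + 3) := by
  intro n
  induction n with
  | zero =>
    intro K _ _ _ P hP e d _ _ hd V hV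
    exact rigid_three hP.injective hd hV
  | succ n ih => exact rigAll_step hMb ih

/-- the recursion when the two indices are small -/
theorem count_small (hMb : p ≠ 0 → MbarProp.{u} p) [IsAlgClosed k] {n : ℕ} (hn : 2 ≤ n)
    {e : Fin n → ℕ} {a b d : ℕ}
    (hpab : p = 0 ∨ a + b ≤ p) (he : ∀ i, 1 ≤ e i) (hlt : ∀ i, p = 0 ∨ e i < p)
    (ha : 1 ≤ a) (hb : 1 ≤ b) (hsum : (∑ i, e i) + a + b = 2 * d + n) (M : ℕ → ℕ)
    (hM : ∀ m, m < a → m < b → m ≤ d → HasGenericCount (k := k) (d - m)
      (Fin.snoc e (a + b - 1 - 2 * m) : Fin (n + 1) → ℕ) (M m)) :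
    HasGenericCount (k := k) d (ind e a b)
      (∑ m ∈ (Finset.range (d + 1)).filter (fun m => m < a ∧ m < b), M m) := by
  obtain ⟨n, rfl⟩ : ∃ n', n = n' + 2 := ⟨n - 2, by omega⟩
  obtain ⟨L, _, _, _, P, hP⟩ := GenSep.exists_generic k (n + 2 + 2)
  obtain ⟨-, κ, _, _, _, P', hP', hcard⟩ := step_small hMb (rigAll (k := k) hMb n) hP hpab he hlt
    ha hb hsum
  have hi := ind_pos he ha hb
  have hlt' : ∀ i, p = 0 ∨ ind e a b i < p := by
    apply snoc_lt
    · exact snoc_lt hlt (by omega)
    · omega
  rw [hasGenericCount_iff hP hi (fun i => cast_ne p (hi i) (hlt' i)) (by rw [sum_ind]; omega),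
    hcard]
  apply Finset.sum_congr rfl
  intro m hm
  rw [Finset.mem_filter, Finset.mem_range] at hm
  have h1 := hM m hm.2.1 hm.2.2 (by omega)
  have he' := snoc_pos (c := a + b - 1 - 2 * m) he (by omega)
  have hlt'' : ∀ i, p = 0 ∨ (Fin.snoc e (a + b - 1 - 2 * m) : Fin (n + 2 + 1) → ℕ) i < p :=
    snoc_lt hlt (by omega)
  rwa [hasGenericCount_iff hP' he' (fun i => cast_ne p (he' i) (hlt'' i))
    (sum_snoc_eq hsum (by omega) (by omega) rfl)] at h1

/-- **The recursion.** -/
theorem main (hMb : p ≠ 0 → MbarProp.{u} p) [IsAlgClosed k] {d n : ℕ} (hn : 2 ≤ n)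
    {e : Fin n → ℕ} {a b : ℕ} (he : ∀ i, 1 ≤ e i) (hlt : ∀ i, p = 0 ∨ e i < p)
    (ha : 1 ≤ a) (hb : 1 ≤ b) (had : a ≤ d) (hbd : b ≤ d) (hap : p = 0 ∨ a < p)
    (hbp : p = 0 ∨ b < p) (hsum : (∑ i, e i) + a + b = 2 * d + n) :
    let R : Finset ℕ := (Finset.Icc (max (d + 1 - a) (d + 1 - b)) d).filter
      (fun d' => p = 0 ∨ d' + a + b ≤ p + d)
    (∀ d' ∈ R, ∃ m : ℕ, HasGenericCount (k := k) d'
      (Fin.snoc e (2 * d' + a + b - (2 * d + 1)) : Fin (n + 1) → ℕ) m) ∧
    ∀ m : ℕ → ℕ, (∀ d' ∈ R, HasGenericCount (k := k) d'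
      (Fin.snoc e (2 * d' + a + b - (2 * d + 1)) : Fin (n + 1) → ℕ) (m d')) →
      HasGenericCount (k := k) d (Fin.snoc (Fin.snoc e a) b : Fin (n + 2) → ℕ)
        (∑ d' ∈ R, m d') := by
  intro R
  have hmemR : ∀ d', d' ∈ R ↔ (d + 1 - a ≤ d' ∧ d + 1 - b ≤ d' ∧ d' ≤ d) ∧
      (p = 0 ∨ d' + a + b ≤ p + d) := by
    intro d'
    rw [Finset.mem_filter, Finset.mem_Icc, max_le_iff]
    tauto
  constructor
  · intro d' hd'
    rw [hmemR] at hd'
    obtain ⟨L, _, _, _, P, hP⟩ := GenSep.exists_generic k (n + 1)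
    have he' := snoc_pos (c := 2 * d' + a + b - (2 * d + 1)) he (by omega)
    have hlt' : ∀ i, p = 0 ∨ (Fin.snoc e (2 * d' + a + b - (2 * d + 1)) : Fin (n + 1) → ℕ) i < p :=
      snoc_lt hlt (by omega)
    have hs : (∑ i, (Fin.snoc e (2 * d' + a + b - (2 * d + 1)) : Fin (n + 1) → ℕ) i) + 2 =
        2 * d' + (n + 1) := by
      rw [Fin.sum_snoc]; omega
    exact ⟨_, (hasGenericCount_iff hP he' (fun i => cast_ne p (he' i) (hlt' i)) hs _).2 rfl⟩
  · intro m hm
    by_cases hpab : p = 0 ∨ a + b ≤ p
    · have h1 := count_small hMb hn hpab he hlt ha hb hsum (fun j => m (d - j)) (by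
        intro j hja hjb hjd
        have h2 := hm (d - j) (by rw [hmemR]; omega)
        have h3 : 2 * (d - j) + a + b - (2 * d + 1) = a + b - 1 - 2 * j := by omega
        rwa [h3] at h2)
      have h4 : ∑ j ∈ (Finset.range (d + 1)).filter (fun j => j < a ∧ j < b), m (d - j) =
          ∑ d' ∈ R, m d' := by
        refine Finset.sum_nbij' (fun j => d - j) (fun d' => d - d') ?_ ?_ ?_ ?_ ?_
        · intro j hj
          rw [Finset.mem_filter, Finset.mem_range] at hj
          rw [hmemR]; omega
        · intro d' hd'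
          rw [hmemR] at hd'
          rw [Finset.mem_filter, Finset.mem_range]; omega
        · intro j hj
          rw [Finset.mem_filter, Finset.mem_range] at hj
          show d - (d - j) = j
          omega
        · intro d' hd'
          rw [hmemR] at hd'
          show d - (d - d') = d'
          omega
        · intro j _; rfl
      rw [← h4]
      exact h1
    · push Not at hpab
      obtain ⟨hp0, hpab⟩ := hpab
      haveI : Fact p.Prime := ⟨(CharP.char_is_prime_or_zero k p).resolve_right hp0⟩
      have hap' := hap.resolve_left hp0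
      have hbp' := hbp.resolve_left hp0
      have hltp : ∀ i, e i < p := fun i => (hlt i).resolve_left hp0
      set d₁ := d + p - a - b with hd₁
      have h1 := count_small hMb hn (a := p - a) (b := p - b) (d := d₁) (Or.inr (by omega)) he hlt
        (by omega) (by omega) (by omega) (fun j => m (d₁ - j)) (by
        intro j hja hjb hjd
        have h2 := hm (d₁ - j) (by rw [hmemR]; omega)
        have h3 : 2 * (d₁ - j) + a + b - (2 * d + 1) = (p - a) + (p - b) - 1 - 2 * j := by omega
        rwa [h3] at h2)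
      have h4 : ∑ j ∈ (Finset.range (d₁ + 1)).filter (fun j => j < p - a ∧ j < p - b),
          m (d₁ - j) = ∑ d' ∈ R, m d' := by
        refine Finset.sum_nbij' (fun j => d₁ - j) (fun d' => d₁ - d') ?_ ?_ ?_ ?_ ?_
        · intro j hj
          rw [Finset.mem_filter, Finset.mem_range] at hj
          rw [hmemR]; omega
        · intro d' hd'
          rw [hmemR] at hd'
          rw [Finset.mem_filter, Finset.mem_range]; omega
        · intro j hj
          rw [Finset.mem_filter, Finset.mem_range] at hj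
          show d₁ - (d₁ - j) = j
          omega
        · intro d' hd'
          rw [hmemR] at hd'
          show d₁ - (d₁ - d') = d'
          omega
        · intro j _; rfl
      rw [← h4]
      set i := Fin.castSucc (Fin.last n) with hi
      set j := Fin.last (n + 1) with hj
      have hij : i ≠ j := (Fin.castSucc_lt_last _).ne
      have hei : ind e (p - a) (p - b) i = p - ind e a b i := by
        rw [hi, ind, ind, Fin.snoc_castSucc, Fin.snoc_last, Fin.snoc_castSucc, Fin.snoc_last]
      have hej : ind e (p - a) (p - b) j = p - ind e a b j := by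
        rw [hj, ind, ind, Fin.snoc_last, Fin.snoc_last]
      have hel : ∀ l, l ≠ i → l ≠ j → ind e (p - a) (p - b) l = ind e a b l := by
        intro l
        refine Fin.lastCases ?_ (fun l => ?_) l
        · intro _ h; exact absurd rfl h
        · refine Fin.lastCases ?_ (fun l => ?_) l
          · intro h _; exact absurd rfl h
          · intro _ _
            rw [ind, ind, Fin.snoc_castSucc, Fin.snoc_castSucc, Fin.snoc_castSucc,
              Fin.snoc_castSucc]
      have hlt' : ∀ i, ind e a b i < p := by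
        rw [forall_snoc, forall_snoc]
        refine ⟨⟨fun i => ?_, ?_⟩, ?_⟩
        · rw [ind, Fin.snoc_castSucc, Fin.snoc_castSucc]; exact hltp i
        · rw [ind, Fin.snoc_castSucc, Fin.snoc_last]; exact hap'
        · rw [ind, Fin.snoc_last]; exact hbp'
      have hai : ind e a b i = a := by rw [hi, ind, Fin.snoc_castSucc, Fin.snoc_last]
      have hbj : ind e a b j = b := by rw [hj, ind, Fin.snoc_last]
      have h5 := (Flip.hasGenericCount_flip (k := k) (p := p) (e := ind e a b)
        (e' := ind e (p - a) (p - b)) (d := d) (d' := d₁) (ind_pos he ha hb) hlt' hij hei hej hel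
        (by rw [sum_ind]; omega) (by rw [sum_ind]; omega) (by rw [hai, hbj]; omega) _).2 h1
      exact h5

end K807.MainB
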