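import Groth.Agent.W4c1limliniiii.K807.Normal
import Mathlib.FieldTheory.IsAlgClosed.AlgebraicClosure
import Mathlib.Algebra.MvPolynomial.Funext

/-!
# Finiteness at generic points and transfer of generic counts
-/

set_option autoImplicit false
set_option linter.style.haveILetI false
universe u

open Polynomial

namespace K807.GenCount

open K807.Wr K807.Pencil K807.Bound K807.Normal K807.Gen W4c1limliniiii

theorem value_iff {R : Type*} [CommRing R] {σ : Type*} (I : Set (MvPolynomial σ R)) (s : σ)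
    {K : Type*} [Field K] (θ : Polynomial R →+* K) (x : σ → K) :
    (∀ f ∈ insert (MvPolynomial.X s - MvPolynomial.C (X : Polynomial R))
      (MvPolynomial.map (C : R →+* Polynomial R) '' I), MvPolynomial.eval₂ θ x f = 0) ↔
      (x s = θ X ∧ x ∈ Transfer.Z (θ.comp C) I) := by
  constructor
  · intro h
    constructor
    · have := h _ (Set.mem_insert _ _)
      rw [MvPolynomial.eval₂_sub, MvPolynomial.eval₂_X, MvPolynomial.eval₂_C] at this
      exact sub_eq_zero.1 this
    · intro f hf
      have := h _ (Set.mem_insert_of_mem _ ⟨f, hf, rfl⟩)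
      rwa [MvPolynomial.eval₂_map] at this
  · rintro ⟨h1, h2⟩ f (rfl | ⟨f, hf, rfl⟩)
    · rw [MvPolynomial.eval₂_sub, MvPolynomial.eval₂_X, MvPolynomial.eval₂_C, h1, sub_self]
    · rw [MvPolynomial.eval₂_map]
      exact h2 f hf

/-- a system all of whose generic solutions are algebraic has finitely many generic solutions -/
theorem finite_of_algebraic {R : Type u} [CommRing R] [IsDomain R] [IsNoetherianRing R]
    {σ : Type*} [Finite σ] (I : Set (MvPolynomial σ R))
    (hI : ∀ (Ω : Type u) [Field Ω] [IsAlgClosed Ω] (θ : R →+* Ω), Function.Injective θ →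
      ∀ x ∈ Transfer.Z θ I, ∀ s, ∃ q : Polynomial R, q ≠ 0 ∧ q.eval₂ θ (x s) = 0)
    {L : Type*} [Field L] (θL : R →+* L) (hL : Function.Injective θL) :
    (Transfer.Z θL I).Finite := by
  classical
  have h1 : ∀ s : σ, ((fun x : σ → L => x s) '' Transfer.Z θL I).Finite := by
    intro s
    let R₁ := Polynomial R
    let I₁ : Set (MvPolynomial σ R₁) :=
      insert (MvPolynomial.X s - MvPolynomial.C (X : R₁)) (MvPolynomial.map (C : R →+* R₁) '' I)
    let Ω := AlgebraicClosure (FractionRing R₁)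
    let θ₁ : R₁ →+* Ω := (algebraMap (FractionRing R₁) Ω).comp (algebraMap R₁ (FractionRing R₁))
    have hθ₁ : Function.Injective θ₁ :=
      (algebraMap (FractionRing R₁) Ω).injective.comp (IsFractionRing.injective R₁ _)
    obtain ⟨Φ, hΦ, hs⟩ := Transfer.exists_unsolvable θ₁ hθ₁ I₁ 1 (by
      rintro ⟨x, hx, -⟩
      rw [value_iff] at hx
      obtain ⟨q, hq0, hq⟩ := hI Ω (θ₁.comp C) (hθ₁.comp C_injective) x hx.2 s
      apply hq0
      apply hθ₁
      rw [map_zero, ← hq, hx.1, ← hom_eval₂]
      congr 1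
      exact (eval₂_C_X (p := q)).symm)
    refine Set.Finite.subset (Finset.finite_toSet (Φ.map θL).roots.toFinset) ?_
    rintro _ ⟨x, hx, rfl⟩
    rw [Finset.mem_coe, Multiset.mem_toFinset, mem_roots ((Polynomial.map_ne_zero_iff hL).2 hΦ),
      IsRoot.def, eval_map]
    by_contra hne
    refine hs (eval₂RingHom θL (x s)) hne ⟨x, ?_, ?_⟩
    · rw [value_iff]
      refine ⟨by simp, ?_⟩
      have : (eval₂RingHom θL (x s)).comp C = θL := by
        ext r; simp
      rw [this]
      exact hx
    · simp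
  refine Set.Finite.subset (Set.Finite.pi' h1) ?_
  intro x hx s
  exact ⟨x, hx, rfl⟩

section Main

variable {k : Type u} [Field k] {n : ℕ} {e : Fin n → ℕ} {d : ℕ}

theorem ramMaps_finite {L : Type*} [Field L] [IsAlgClosed L] [Algebra k L] {P : Fin n → L}
    (hP : AlgebraicIndependent k P) (he : ∀ i, 1 ≤ e i) (heK : ∀ i, (e i : k) ≠ 0)
    (hd : (∑ i, e i) + 2 = 2 * d + n) : (ramMaps d P e).Finite := by
  have hd1 : 1 ≤ d := one_le_of_sum he hd
  let R := MvPolynomial (Fin n) k
  let θ : R →+* L := (MvPolynomial.aeval P : R →ₐ[k] L).toRingHom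
  have hθ : Function.Injective θ := hP
  have hPθ : (fun i => θ (MvPolynomial.X i)) = P := by
    funext i
    exact MvPolynomial.aeval_X P i
  have hb := bijOn θ (x := fun i : Fin n => (MvPolynomial.X i : R)) (e := e) (d := d)
    (by rw [hPθ]; exact hP.injective) he hd
  rw [hPθ] at hb
  rw [← hb.image_eq]
  apply Set.Finite.image
  apply finite_of_algebraic (R := R) _ ?_ θ hθ
  intro Ω _ _ θ' hθ' z hz s
  letI : Algebra k Ω := (θ'.comp MvPolynomial.C).toAlgebra
  let P' : Fin n → Ω := fun i => θ' (MvPolynomial.X i)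
  have hθ'P : (MvPolynomial.aeval P' : R →ₐ[k] Ω).toRingHom = θ' := by
    apply MvPolynomial.ringHom_ext
    · intro r
      show MvPolynomial.aeval P' (MvPolynomial.C r) = _
      rw [MvPolynomial.aeval_C]
      rfl
    · intro i
      show MvPolynomial.aeval P' (MvPolynomial.X i) = _
      rw [MvPolynomial.aeval_X]
  have hP' : AlgebraicIndependent k P' := by
    have : Function.Injective (MvPolynomial.aeval P' : R →ₐ[k] Ω).toRingHom := by
      rw [hθ'P]; exact hθ'
    exact this
  have hb' := bijOn θ' (x := fun i : Fin n => (MvPolynomial.X i : R)) (e := e) (d := d)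
    hP'.injective he hd
  have hV := hb'.1 hz
  obtain ⟨F, G, hNP, hFG⟩ := exists_np hP'.injective he hd hV
  obtain ⟨-, -, hF, hG⟩ := NP.generic hNP hP' he heK (by omega)
  have hc : (((d - 1 : ℕ) : Ω) - (d : ℕ)) ≠ 0 := by
    rw [Nat.cast_sub hd1]; simp
  obtain ⟨h1, -, -⟩ := (mem_Z_iff θ' (by omega) hc z).1 hz
  have cmp : ∀ (α : ℕ) (a : Fin α → Ω), (mp α a).coeff α = 1 := by
    intro α a
    have := (monic_mp α a).coeff_natDegree
    rwa [natDegree_mp] at this
  have dmp : ∀ (a : Fin (d - 1) → Ω), (mp (d - 1) a).coeff d = 0 := by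
    intro a
    apply coeff_eq_zero_of_natDegree_lt
    rw [natDegree_mp]; omega
  obtain ⟨g1, g2⟩ := eq_of_span_eq (cmp _ _) hNP.cF h1 hNP.nrm (cmp _ _) hNP.cG
    (dmp _) (coeff_eq_zero_of_natDegree_lt (by rw [hNP.dG]; omega)) hFG
  rcases s with j | j
  · have h2 : z (Sum.inl j) = F.coeff j := by
      rw [← g1, coeff_mp]
    obtain ⟨q, hq0, hq⟩ := hF j
    refine ⟨q, hq0, ?_⟩
    rw [h2, ← hq, hθ'P]
  · have h2 : z (Sum.inr j) = G.coeff j := by
      rw [← g2, coeff_mp]
    obtain ⟨q, hq0, hq⟩ := hG j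
    refine ⟨q, hq0, ?_⟩
    rw [h2, ← hq, hθ'P]

variable [IsAlgClosed k]

omit [IsAlgClosed k] in
/-- at generic points a pencil separates the ramification points -/
theorem separate {L : Type u} [Field L] [IsAlgClosed L] [Algebra k L] {P : Fin n → L}
    (hP : AlgebraicIndependent k P) (he : ∀ i, 1 ≤ e i) (heK : ∀ i, (e i : k) ≠ 0)
    (hd : (∑ i, e i) + 2 = 2 * d + n) {V : Submodule L L[X]} (hV : V ∈ ramMaps d P e)
    {i j : Fin n} (hij : i ≠ j) {s : L[X]} (hs : s ∈ V) (h1 : s.eval (P i) = 0)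
    (h2 : s.eval (P j) = 0) : s = 0 := by
  have hd1 : 1 ≤ d := one_le_of_sum he hd
  obtain ⟨F, G, hNP, rfl⟩ := exists_np hP.injective he hd hV
  obtain ⟨hG, hQ, -, -⟩ := NP.generic hNP hP he heK (by omega)
  obtain ⟨a, b, rfl⟩ := Submodule.mem_span_pair.1 hs
  rw [eval_add, eval_smul, eval_smul, smul_eq_mul, smul_eq_mul] at h1 h2
  by_cases ha : a = 0
  · subst ha
    rw [zero_mul, zero_add, mul_eq_zero] at h1
    rw [h1.resolve_right (hG i), zero_smul, zero_smul, add_zero]
  · exfalso
    apply hij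
    apply hQ
    rw [div_eq_div_iff (hG i) (hG j)]
    have : a * (F.eval (P i) * G.eval (P j) - F.eval (P j) * G.eval (P i)) = 0 := by
      linear_combination G.eval (P j) * h1 - G.eval (P i) * h2
    exact sub_eq_zero.1 ((mul_eq_zero.1 this).resolve_left ha)

/-- non-coincidence polynomial -/
noncomputable def vdm (k : Type*) [Field k] (n : ℕ) : MvPolynomial (Fin n) k :=
  ∏ p : {p : Fin n × Fin n // p.1 ≠ p.2}, (MvPolynomial.X p.1.1 - MvPolynomial.X p.1.2)

theorem vdm_ne_zero (k : Type*) [Field k] (n : ℕ) : vdm k n ≠ 0 := by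
  refine Finset.prod_ne_zero_iff.2 fun p _ => ?_
  intro h
  exact p.2 (MvPolynomial.X_injective (sub_eq_zero.1 h))

theorem injective_of_vdm {k : Type*} [Field k] {n : ℕ} {P : Fin n → k}
    (h : MvPolynomial.eval P (vdm k n) ≠ 0) : Function.Injective P := by
  intro i j hij
  by_contra hne
  rw [vdm, map_prod] at h
  apply Finset.prod_ne_zero_iff.1 h ⟨(i, j), hne⟩ (Finset.mem_univ _)
  rw [map_sub, MvPolynomial.eval_X, MvPolynomial.eval_X]
  exact sub_eq_zero.2 hij

/-- **Transfer of counts**: the generic count is the count at algebraically independent points. -/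
theorem hasGenericCount {L : Type*} [Field L] [IsAlgClosed L] [Algebra k L] {P : Fin n → L}
    (hP : AlgebraicIndependent k P) (he : ∀ i, 1 ≤ e i)
    (hd : (∑ i, e i) + 2 = 2 * d + n) (hfin : (ramMaps d P e).Finite) :
    HasGenericCount (k := k) d e (Nat.card (ramMaps d P e)) := by
  let R := MvPolynomial (Fin n) k
  let θ : R →+* L := (MvPolynomial.aeval P : R →ₐ[k] L).toRingHom
  have hθ : Function.Injective θ := hP
  have hPθ : (fun i => θ (MvPolynomial.X i)) = P := by
    funext i
    exact MvPolynomial.aeval_X P i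
  have hb := bijOn θ (x := fun i : Fin n => (MvPolynomial.X i : R)) (e := e) (d := d)
    (by rw [hPθ]; exact hP.injective) he hd
  rw [hPθ] at hb
  have hf1 : (Transfer.Z θ (eqs (fun i : Fin n => (MvPolynomial.X i : R)) e d (d - 1))).Finite := by
    rw [← hb.image_eq] at hfin
    exact (Set.finite_image_iff hb.injOn).1 hfin
  have hn1 : (Transfer.Z θ (eqs (fun i : Fin n => (MvPolynomial.X i : R)) e d (d - 1))).ncard =
      Nat.card (ramMaps d P e) := by
    rw [← hb.image_eq]
    exact hb.injOn.ncard_image.symm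
  obtain ⟨Φ, hΦ, hs⟩ := Transfer.exists_count.{u} θ hθ _ _ hf1 hn1
  refine ⟨Φ * vdm k n, mul_ne_zero hΦ (vdm_ne_zero k n), fun P' hP' => ?_⟩
  rw [map_mul] at hP'
  have hinj := injective_of_vdm (right_ne_zero_of_mul hP')
  obtain ⟨h1, h2⟩ := hs (MvPolynomial.eval P') (left_ne_zero_of_mul hP')
  have hPe : (fun i => MvPolynomial.eval P' (MvPolynomial.X i : R)) = P' := by
    funext i; simp
  have hb' := bijOn (MvPolynomial.eval P') (x := fun i : Fin n => (MvPolynomial.X i : R)) (e := e)
    (d := d) (by rw [hPe]; exact hinj) he hd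
  rw [hPe] at hb'
  rw [← hb'.image_eq]
  refine ⟨h1.image _, ?_⟩
  rw [← h2]
  exact hb'.injOn.ncard_image

/-- generic counts are unique -/
theorem HasGenericCount.unique {m m' : ℕ} (h : HasGenericCount (k := k) d e m)
    (h' : HasGenericCount (k := k) d e m') : m = m' := by
  obtain ⟨Φ, hΦ, hs⟩ := h
  obtain ⟨Φ', hΦ', hs'⟩ := h'
  obtain ⟨P, hP⟩ : ∃ P : Fin n → k, MvPolynomial.eval P (Φ * Φ') ≠ 0 := by
    by_contra hcon
    push Not at hcon
    exact mul_ne_zero hΦ hΦ' (MvPolynomial.funext (by simpa using hcon))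
  rw [map_mul] at hP
  rw [← (hs P (left_ne_zero_of_mul hP)).2, ← (hs' P (right_ne_zero_of_mul hP)).2]

/-- **Existence of the generic count**, as the count at algebraically independent points. -/
theorem hasGenericCount_iff {L : Type*} [Field L] [IsAlgClosed L] [Algebra k L] {P : Fin n → L}
    (hP : AlgebraicIndependent k P) (he : ∀ i, 1 ≤ e i) (heK : ∀ i, (e i : k) ≠ 0)
    (hd : (∑ i, e i) + 2 = 2 * d + n) (m : ℕ) :
    HasGenericCount (k := k) d e m ↔ Nat.card (ramMaps d P e) = m := by
  have h1 := hasGenericCount hP he hd (ramMaps_finite hP he heK hd)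
  constructor
  · intro h
    exact HasGenericCount.unique h1 h
  · rintro rfl
    exact h1

end Main

end K807.GenCount
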