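import Groth.Agent.W4c1limliniiii.K807.LGFun
import Groth.Agent.Grass.K652.MapSpan
import Groth.Prelude.Def_W4c1limliniiiiLG
import Mathlib.Algebra.Category.CommAlgCat.Basic

/-!
# The linked Grassmannian: representability and properness
-/

set_option autoImplicit false
set_option linter.style.haveILetI false
universe u

open CategoryTheory CategoryTheory.Limits AlgebraicGeometry TensorProduct

namespace K807.LGRep

open Groth.Agent.Fga.RingFunBasic Groth.Agent.Fga.RingFunRep Groth.Agent.Fga.Grass
  Groth.Agent.Fga.GrassBasic K807.LGFun K652.MapSpan W4c1limliniiii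

variable {R : Type u} [CommRing R]

theorem theta_baseChange {d : ℕ} (A : Type u) [CommRing A] [Algebra R A]
    (f : (Fin d → R) →ₗ[R] (Fin d → R)) (x : A ⊗[R] (Fin d → R)) :
    theta (LinearEquiv.refl R (Fin d → R)) A (f.baseChange A x) =
      ((LinearMap.toMatrix' f).map (algebraMap R A)).mulVec
        (theta (LinearEquiv.refl R (Fin d → R)) A x) := by
  induction x using TensorProduct.induction_on with
  | zero => simp
  | tmul a m =>
    ext i
    rw [LinearMap.baseChange_tmul, theta_tmul]
    simp only [LinearEquiv.refl_apply, Matrix.mulVec, dotProduct, Matrix.map_apply, theta_tmul]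
    have h1 : f m i = ∑ j, LinearMap.toMatrix' f i j * m j := by
      conv_lhs => rw [← LinearMap.toMatrix'_mulVec f m]
      rfl
    rw [h1, Finset.sum_smul]
    refine Finset.sum_congr rfl fun j _ => ?_
    rw [mul_smul, Algebra.smul_def]
  | add x y hx hy =>
    rw [map_add, map_add, hx, hy, map_add, Matrix.mulVec_add]

theorem carry_iff {d c : ℕ} (A : Type u) [CommRing A] [Algebra R A]
    (f : (Fin d → R) →ₗ[R] (Fin d → R))
    (V V' : Module.Grassmannian A (A ⊗[R] (Fin d → R)) c) :
    Submodule.map (f.baseChange A) V.toSubmodule ≤ V'.toSubmodule ↔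
      Carry ((LinearMap.toMatrix' f).map (algebraMap R A))
        (grEquiv (LinearEquiv.refl R (Fin d → R)) A V).1
        (grEquiv (LinearEquiv.refl R (Fin d → R)) A V').1 := by
  rw [grEquiv_val, grEquiv_val]
  constructor
  · rintro h _ ⟨x, hx, rfl⟩
    refine ⟨f.baseChange A x, h ⟨x, hx, rfl⟩, ?_⟩
    exact theta_baseChange A f x
  · rintro h _ ⟨x, hx, rfl⟩
    obtain ⟨y, hy, hxy⟩ := h _ ⟨x, hx, rfl⟩
    have h1 : theta (LinearEquiv.refl R (Fin d → R)) A y =
        theta (LinearEquiv.refl R (Fin d → R)) A (f.baseChange A x) :=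
      hxy.trans (theta_baseChange A f x).symm
    rw [← (theta (LinearEquiv.refl R (Fin d → R)) A).injective h1]
    exact hy

/-- the ring functor attached to the data -/
abbrev lgF (R : Type u) [CommRing R] (d r n : ℕ)
    (f g : Fin n → ((Fin d → R) →ₗ[R] (Fin d → R))) : CommRingCat.{u} ⥤ Type u :=
  lgFun (CommRingCat.of R) d (d - r) n (fun i => LinearMap.toMatrix' (f i))
    (fun i => LinearMap.toMatrix' (g i))

/-- a point of the linked Grassmannian as a value of the ring functor -/
noncomputable def mkPt {d r n : ℕ} {f g : Fin n → ((Fin d → R) →ₗ[R] (Fin d → R))}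
    (A : CommAlgCat.{u} R) (V : LGPoints R d r n f g A) :
    (lgF R d r n f g).obj (CommRingCat.of A) :=
  ⟨(CommRingCat.ofHom (algebraMap R A), fun i => grEquiv (LinearEquiv.refl R (Fin d → R)) A (V.1 i)),
    by
      intro i
      have h := V.2 i
      rw [carry_iff, carry_iff] at h
      exact h⟩

theorem fstOf_mkPt {d r n : ℕ} {f g : Fin n → ((Fin d → R) →ₗ[R] (Fin d → R))}
    (A : CommAlgCat.{u} R) (V : LGPoints R d r n f g A) :
    fstOf (mkPt A V).1 = CommRingCat.ofHom (algebraMap R A) := rfl

theorem sndOf_mkPt {d r n : ℕ} {f g : Fin n → ((Fin d → R) →ₗ[R] (Fin d → R))}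
    (A : CommAlgCat.{u} R) (V : LGPoints R d r n f g A) (i : Fin (n + 1)) :
    sndOf (mkPt A V).1 i = (grEquiv (LinearEquiv.refl R (Fin d → R)) A (V.1 i)).1 := rfl

/-- values of the ring functor over the structure map are points of the linked Grassmannian -/
noncomputable def ofPt {d r n : ℕ} {f g : Fin n → ((Fin d → R) →ₗ[R] (Fin d → R))}
    (A : CommAlgCat.{u} R) (y : (lgF R d r n f g).obj (CommRingCat.of A))
    (hy : fstOf y.1 = CommRingCat.ofHom (algebraMap R A)) : LGPoints R d r n f g A :=
  ⟨fun i => (grEquiv (LinearEquiv.refl R (Fin d → R)) A).symm ⟨sndOf y.1 i, sndOf_quot _ i⟩, by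
    intro i
    have h := y.2 i
    rw [hy] at h
    rw [carry_iff, carry_iff, Equiv.apply_symm_apply, Equiv.apply_symm_apply]
    exact h⟩

theorem mkPt_ofPt {d r n : ℕ} {f g : Fin n → ((Fin d → R) →ₗ[R] (Fin d → R))}
    (A : CommAlgCat.{u} R) (y : (lgF R d r n f g).obj (CommRingCat.of A))
    (hy : fstOf y.1 = CommRingCat.ofHom (algebraMap R A)) : mkPt A (ofPt A y hy) = y := by
  apply Subtype.ext
  apply Prod.ext
  · exact hy.symm
  · funext i
    exact (grEquiv (LinearEquiv.refl R (Fin d → R)) A).apply_symm_apply _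

theorem ofPt_mkPt {d r n : ℕ} {f g : Fin n → ((Fin d → R) →ₗ[R] (Fin d → R))}
    (A : CommAlgCat.{u} R) (V : LGPoints R d r n f g A)
    (hy : fstOf (mkPt A V).1 = CommRingCat.ofHom (algebraMap R A)) : ofPt A (mkPt A V) hy = V := by
  apply Subtype.ext
  funext i
  exact (grEquiv (LinearEquiv.refl R (Fin d → R)) A).symm_apply_apply _

/-- **Main theorem** (representability and properness of the linked Grassmannian). -/
theorem exists_rep (R : Type u) [CommRing R]
    (d r n : ℕ) (f g : Fin n → ((Fin d → R) →ₗ[R] (Fin d → R))) :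
    ∃ (X : Over (Spec (CommRingCat.of R)))
      (e : ∀ A : CommAlgCat.{u} R,
        (Over.mk (Spec.map (CommRingCat.ofHom (algebraMap R A))) ⟶ X) ≃
          LGPoints R d r n f g A),
      (∀ (A B : CommAlgCat.{u} R) (φ : A ⟶ B)
        (x : Over.mk (Spec.map (CommRingCat.ofHom (algebraMap R A))) ⟶ X)
        (x' : Over.mk (Spec.map (CommRingCat.ofHom (algebraMap R B))) ⟶ X),
        x'.left = Spec.map (CommRingCat.ofHom φ.hom.toRingHom) ≫ x.left →
          ∀ i, (e B x').1 i = Module.Grassmannian.map φ.hom ((e A x).1 i)) ∧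
      IsProper X.hom := by
  obtain ⟨X, rX, π, hπ, hXπ⟩ := exists_rep_lg (CommRingCat.of R) d (d - r) n
    (fun i => LinearMap.toMatrix' (f i)) (fun i => LinearMap.toMatrix' (g i))
  -- first component of a point over `Spec R`
  have hfst : ∀ (A : CommAlgCat.{u} R)
      (x : Over.mk (Spec.map (CommRingCat.ofHom (algebraMap R A))) ⟶ Over.mk π),
      fstOf (rX.e (CommRingCat.of A) x.left).1 = CommRingCat.ofHom (algebraMap R A) := by
    intro A x
    apply Spec.map_injective
    have h1 := hXπ (CommRingCat.of A) x.left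
    have h2 := Over.w x
    exact h1.symm.trans h2
  have hinv : ∀ (A : CommAlgCat.{u} R) (V : LGPoints R d r n f g A),
      (rX.e (CommRingCat.of A)).symm (mkPt A V) ≫ π =
        Spec.map (CommRingCat.ofHom (algebraMap R A)) := by
    intro A V
    refine (hXπ (CommRingCat.of A) _).trans ?_
    have h2 : rX.e (CommRingCat.of A) ((rX.e (CommRingCat.of A)).symm (mkPt A V)) = mkPt A V :=
      Equiv.apply_symm_apply _ _
    exact congrArg (fun y : (lgF R d r n f g).obj (CommRingCat.of A) => Spec.map (fstOf y.1)) h2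
  let e : ∀ A : CommAlgCat.{u} R,
      (Over.mk (Spec.map (CommRingCat.ofHom (algebraMap R A))) ⟶ Over.mk π) ≃
        LGPoints R d r n f g A := fun A =>
    { toFun := fun x => ofPt A (rX.e (CommRingCat.of A) x.left) (hfst A x)
      invFun := fun V => Over.homMk ((rX.e (CommRingCat.of A)).symm (mkPt A V)) (hinv A V)
      left_inv := by
        intro x
        ext1
        apply (rX.e (CommRingCat.of A)).injective
        refine ((rX.e (CommRingCat.of A)).apply_symm_apply _).trans ?_
        exact mkPt_ofPt A _ (hfst A x)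
      right_inv := by
        intro V
        have h2 : rX.e (CommRingCat.of A) ((rX.e (CommRingCat.of A)).symm (mkPt A V)) = mkPt A V :=
          Equiv.apply_symm_apply _ _
        have key : ∀ (y : (lgF R d r n f g).obj (CommRingCat.of A)) (hy) (_ : y = mkPt A V),
            ofPt A y hy = V := by
          rintro y hy rfl
          exact ofPt_mkPt A V hy
        exact key _ _ h2 }
  refine ⟨Over.mk π, e, ?_, hπ⟩
  intro A B φ x x' hx i
  change (grEquiv (LinearEquiv.refl R (Fin d → R)) B).symm _ =
    Module.Grassmannian.map φ.hom ((grEquiv (LinearEquiv.refl R (Fin d → R)) A).symm _)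
  rw [Equiv.symm_apply_eq]
  apply Subtype.ext
  rw [grEquiv_map, Equiv.apply_symm_apply]
  change sndOf (rX.e (CommRingCat.of B) x'.left).1 i =
    bc φ.hom.toRingHom (sndOf (rX.e (CommRingCat.of A) x.left).1 i)
  have h1 : rX.e (CommRingCat.of B) x'.left =
      (lgF R d r n f g).map (CommRingCat.ofHom φ.hom.toRingHom)
        (rX.e (CommRingCat.of A) x.left) := by
    rw [← rX.nat]
    exact congrArg (rX.e (CommRingCat.of B)) hx
  rw [h1]
  rfl

end K807.LGRep
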