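import Groth.Agent.W4c1limliniiii.K807.GenSep
import Groth.Agent.W4c1limliniiii.K807.Sep
import Mathlib.RingTheory.Valuation.LocalSubring

/-!
# Reduction of pencils along a valuation ring
-/

set_option autoImplicit false
set_option linter.style.haveILetI false
universe u

open Polynomial

namespace K807.Val

open K807.Wr K807.Pencil K807.Bound K807.Normal W4c1limliniiii

variable {L : Type*} [Field L] (O : ValuationSubring L)

/-- lift a polynomial with coefficients in a valuation subring -/
theorem exists_lift {f : L[X]} (h : ∀ j, f.coeff j ∈ O) :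
    ∃ f₀ : O[X], f₀.map (algebraMap O L) = f := by
  have : f ∈ Polynomial.lifts (algebraMap O L) := by
    rw [Polynomial.lifts_iff_coeff_lifts]
    intro j
    exact ⟨⟨f.coeff j, h j⟩, rfl⟩
  exact (Polynomial.mem_lifts _).1 this

/-- **Pivot**: a two-dimensional space of polynomials has a basis over the valuation ring with a
unit `2 × 2` block. -/
theorem exists_pivot {F G : L[X]} (hli : LinearIndependent L ![F, G]) :
    ∃ (f g : O[X]) (i j : ℕ) (D : L), D ≠ 0 ∧ f.coeff i = 1 ∧ f.coeff j = 0 ∧ g.coeff i = 0 ∧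
      g.coeff j = 1 ∧
      Submodule.span L {F, G} =
        Submodule.span L {f.map (algebraMap O L), g.map (algebraMap O L)} ∧
      (∀ a b, (F.coeff a * G.coeff b - F.coeff b * G.coeff a) * D⁻¹ ∈ O) ∧
      wronskian (f.map (algebraMap O L)) (g.map (algebraMap O L)) = D⁻¹ • wronskian F G := by
  classical
  have hpair := LinearIndependent.pair_iff.1 hli
  set m : ℕ → ℕ → L := fun a b => F.coeff a * G.coeff b - F.coeff b * G.coeff a with hm
  set N := max F.natDegree G.natDegree + 1 with hN
  have hmz : ∀ a b, N ≤ a ∨ N ≤ b → m a b = 0 := by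
    intro a b hab
    rcases hab with h | h
    · rw [hm]
      simp only
      rw [coeff_eq_zero_of_natDegree_lt (p := F) (n := a) (by omega),
        coeff_eq_zero_of_natDegree_lt (p := G) (n := a) (by omega)]
      ring
    · rw [hm]
      simp only
      rw [coeff_eq_zero_of_natDegree_lt (p := F) (n := b) (by omega),
        coeff_eq_zero_of_natDegree_lt (p := G) (n := b) (by omega)]
      ring
  obtain ⟨a₀, b₀, hab⟩ : ∃ a b, m a b ≠ 0 := by
    by_contra hcon
    push Not at hcon
    have hF0 : F ≠ 0 := by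
      rintro rfl
      exact one_ne_zero (hpair 1 0 (by simp)).1
    obtain ⟨a, ha⟩ : ∃ a, F.coeff a ≠ 0 := by
      by_contra hc
      push Not at hc
      exact hF0 (Polynomial.ext (by simpa using hc))
    have h1 : (-(G.coeff a)) • F + F.coeff a • G = 0 := by
      ext b
      have := hcon a b
      rw [coeff_add, coeff_smul, coeff_smul, smul_eq_mul, smul_eq_mul, coeff_zero]
      simp only [hm] at this
      linear_combination this
    exact ha (hpair _ _ h1).2
  obtain ⟨⟨i, j⟩, -, hmax⟩ := Finset.exists_max_image (Finset.range N ×ˢ Finset.range N)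
    (fun q => O.valuation (m q.1 q.2)) ⟨(0, 0), by simp [hN]⟩
  have hmax' : ∀ a b, O.valuation (m a b) ≤ O.valuation (m i j) := by
    intro a b
    by_cases hc : N ≤ a ∨ N ≤ b
    · rw [hmz a b hc, map_zero]; exact zero_le
    · push Not at hc
      exact hmax (a, b) (by simp [hc.1, hc.2])
  have hD : m i j ≠ 0 := by
    intro h0
    have := hmax' a₀ b₀
    rw [h0, map_zero, le_zero_iff, map_eq_zero] at this
    exact hab this
  have hmem : ∀ a b, m a b * (m i j)⁻¹ ∈ O := by
    intro a b
    rw [← O.valuation_le_one_iff, map_mul, map_inv₀]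
    rw [← div_eq_mul_inv, div_le_one₀]
    · exact hmax' a b
    · exact zero_lt_iff.2 ((_root_.map_ne_zero _).2 hD)
  set D := m i j with hDdef
  have hDe : F.coeff i * G.coeff j - F.coeff j * G.coeff i = D := rfl
  obtain ⟨f, hf⟩ := exists_lift O (f := D⁻¹ • (G.coeff j • F - F.coeff j • G)) (by
    intro a
    have := hmem a j
    rw [coeff_smul, coeff_sub, coeff_smul, coeff_smul, smul_eq_mul, smul_eq_mul, smul_eq_mul]
    convert this using 1
    simp only [hm]
    ring)
  obtain ⟨g, hg⟩ := exists_lift O (f := D⁻¹ • (F.coeff i • G - G.coeff i • F)) (by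
    intro a
    have := hmem i a
    rw [coeff_smul, coeff_sub, coeff_smul, coeff_smul, smul_eq_mul, smul_eq_mul, smul_eq_mul]
    convert this using 1
    simp only [hm]
    ring)
  have hinj : Function.Injective (algebraMap O L) := Subtype.coe_injective
  have cf : ∀ a, algebraMap O L (f.coeff a) =
      D⁻¹ * (G.coeff j * F.coeff a - F.coeff j * G.coeff a) := by
    intro a
    rw [← coeff_map, hf, coeff_smul, coeff_sub, coeff_smul, coeff_smul, smul_eq_mul, smul_eq_mul,
      smul_eq_mul]
  have cg : ∀ a, algebraMap O L (g.coeff a) =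
      D⁻¹ * (F.coeff i * G.coeff a - G.coeff i * F.coeff a) := by
    intro a
    rw [← coeff_map, hg, coeff_smul, coeff_sub, coeff_smul, coeff_smul, smul_eq_mul, smul_eq_mul,
      smul_eq_mul]
  refine ⟨f, g, i, j, D, hD, ?_, ?_, ?_, ?_, ?_, hmem, ?_⟩
  · apply hinj
    rw [cf, map_one, mul_comm (G.coeff j), hDe, inv_mul_cancel₀ hD]
  · apply hinj
    rw [cf, map_zero]; ring
  · apply hinj
    rw [cg, map_zero]; ring
  · apply hinj
    rw [cg, map_one, mul_comm (G.coeff i), hDe, inv_mul_cancel₀ hD]
  · rw [hf, hg]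
    apply le_antisymm
    · rw [Submodule.span_le]
      rintro x (rfl | rfl)
      · refine Submodule.mem_span_pair.2 ⟨x.coeff i, x.coeff j, ?_⟩
        rw [smul_smul, smul_smul, smul_sub, smul_sub, smul_smul, smul_smul, smul_smul, smul_smul]
        have e1 : x.coeff i * D⁻¹ * G.coeff j - x.coeff j * D⁻¹ * G.coeff i = 1 := by
          have : x.coeff i * D⁻¹ * G.coeff j - x.coeff j * D⁻¹ * G.coeff i =
            D⁻¹ * (x.coeff i * G.coeff j - x.coeff j * G.coeff i) := by ring
          rw [this, hDe, inv_mul_cancel₀ hD]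
        have e2 : (x.coeff i * D⁻¹ * G.coeff j) • x - (x.coeff i * D⁻¹ * x.coeff j) • G +
          ((x.coeff j * D⁻¹ * x.coeff i) • G - (x.coeff j * D⁻¹ * G.coeff i) • x) =
          (x.coeff i * D⁻¹ * G.coeff j - x.coeff j * D⁻¹ * G.coeff i) • x := by
          simp only [smul_eq_C_mul, C_sub, C_mul]; ring
        rw [e2, e1, one_smul]
      · refine Submodule.mem_span_pair.2 ⟨x.coeff i, x.coeff j, ?_⟩
        rw [smul_smul, smul_smul, smul_sub, smul_sub, smul_smul, smul_smul, smul_smul, smul_smul]
        have e1 : x.coeff j * D⁻¹ * F.coeff i - x.coeff i * D⁻¹ * F.coeff j = 1 := by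
          have : x.coeff j * D⁻¹ * F.coeff i - x.coeff i * D⁻¹ * F.coeff j =
            D⁻¹ * (F.coeff i * x.coeff j - F.coeff j * x.coeff i) := by ring
          rw [this, hDe, inv_mul_cancel₀ hD]
        have e2 : (x.coeff i * D⁻¹ * x.coeff j) • F - (x.coeff i * D⁻¹ * F.coeff j) • x +
          ((x.coeff j * D⁻¹ * F.coeff i) • x - (x.coeff j * D⁻¹ * x.coeff i) • F) =
          (x.coeff j * D⁻¹ * F.coeff i - x.coeff i * D⁻¹ * F.coeff j) • x := by
          simp only [smul_eq_C_mul, C_sub, C_mul]; ring
        rw [e2, e1, one_smul]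
    · rw [Submodule.span_le]
      rintro x (rfl | rfl)
      · exact Submodule.smul_mem _ _ (Submodule.sub_mem _
          (Submodule.smul_mem _ _ (Submodule.subset_span (by simp)))
          (Submodule.smul_mem _ _ (Submodule.subset_span (by simp))))
      · exact Submodule.smul_mem _ _ (Submodule.sub_mem _
          (Submodule.smul_mem _ _ (Submodule.subset_span (by simp)))
          (Submodule.smul_mem _ _ (Submodule.subset_span (by simp))))
  · rw [hf, hg, wr_smul_left, wr_smul_right]
    have e1 : wronskian (G.coeff j • F - F.coeff j • G) (F.coeff i • G - G.coeff i • F) =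
        D • wronskian F G := by
      have := wr_comb (G.coeff j) (-F.coeff j) (-G.coeff i) (F.coeff i) F G
      have e2 : G.coeff j • F - F.coeff j • G = G.coeff j • F + (-F.coeff j) • G := by
        rw [neg_smul, sub_eq_add_neg]
      have e3 : F.coeff i • G - G.coeff i • F = (-G.coeff i) • F + F.coeff i • G := by
        rw [neg_smul, sub_eq_add_neg, add_comm]
      rw [e2, e3, this, ← hDe]
      congr 1; ring
    rw [e1, smul_smul, smul_smul, mul_assoc, inv_mul_cancel₀ hD, mul_one]

/-- linear independence of the reductions -/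
theorem linInd_of_pivot {κ : Type*} [Field κ] {f g : κ[X]} {i j : ℕ} (h1 : f.coeff i = 1)
    (h2 : f.coeff j = 0) (h3 : g.coeff i = 0) (h4 : g.coeff j = 1) :
    LinearIndependent κ ![f, g] := by
  rw [LinearIndependent.pair_iff]
  intro x y hxy
  constructor
  · have := congrArg (fun p : κ[X] => p.coeff i) hxy
    simpa [h1, h3] using this
  · have := congrArg (fun p : κ[X] => p.coeff j) hxy
    simpa [h2, h4] using this

/-- **Properness**: if all two-dimensional spaces over the residue field of degree `≤ d` are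
separable, a normalised pair has coefficients in the valuation ring. -/
theorem coeff_mem (p : ℕ) [CharP (IsLocalRing.ResidueField O) p] {n : ℕ} {P : Fin n → O}
    {e : Fin n → ℕ} {d : ℕ} (hP : Function.Injective P)
    (he : ∀ i, 1 ≤ e i) (hd : (∑ i, e i) + 2 = 2 * d + n) (hp : p = 0 ∨ d < p) {F G : L[X]}
    (h : NP (fun i => (P i : L)) e d (d - 1) F G) :
    (∀ j, F.coeff j ∈ O) ∧ (∀ j, G.coeff j ∈ O) := by
  have hd1 : 1 ≤ d := one_le_of_sum he hd
  have hP' : Function.Injective fun i => (P i : L) := fun i j hij => hP (Subtype.ext hij)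
  obtain ⟨hW, hc⟩ := h.wr hP' he (by omega)
  obtain ⟨f, g, i, j, D, hD, h1, h2, h3, h4, hsp, hmem, hw⟩ := exists_pivot O (linInd_of_wr h.W0)
  set φ := algebraMap O L with hφ
  have hinj : Function.Injective φ := Subtype.coe_injective
  set ρ := IsLocalRing.residue O with hρ
  have hc' : ((d - 1 : ℕ) : L) - (d : ℕ) = -1 := by
    rw [Nat.cast_sub hd1]; simp
  rw [hc', C_neg, C_1, neg_one_mul] at hW
  -- the Wronskian over the valuation ring
  set T : O[X] := ∏ i, (X - C (P i)) ^ (e i - 1) with hT
  have hTm : T.Monic := monic_prod_of_monic _ _ fun i _ => (monic_X_sub_C _).pow _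
  have hTφ : T.map φ = ∏ i, (X - C (P i : L)) ^ (e i - 1) := by
    rw [hT, Polynomial.map_prod]
    apply Finset.prod_congr rfl
    intro i _
    rw [Polynomial.map_pow, Polynomial.map_sub, map_X, map_C]
    rfl
  have hw' : (wronskian f g).map φ = (-D⁻¹) • T.map φ := by
    rw [map_wronskian, hw, hW, hTφ, smul_neg, neg_smul]
  have hDO : D⁻¹ ∈ O := by
    have e1 := congrArg (fun q : L[X] => q.coeff T.natDegree) hw'
    simp only [coeff_map, coeff_smul, smul_eq_mul] at e1
    rw [hTm.coeff_natDegree, map_one, mul_one] at e1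
    have : D⁻¹ = ((-(wronskian f g).coeff T.natDegree : O) : L) := by
      show D⁻¹ = φ (-(wronskian f g).coeff T.natDegree)
      rw [map_neg, e1, neg_neg]
    rw [this]
    exact Subtype.mem _
  have hw0 : wronskian f g = C (-⟨D⁻¹, hDO⟩) * T := by
    apply Polynomial.map_injective φ hinj
    rw [hw', Polynomial.map_mul, map_C, smul_eq_C_mul]
    rfl
  -- degrees
  have hdeg : ∀ x ∈ Submodule.span L {F, G}, x.natDegree ≤ d := by
    intro x hx
    exact natDegree_le_of_mem (le_degreeLE_of (F := F) (G := G) h.dF.le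
      (h.dG.le.trans (Nat.sub_le _ _))) hx
  have df : f.natDegree ≤ d := by
    rw [← natDegree_map_eq_of_injective hinj]
    apply hdeg
    rw [hsp]; exact Submodule.subset_span (by simp)
  have dg : g.natDegree ≤ d := by
    rw [← natDegree_map_eq_of_injective hinj]
    apply hdeg
    rw [hsp]; exact Submodule.subset_span (by simp)
  -- reduction
  have hli : LinearIndependent (IsLocalRing.ResidueField O) ![f.map ρ, g.map ρ] := by
    apply linInd_of_pivot (i := i) (j := j)
    · rw [coeff_map, h1, map_one]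
    · rw [coeff_map, h2, map_zero]
    · rw [coeff_map, h3, map_zero]
    · rw [coeff_map, h4, map_one]
  have hWr : wronskian (f.map ρ) (g.map ρ) ≠ 0 := by
    have hle : Submodule.span (IsLocalRing.ResidueField O) {f.map ρ, g.map ρ} ≤ degreeLE _ d :=
      le_degreeLE_of (natDegree_map_le.trans df) (natDegree_map_le.trans dg)
    exact (isSeparable_iff rfl).1
      (Sep.isSeparable_of_lt p hp hle (finrank_span_pair hli))
  rw [← map_wronskian, hw0, Polynomial.map_mul, map_C] at hWr
  have hu : ρ (-⟨D⁻¹, hDO⟩) ≠ 0 := by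
    intro h0
    rw [h0, C_0, zero_mul] at hWr
    exact hWr rfl
  have hu' : IsUnit (-⟨D⁻¹, hDO⟩ : O) := by
    by_contra hnu
    apply hu
    rw [hρ, IsLocalRing.residue_eq_zero_iff]
    exact hnu
  obtain ⟨w, hw2⟩ := hu'.exists_right_inv
  have hDO' : D ∈ O := by
    have e1 : -D⁻¹ * (w : L) = 1 := congrArg φ hw2
    have e2 : D = -(w : L) := by
      have : D * (-D⁻¹ * (w : L)) = D * 1 := by rw [e1]
      rw [← mul_assoc, mul_neg, mul_inv_cancel₀ hD, neg_one_mul, mul_one] at this
      exact this.symm
    rw [e2]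
    exact O.neg_mem _ w.2
  have hmm : ∀ a b, F.coeff a * G.coeff b - F.coeff b * G.coeff a ∈ O := by
    intro a b
    have := O.mul_mem _ _ (hmem a b) hDO'
    rwa [mul_assoc, inv_mul_cancel₀ hD, mul_one] at this
  have hGd : G.coeff d = 0 := coeff_eq_zero_of_natDegree_lt (by rw [h.dG]; omega)
  constructor
  · intro a
    have := hmm a (d - 1)
    rwa [h.cG, h.nrm, zero_mul, sub_zero, mul_one] at this
  · intro a
    have := hmm d a
    rwa [h.cF, hGd, mul_zero, sub_zero, one_mul] at this

/-- an element transcendental over an algebraically closed subfield is excluded by a valuation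
ring containing the subfield -/
theorem exists_valuation {k : Type*} [Field k] [IsAlgClosed k] [Algebra k L] {c : L}
    (hc : ¬ IsAlgebraic k c) :
    ∃ O : ValuationSubring L, (∀ r : k, algebraMap k L r ∈ O) ∧ c ∉ O := by
  have hR : IsIntegrallyClosedIn (algebraMap k L).range L := by
    rw [Subring.isIntegrallyClosedIn_iff]
    intro x hx
    obtain ⟨q, hq, hqx⟩ := hx
    have hlift : q ∈ Polynomial.lifts (algebraMap k L).rangeRestrict := by
      rw [Polynomial.lifts_iff_coeff_lifts]
      intro j
      exact (algebraMap k L).rangeRestrict_surjective _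
    obtain ⟨q₀, hq₀, -, hq₀m⟩ := Polynomial.lifts_and_natDegree_eq_and_monic hlift hq
    have hint : IsIntegral k x := by
      refine ⟨q₀, hq₀m, ?_⟩
      rw [← hqx, ← hq₀, eval₂_map]
      rfl
    have h1 := minpoly.irreducible hint
    have h2 := IsAlgClosed.degree_eq_one_of_irreducible k h1
    exact minpoly.mem_range_of_degree_eq_one k x h2
  have hcR : c ∉ (algebraMap k L).range := by
    rintro ⟨r, rfl⟩
    exact hc (isAlgebraic_algebraMap r)
  obtain ⟨O, hO, hcO⟩ := Subring.exists_le_valuationSubring_of_isIntegrallyClosedIn hcR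
  exact ⟨O, fun r => hO ⟨r, rfl⟩, hcO⟩

/-- **Finiteness** in small degree, for arbitrary distinct points. -/
theorem ramMaps_finite_of_lt {k : Type u} [Field k] [IsAlgClosed k] (p : ℕ) [CharP k p] {n : ℕ}
    {P : Fin n → k} (hP : Function.Injective P) {e : Fin n → ℕ} {d : ℕ} (he : ∀ i, 1 ≤ e i)
    (hd : (∑ i, e i) + 2 = 2 * d + n) (hp : p = 0 ∨ d < p) : (ramMaps d P e).Finite := by
  have hd1 : 1 ≤ d := one_le_of_sum he hd
  have hb := bijOn (RingHom.id k) (x := P) (e := e) (d := d) hP he hd
  have hPe : (fun i => RingHom.id k (P i)) = P := rfl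
  rw [hPe] at hb
  rw [← hb.image_eq]
  apply Set.Finite.image
  apply GenCount.finite_of_algebraic (R := k) _ ?_ (RingHom.id k) Function.injective_id
  intro Ω _ _ θ hθ z hz s
  letI : Algebra k Ω := θ.toAlgebra
  have halg : ∀ c : Ω, (∀ O : ValuationSubring Ω, (∀ r : k, algebraMap k Ω r ∈ O) → c ∈ O) →
      ∃ q : k[X], q ≠ 0 ∧ q.eval₂ θ c = 0 := by
    intro c hc
    by_contra hcon
    have : ¬ IsAlgebraic k c := by
      rintro ⟨q, hq, hqc⟩
      exact hcon ⟨q, hq, hqc⟩
    obtain ⟨O, hO1, hO2⟩ := exists_valuation this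
    exact hO2 (hc O hO1)
  apply halg
  intro O hO
  have hP' : Function.Injective fun i => θ (P i) := fun i j hij => hP (hθ hij)
  have hb' := bijOn θ (x := P) (e := e) (d := d) hP' he hd
  have hV := hb'.1 hz
  obtain ⟨F, G, hNP, hFG⟩ := exists_np hP' he hd hV
  have hc : (((d - 1 : ℕ) : Ω) - (d : ℕ)) ≠ 0 := by
    rw [Nat.cast_sub hd1]; simp
  obtain ⟨h1, -, -⟩ := (mem_Z_iff θ (by omega) hc z).1 hz
  have cmp : ∀ (α : ℕ) (a : Fin α → Ω), (mp α a).coeff α = 1 := by
    intro α a
    have := (monic_mp α a).coeff_natDegree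
    rwa [natDegree_mp] at this
  have dmp : ∀ (a : Fin (d - 1) → Ω), (mp (d - 1) a).coeff d = 0 := by
    intro a
    apply coeff_eq_zero_of_natDegree_lt
    rw [natDegree_mp]; omega
  obtain ⟨g1, g2⟩ := eq_of_span_eq (cmp _ _) hNP.cF h1 hNP.nrm (cmp _ _) hNP.cG
    (dmp _) (coeff_eq_zero_of_natDegree_lt (by rw [hNP.dG]; omega)) hFG
  -- residue characteristic
  let ι : k →+* O := (algebraMap k Ω).codRestrict O.toSubring hO
  have : CharP (IsLocalRing.ResidueField O) p :=
    charP_of_injective_ringHom ((IsLocalRing.residue O).comp ι).injective p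
  obtain ⟨hF, hG⟩ := coeff_mem O p (P := fun i => ι (P i))
    (fun i j hij => hP (ι.injective hij)) he hd hp (F := F) (G := G) hNP
  rcases s with j | j
  · have h2 : z (Sum.inl j) = F.coeff j := by
      rw [← g1, coeff_mp]
    rw [h2]; exact hF j
  · have h2 : z (Sum.inr j) = G.coeff j := by
      rw [← g2, coeff_mp]
    rw [h2]; exact hG j

end K807.Val
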