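import Groth.Agent.W4c1limliniiii.K807.Deriv

/-!
# The tangent space bound for normalised pairs
-/

set_option autoImplicit false
set_option linter.style.haveILetI false

open Polynomial

namespace K807.Bound

open K807.Wr K807.Pencil K807.Deriv

/-- A normalised pair: `F`, `G` monic of degrees `α > β`, coefficient of `X ^ β` in `F` zero,
coprime, with non-zero Wronskian, and a member of the span vanishing to order `e i` at `P i`. -/
structure NP {K : Type*} [Field K] {n : ℕ} (P : Fin n → K) (e : Fin n → ℕ) (α β : ℕ)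
    (F G : K[X]) : Prop where
  mF : F.Monic
  mG : G.Monic
  dF : F.natDegree = α
  dG : G.natDegree = β
  lt : β < α
  nrm : F.coeff β = 0
  cop : IsCoprime F G
  W0 : wronskian F G ≠ 0
  sch : ∀ i, ∃ s ∈ Submodule.span K {F, G}, s ≠ 0 ∧ (X - C (P i)) ^ (e i) ∣ s

variable {K : Type*} [Field K] {n : ℕ} {P : Fin n → K} {e : Fin n → ℕ} {α β : ℕ} {F G : K[X]}

theorem NP.cF (h : NP P e α β F G) : F.coeff α = 1 := by
  have := h.mF.coeff_natDegree
  rwa [h.dF] at this

theorem NP.cG (h : NP P e α β F G) : G.coeff β = 1 := by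
  have := h.mG.coeff_natDegree
  rwa [h.dG] at this

theorem NP.wr (h : NP P e α β F G) (hP : Function.Injective P) (he : ∀ i, 1 ≤ e i)
    (hsum : (∑ i, e i) + 1 = α + β + n) :
    wronskian F G = C ((β : K) - (α : K)) * ∏ i, (X - C (P i)) ^ (e i - 1) ∧
      ((β : K) - (α : K)) ≠ 0 := by
  have h1 := wr_eq hP he hsum h.dF.le h.dG.le h.sch
  rw [h.cF, h.cG, mul_one, mul_one] at h1
  refine ⟨h1, ?_⟩
  intro h0
  rw [h0, C_0, zero_mul] at h1
  exact h.W0 h1

theorem NP.not_both (h : NP P e α β F G) (a : K) : ¬ (F.eval a = 0 ∧ G.eval a = 0) := by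
  rintro ⟨h1, h2⟩
  obtain ⟨u, v, huv⟩ := h.cop
  have := congrArg (eval a) huv
  rw [eval_add, eval_mul, eval_mul, h1, h2, mul_zero, mul_zero, add_zero, eval_one] at this
  exact zero_ne_one this

theorem NP.dvd_fin (h : NP P e α β F G) (he : ∀ i, 1 ≤ e i) {i : Fin n}
    (hG : G.eval (P i) ≠ 0) :
    (X - C (P i)) ^ (e i) ∣ F - C (F.eval (P i) / G.eval (P i)) * G := by
  obtain ⟨s, hs, hs0, hsd⟩ := h.sch i
  obtain ⟨x, y, rfl⟩ := Submodule.mem_span_pair.1 hs
  have h1 : (x • F + y • G).eval (P i) = 0 := by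
    have : X - C (P i) ∣ x • F + y • G := (dvd_pow_self _ (by have := he i; omega)).trans hsd
    exact dvd_iff_isRoot.1 this
  rw [eval_add, eval_smul, eval_smul, smul_eq_mul, smul_eq_mul] at h1
  have hx : x ≠ 0 := by
    rintro rfl
    rw [zero_mul, zero_add, mul_eq_zero] at h1
    rcases h1 with h1 | h1
    · subst h1; simp at hs0
    · exact hG h1
  have hy : y = -(x * (F.eval (P i) / G.eval (P i))) := by
    field_simp
    linear_combination h1
  have h2 : F - C (F.eval (P i) / G.eval (P i)) * G = x⁻¹ • (x • F + y • G) := by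
    rw [hy, smul_add, smul_smul, smul_smul, inv_mul_cancel₀ hx, one_smul, mul_neg, ← mul_assoc,
      inv_mul_cancel₀ hx, one_mul, neg_smul, smul_eq_C_mul]
    ring
  rw [h2]
  exact dvd_smul_of_dvd _ hsd

theorem NP.dvd_inf (h : NP P e α β F G) (he : ∀ i, 1 ≤ e i) {i : Fin n}
    (hG : G.eval (P i) = 0) : (X - C (P i)) ^ (e i) ∣ G := by
  obtain ⟨s, hs, hs0, hsd⟩ := h.sch i
  obtain ⟨x, y, rfl⟩ := Submodule.mem_span_pair.1 hs
  have h1 : (x • F + y • G).eval (P i) = 0 := by
    have : X - C (P i) ∣ x • F + y • G := (dvd_pow_self _ (by have := he i; omega)).trans hsd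
    exact dvd_iff_isRoot.1 this
  rw [eval_add, eval_smul, eval_smul, smul_eq_mul, smul_eq_mul, hG, mul_zero, add_zero,
    mul_eq_zero] at h1
  have hx : x = 0 := h1.resolve_right (fun h2 => h.not_both _ ⟨h2, hG⟩)
  subst hx
  rw [zero_smul, zero_add] at hs0 hsd
  have hy : y ≠ 0 := by rintro rfl; simp at hs0
  have h2 : G = y⁻¹ • (y • G) := by rw [smul_smul, inv_mul_cancel₀ hy, one_smul]
  rw [h2]
  exact dvd_smul_of_dvd _ hsd

variable {k : Type*} [Field k] [Algebra k K]

/-- infinitesimal variation minus a target vector field -/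
noncomputable def Hf (F G : K[X]) (x : Derivation k K K × K × K) : K[X] :=
  dC x.1 F * G - F * dC x.1 G - x.2.1 • (F * G) - x.2.2 • (G * G)

theorem Hf_add (F G : K[X]) (x y : Derivation k K K × K × K) :
    Hf F G (x + y) = Hf F G x + Hf F G y := by
  simp only [Hf, Prod.fst_add, Prod.snd_add, dC_add_der, add_smul]
  ring

theorem Hf_smul (F G : K[X]) (a : K) (x : Derivation k K K × K × K) :
    Hf F G (a • x) = a • Hf F G x := by
  simp only [Hf, Prod.smul_fst, Prod.smul_snd, dC_smul_der, smul_eq_C_mul, smul_eq_mul, C_mul]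
  ring

theorem NP.natDegree_Hf (h : NP P e α β F G) (x : Derivation k K K × K × K) :
    (Hf F G x).natDegree ≤ α + β := by
  have hlt := h.lt
  unfold Hf
  refine (natDegree_sub_le _ _).trans (max_le ((natDegree_sub_le _ _).trans (max_le
    ((natDegree_sub_le _ _).trans (max_le ?_ ?_)) ?_)) ?_)
  · refine natDegree_mul_le.trans ?_
    have := natDegree_dC_le x.1 F
    have := h.dF; have := h.dG; omega
  · refine natDegree_mul_le.trans ?_
    have := natDegree_dC_le x.1 G
    have := h.dF; have := h.dG; omega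
  · refine (natDegree_smul_le _ _).trans (natDegree_mul_le.trans ?_)
    have := h.dF; have := h.dG; omega
  · refine (natDegree_smul_le _ _).trans (natDegree_mul_le.trans ?_)
    have := h.dG; omega

/-- divisibility of the variation by the ramification divisor -/
theorem NP.dvd_Hf (h : NP P e α β F G) (hP : Function.Injective P) (he : ∀ i, 1 ≤ e i)
    (x : Derivation k K K × K × K)
    (hx : ∀ i, G.eval (P i) ≠ 0 → x.1 (F.eval (P i) / G.eval (P i)) -
      x.2.1 * (F.eval (P i) / G.eval (P i)) - x.2.2 = 0) :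
    ∏ i, (X - C (P i)) ^ (e i - 1) ∣ Hf F G x := by
  apply prod_pow_dvd hP
  intro i
  by_cases hG : G.eval (P i) = 0
  · have h1 := h.dvd_inf he hG
    have h2 := dC_dvd x.1 h1
    have h1' : (X - C (P i)) ^ (e i - 1) ∣ G := (pow_dvd_pow _ (Nat.sub_le _ _)).trans h1
    unfold Hf
    exact dvd_sub (dvd_sub (dvd_sub (Dvd.dvd.mul_left h1' _) (Dvd.dvd.mul_left h2 _))
      (dvd_smul_of_dvd _ (Dvd.dvd.mul_left h1' _))) (dvd_smul_of_dvd _ (Dvd.dvd.mul_left h1' _))
  · have h1 := h.dvd_fin he hG
    have h0 := hx i hG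
    set Q := F.eval (P i) / G.eval (P i) with hQ
    set s := F - C Q * G with hs
    have h2 := dC_dvd x.1 h1
    have h1' : (X - C (P i)) ^ (e i - 1) ∣ s := (pow_dvd_pow _ (Nat.sub_le _ _)).trans h1
    have e1 : Hf F G x = dC x.1 s * G - s * dC x.1 G - x.2.1 • (s * G) +
        C (x.1 Q - x.2.1 * Q - x.2.2) * (G * G) := by
      have e2 : dC x.1 s = dC x.1 F - (C (x.1 Q) * G + C Q * dC x.1 G) := by
        rw [hs, dC_sub, dC_mul, dC_C]
      rw [e2, hs]
      simp only [Hf, smul_eq_C_mul, C_sub, C_mul]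
      ring
    rw [e1, h0, C_0, zero_mul, add_zero]
    exact dvd_sub (dvd_sub (Dvd.dvd.mul_right h2 _) (Dvd.dvd.mul_right h1' _))
      (dvd_smul_of_dvd _ (Dvd.dvd.mul_right h1' _))

/-- vanishing of the variation forces the derivation to kill everything -/
theorem NP.of_Hf_eq_zero (h : NP P e α β F G) (hP : Function.Injective P) (he : ∀ i, 1 ≤ e i)
    (heK : ∀ i, (e i : K) ≠ 0)
    (hsum : (∑ i, e i) + 1 = α + β + n)
    (x : Derivation k K K × K × K) (hH : Hf F G x = 0)
    (hx : ∀ i, G.eval (P i) ≠ 0 → x.1 (F.eval (P i) / G.eval (P i)) -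
      x.2.1 * (F.eval (P i) / G.eval (P i)) - x.2.2 = 0) :
    x.2.1 = 0 ∧ x.2.2 = 0 ∧ dC x.1 F = 0 ∧ dC x.1 G = 0 ∧ ∀ i, x.1 (P i) = 0 := by
  have hlt := h.lt
  obtain ⟨hW, hc⟩ := h.wr hP he hsum
  -- `y = 0`
  have c1 : (dC x.1 F).coeff α = 0 := by rw [coeff_dC, h.cF]; simp
  have c2 : (dC x.1 G).coeff β = 0 := by rw [coeff_dC, h.cG]; simp
  have dF' : (dC x.1 F).natDegree ≤ α := (natDegree_dC_le _ _).trans h.dF.le
  have dG' : (dC x.1 G).natDegree ≤ β := (natDegree_dC_le _ _).trans h.dG.le
  have hy : x.2.1 = 0 := by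
    have h1 := congrArg (fun p : K[X] => p.coeff (α + β)) hH
    simp only [Hf, coeff_sub, coeff_smul, coeff_zero, smul_eq_mul] at h1
    rw [coeff_mul_add_eq_of_natDegree_le dF' h.dG.le,
      coeff_mul_add_eq_of_natDegree_le h.dF.le dG',
      coeff_mul_add_eq_of_natDegree_le h.dF.le h.dG.le, c1, c2, h.cF, h.cG,
      coeff_eq_zero_of_natDegree_lt (p := G * G) (n := α + β)] at h1
    · simpa using h1
    · refine natDegree_mul_le.trans_lt ?_
      have := h.dG; omega
  have hG0 : G ≠ 0 := h.mG.ne_zero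
  have e1 : dC x.1 F * G - F * dC x.1 G = x.2.2 • (G * G) := by
    have := hH
    simp only [Hf, hy, zero_smul, sub_zero] at this
    exact sub_eq_zero.1 this
  have hdG : dC x.1 G = 0 := by
    have h1 : G ∣ F * dC x.1 G := by
      have : F * dC x.1 G = (dC x.1 F - x.2.2 • G) * G := by
        rw [sub_mul, smul_mul_assoc, ← e1]; ring
      rw [this]; exact dvd_mul_left _ _
    have h2 : G ∣ dC x.1 G := h.cop.symm.dvd_of_dvd_mul_left h1
    by_contra hne
    have h3 := natDegree_le_of_dvd h2 hne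
    rw [h.dG] at h3
    have h4 : (dC x.1 G).natDegree = β := le_antisymm dG' h3
    have h5 := leadingCoeff_ne_zero.2 hne
    rw [leadingCoeff, h4] at h5
    exact h5 c2
  have hdF' : dC x.1 F = x.2.2 • G := by
    rw [hdG, mul_zero, sub_zero, ← smul_mul_assoc] at e1
    exact mul_right_cancel₀ hG0 e1
  have hz : x.2.2 = 0 := by
    have h1 := congrArg (fun p : K[X] => p.coeff β) hdF'
    simp only [coeff_dC, h.nrm, map_zero, coeff_smul, h.cG, smul_eq_mul, mul_one] at h1
    exact h1.symm
  have hdF : dC x.1 F = 0 := by rw [hdF', hz, zero_smul]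
  refine ⟨hy, hz, hdF, hdG, ?_⟩
  -- a general computation
  have key : ∀ (i : Fin n) (s : K[X]), s ∈ Submodule.span K {F, G} → s ≠ 0 →
      (X - C (P i)) ^ (e i) ∣ s → dC x.1 s = 0 → x.1 (P i) = 0 := by
    rintro i s hs hs0 ⟨u, hu⟩ hds
    have hu0 : u.eval (P i) ≠ 0 := by
      intro h0
      have h1 : (X - C (P i)) ^ (e i + 1) ∣ s := by
        rw [hu, pow_succ]
        exact mul_dvd_mul_left _ (dvd_iff_isRoot.2 h0)
      have h2 := (le_rootMultiplicity_iff hs0).2 h1
      have h3 := rootMultiplicity_le hP he hc hW i hs hs0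
      omega
    rw [hu, dC_mul, dC_X_sub_C_pow] at hds
    have e3 : (X - C (P i)) ^ (e i) = (X - C (P i)) ^ (e i - 1) * (X - C (P i)) := by
      rw [← pow_succ, Nat.sub_add_cancel (he i)]
    have e2 : (X - C (P i)) ^ (e i - 1) *
        (C (-(e i : K) * x.1 (P i)) * u + (X - C (P i)) * dC x.1 u) = 0 := by
      rw [← hds, e3]; ring
    have e4 := (mul_eq_zero.1 e2).resolve_left (pow_ne_zero _ (X_sub_C_ne_zero _))
    have e5 := congrArg (eval (P i)) e4
    simp only [eval_add, eval_mul, eval_C, eval_sub, eval_X, sub_self, zero_mul, add_zero,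
      eval_zero, mul_eq_zero, neg_eq_zero, heK i, hu0, or_false, false_or] at e5
    exact e5
  intro i
  by_cases hG : G.eval (P i) = 0
  · exact key i G (Submodule.subset_span (by simp)) hG0 (h.dvd_inf he hG) hdG
  · have h0 := hx i hG
    rw [hy, hz, zero_mul, sub_zero, sub_zero] at h0
    refine key i (F - C (F.eval (P i) / G.eval (P i)) * G) ?_ ?_ (h.dvd_fin he hG) ?_
    · rw [← smul_eq_C_mul]
      exact Submodule.sub_mem _ (Submodule.subset_span (by simp))
        (Submodule.smul_mem _ _ (Submodule.subset_span (by simp)))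
    · intro hcon
      have h1 := congrArg natDegree (sub_eq_zero.1 hcon)
      have h2 := natDegree_C_mul_le (F.eval (P i) / G.eval (P i)) G
      rw [← h1, h.dF, h.dG] at h2
      omega
    · rw [dC_sub, dC_mul, dC_C, h0, hdF, hdG]
      simp

/-- **The tangent space bound.** -/
theorem NP.finrank_der_le (h : NP P e α β F G) (hP : Function.Injective P) (he : ∀ i, 1 ≤ e i)
    (heK : ∀ i, (e i : K) ≠ 0)
    (hsum : (∑ i, e i) + 1 = α + β + n) (S : Finset K)
    (hS : ∀ i, G.eval (P i) ≠ 0 → F.eval (P i) / G.eval (P i) ∈ S)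
    (hgen : ∀ δ : Derivation k K K, (∀ j, δ (F.coeff j) = 0) → (∀ j, δ (G.coeff j) = 0) →
      (∀ i, δ (P i) = 0) → δ = 0) :
    Module.Finite K (Derivation k K K) ∧ Module.finrank K (Derivation k K K) ≤ S.card := by
  have hlt := h.lt
  let Λ : (Derivation k K K × K × K) →ₗ[K] ((S → K) × K × K) :=
    { toFun := fun x => (fun Q => x.1 (Q : K) - x.2.1 * (Q : K) - x.2.2,
        (Hf F G x).coeff (α + β), (Hf F G x).coeff (α + β - 1))
      map_add' := by
        intro x y
        ext
        · simp only [Prod.fst_add, Prod.snd_add, Derivation.add_apply, Pi.add_apply]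
          ring
        · simp only [Hf_add, coeff_add, Prod.snd_add, Prod.fst_add]
        · simp only [Hf_add, coeff_add, Prod.snd_add]
      map_smul' := by
        intro a x
        ext
        · simp only [Prod.smul_fst, Prod.smul_snd, Derivation.smul_apply, Pi.smul_apply,
            smul_eq_mul, RingHom.id_apply]
          ring
        · simp only [Hf_smul, coeff_smul, Prod.smul_snd, Prod.smul_fst, RingHom.id_apply]
        · simp only [Hf_smul, coeff_smul, Prod.smul_snd, RingHom.id_apply] }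
  have hinj : Function.Injective Λ := by
    rw [injective_iff_map_eq_zero]
    intro x hx
    have h1 : ∀ Q : S, x.1 (Q : K) - x.2.1 * (Q : K) - x.2.2 = 0 :=
      fun Q => congrFun (congrArg Prod.fst hx) Q
    have h2 : (Hf F G x).coeff (α + β) = 0 := congrArg (fun z => z.2.1) hx
    have h3 : (Hf F G x).coeff (α + β - 1) = 0 := congrArg (fun z => z.2.2) hx
    have h1' : ∀ i, G.eval (P i) ≠ 0 → x.1 (F.eval (P i) / G.eval (P i)) -
        x.2.1 * (F.eval (P i) / G.eval (P i)) - x.2.2 = 0 := fun i hi => h1 ⟨_, hS i hi⟩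
    have hH : Hf F G x = 0 := by
      by_contra hne
      have h4 := natDegree_le_of_dvd (h.dvd_Hf hP he x h1') hne
      have h5 : ∑ i, (e i - 1) = α + β - 1 := by
        have h5 : ∑ i, (e i - 1) + n = ∑ i, e i := by
          have : ∑ i, (e i - 1) + ∑ _i : Fin n, 1 = ∑ i, e i := by
            rw [← Finset.sum_add_distrib]
            exact Finset.sum_congr rfl (fun i _ => Nat.sub_add_cancel (he i))
          simpa using this
        omega
      rw [natDegree_prod_pow, h5] at h4
      have h6 := h.natDegree_Hf x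
      have h7 := leadingCoeff_ne_zero.2 hne
      rw [leadingCoeff] at h7
      rcases Nat.lt_or_ge (Hf F G x).natDegree (α + β) with h8 | h8
      · have : (Hf F G x).natDegree = α + β - 1 := by omega
        rw [this] at h7
        exact h7 h3
      · have : (Hf F G x).natDegree = α + β := by omega
        rw [this] at h7
        exact h7 h2
    obtain ⟨a1, a2, a3, a4, a5⟩ := h.of_Hf_eq_zero hP he heK hsum x hH h1'
    have a6 : x.1 = 0 := hgen x.1
      (fun j => by rw [← coeff_dC, a3, coeff_zero]) (fun j => by rw [← coeff_dC, a4, coeff_zero]) a5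
    exact Prod.ext a6 (Prod.ext a1 a2)
  have hfin : Module.Finite K (Derivation k K K × K × K) := Module.Finite.of_injective Λ hinj
  have hfin' : Module.Finite K (Derivation k K K) :=
    Module.Finite.of_injective (LinearMap.inl K (Derivation k K K) (K × K)) LinearMap.inl_injective
  refine ⟨hfin', ?_⟩
  have h1 := LinearMap.finrank_le_finrank_of_injective hinj
  rw [Module.finrank_prod, Module.finrank_prod, Module.finrank_prod, Module.finrank_prod,
    Module.finrank_self, Module.finrank_pi] at h1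
  rw [Fintype.card_coe] at h1
  omega

end K807.Bound
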