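import Groth.Agent.W4c1limliniiii.K807.Sep
import Mathlib.LinearAlgebra.FiniteDimensional.Basic

/-!
# The three-point pencils appearing on the bubble
-/

set_option autoImplicit false
set_option linter.style.haveILetI false

open Polynomial

namespace K807.Bubble

open K807.Wr K807.Pencil K807.Sep

variable {κ : Type*} [Field κ] (p : ℕ) [CharP κ p] {a b m₀ m₁ : ℕ}

theorem dvd_iff_taylor (c : κ) (m : ℕ) (s : κ[X]) :
    (X - C c) ^ m ∣ s ↔ ∀ i < m, (taylor c s).coeff i = 0 := by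
  rw [X_sub_C_pow_dvd_iff, X_pow_dvd_iff]
  rfl

theorem isCoprime_X_X_sub_one (m n : ℕ) : IsCoprime ((X : κ[X]) ^ m) ((X - C 1) ^ n) := by
  have h : IsCoprime ((X - C (0 : κ)) ^ m) ((X - C (1 : κ)) ^ n) :=
    (isCoprime_X_sub_C_of_isUnit_sub (by simp)).pow
  rwa [C_0, sub_zero] at h

theorem dvd_bound {m n : ℕ} {s : κ[X]} (hs : s ≠ 0) (h0 : X ^ m ∣ s) (h1 : (X - C 1) ^ n ∣ s) :
    m + n ≤ s.natDegree := by
  have h := natDegree_le_of_dvd ((isCoprime_X_X_sub_one m n).mul_dvd h0 h1) hs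
  rwa [(monic_X_pow m).natDegree_mul ((monic_X_sub_C _).pow n), natDegree_X_pow,
    natDegree_pow, natDegree_X_sub_C, mul_one] at h

/-- the Wronskian estimate -/
theorem no_small (hab : m₀ + m₁ + 1 = a + b) (ha : 1 ≤ a) (hb : 1 ≤ b)
    (hp : p = 0 ∨ m₁ < p) {γ ψ : κ[X]} (hγ : X ^ a ∣ γ) (hγ0 : γ ≠ 0) (hψ0 : ψ ≠ 0)
    (hlt : ψ.natDegree < γ.natDegree) (dγ : γ.natDegree ≤ m₁)
    (hsum : γ.natDegree + ψ.natDegree < m₀ + m₁) (h : (X - C 1) ^ b ∣ γ + ψ) : False := by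
  have hW : wronskian γ ψ ≠ 0 := by
    apply wr_ne_zero_of_natDegree p hγ0 hψ0 hlt
    rcases hp with h | h
    · exact Or.inl h
    · right; omega
  have h1 : X ^ (a - 1) ∣ wronskian γ ψ := dvd_wr_left hγ ψ
  have h2 : (X - C 1) ^ (b - 1) ∣ wronskian γ ψ := by
    have h3 := dvd_wr_left h ψ
    have h4 : wronskian (γ + ψ) ψ = wronskian γ ψ := by
      simp only [wronskian, derivative_add]; ring
    rwa [h4] at h3
  have h3 := dvd_bound hW h1 h2
  have h4 := natDegree_wr_le (F := γ) (G := ψ) le_rfl le_rfl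
  omega

theorem lin_unique (hab : m₀ + m₁ + 1 = a + b) (ha : m₀ < a) (hb : m₀ < b)
    (hp : p = 0 ∨ m₁ < p) {γ ψ : κ[X]} (hγ : X ^ a ∣ γ) (dγ : γ.natDegree < m₁)
    (dψ : ψ.natDegree ≤ m₀) (h : (X - C 1) ^ b ∣ γ + ψ) : γ = 0 ∧ ψ = 0 := by
  by_cases hγ0 : γ = 0
  · refine ⟨hγ0, ?_⟩
    by_contra hψ0
    rw [hγ0, zero_add] at h
    have h1 := dvd_bound (m := 0) hψ0 (by simp) h
    omega
  · exfalso
    by_cases hψ0 : ψ = 0
    · rw [hψ0, add_zero] at h
      have h1 := dvd_bound hγ0 hγ h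
      omega
    · have h1 := natDegree_le_of_dvd hγ hγ0
      rw [natDegree_X_pow] at h1
      exact no_small p hab (by omega) (by omega) hp hγ hγ0 hψ0 (by omega) (by omega) (by omega) h

/-- the linear system of the bubble -/
noncomputable def Lam (a b M N : ℕ) :
    (degreeLT κ M × degreeLT κ N) →ₗ[κ] (Fin b → κ) where
  toFun x := fun i => (taylor 1 (X ^ a * (x.1 : κ[X]) + (x.2 : κ[X]))).coeff i
  map_add' x y := by
    funext i
    have : X ^ a * ((x + y).1 : κ[X]) + ((x + y).2 : κ[X]) =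
        (X ^ a * (x.1 : κ[X]) + (x.2 : κ[X])) + (X ^ a * (y.1 : κ[X]) + (y.2 : κ[X])) := by
      simp only [Prod.fst_add, Prod.snd_add, Submodule.coe_add]; ring
    rw [this, map_add, coeff_add]
    rfl
  map_smul' c x := by
    funext i
    have : X ^ a * ((c • x).1 : κ[X]) + ((c • x).2 : κ[X]) =
        c • (X ^ a * (x.1 : κ[X]) + (x.2 : κ[X])) := by
      simp only [Prod.smul_fst, Prod.smul_snd, Submodule.coe_smul, smul_eq_C_mul]; ring
    rw [this, map_smul, coeff_smul]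
    rfl

theorem exists_sol (hab : m₀ + m₁ + 1 = a + b) (ha : m₀ < a) (hb : m₀ < b)
    (hp : p = 0 ∨ m₁ < p) : ∃ (φ γ : κ[X]) (r : κ), φ.Monic ∧ φ.natDegree = m₀ ∧ γ.Monic ∧
      γ.natDegree = m₁ ∧ X ^ a ∣ γ ∧ (X - C 1) ^ b ∣ γ + C r * φ ∧ r ≠ 0 := by
  have ham : a ≤ m₁ := by omega
  have hinj : Function.Injective (Lam (κ := κ) a b (m₁ - a) (m₀ + 1)) := by
    rw [injective_iff_map_eq_zero]
    rintro ⟨⟨g, hg⟩, ⟨ψ, hψ⟩⟩ h0
    rw [mem_degreeLT] at hg hψ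
    have h1 : (X - C 1) ^ b ∣ X ^ a * g + ψ := by
      rw [dvd_iff_taylor]
      intro i hi
      exact congrFun h0 ⟨i, hi⟩
    have dψ : ψ.natDegree ≤ m₀ := by
      by_cases h : ψ = 0
      · rw [h, natDegree_zero]; exact Nat.zero_le _
      · have := (natDegree_lt_iff_degree_lt h).2 hψ
        omega
    have dg : (X ^ a * g).natDegree < m₁ := by
      by_cases h : g = 0
      · rw [h, mul_zero, natDegree_zero]; omega
      · have := (natDegree_lt_iff_degree_lt h).2 hg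
        rw [natDegree_mul (pow_ne_zero _ X_ne_zero) h, natDegree_X_pow]
        omega
    obtain ⟨h2, h3⟩ := lin_unique p hab ha hb hp (Dvd.intro _ rfl) dg dψ h1
    have h4 : g = 0 := (mul_eq_zero.1 h2).resolve_left (pow_ne_zero _ X_ne_zero)
    subst h4; subst h3
    rfl
  have hf1 : Module.Finite κ (degreeLT κ (m₁ - a)) :=
    Module.Finite.equiv (degreeLTEquiv κ (m₁ - a)).symm
  have hf2 : Module.Finite κ (degreeLT κ (m₀ + 1)) :=
    Module.Finite.equiv (degreeLTEquiv κ (m₀ + 1)).symm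
  have hfd : Module.finrank κ (degreeLT κ (m₁ - a) × degreeLT κ (m₀ + 1)) =
      Module.finrank κ (Fin b → κ) := by
    rw [Module.finrank_prod, (degreeLTEquiv κ _).finrank_eq, (degreeLTEquiv κ _).finrank_eq,
      Module.finrank_fin_fun, Module.finrank_fin_fun, Module.finrank_fin_fun]
    omega
  have hsurj := (LinearMap.injective_iff_surjective_of_finrank_eq_finrank hfd).1 hinj
  obtain ⟨⟨⟨g, hg⟩, ⟨ψ, hψ⟩⟩, hgψ⟩ := hsurj (fun i => -(taylor 1 ((X : κ[X]) ^ m₁)).coeff i)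
  rw [mem_degreeLT] at hg hψ
  set γ := X ^ m₁ + X ^ a * g with hγ
  have hXg : (X ^ a * g).degree < ((m₁ : ℕ) : WithBot ℕ) := by
    rw [degree_mul, degree_X_pow]
    have h1 : ((a : ℕ) : WithBot ℕ) + g.degree < (a : WithBot ℕ) + ((m₁ - a : ℕ) : WithBot ℕ) := by
      by_cases h : g = 0
      · rw [h, degree_zero, WithBot.add_bot]
        exact WithBot.bot_lt_coe _
      · rw [degree_eq_natDegree h] at hg ⊢
        have hg' : g.natDegree < m₁ - a := by exact_mod_cast hg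
        exact_mod_cast (by omega : a + g.natDegree < a + (m₁ - a))
    refine h1.trans_le ?_
    exact_mod_cast (by omega : a + (m₁ - a) ≤ m₁)
  have mγ : γ.Monic := monic_X_pow_add hXg
  have dγ : γ.natDegree = m₁ := by
    apply natDegree_eq_of_degree_eq_some
    rw [hγ, degree_add_eq_left_of_degree_lt]
    · exact degree_X_pow m₁
    · rwa [degree_X_pow]
  have xγ : X ^ a ∣ γ := dvd_add (pow_dvd_pow _ ham) (Dvd.intro _ rfl)
  have dψ : ψ.natDegree ≤ m₀ := by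
    by_cases h : ψ = 0
    · rw [h, natDegree_zero]; exact Nat.zero_le _
    · have := (natDegree_lt_iff_degree_lt h).2 hψ
      omega
  have hdv : (X - C 1) ^ b ∣ γ + ψ := by
    rw [dvd_iff_taylor]
    intro i hi
    have h1 := congrFun hgψ ⟨i, hi⟩
    have h2 : (taylor 1 (X ^ a * g + ψ)).coeff i = -(taylor 1 ((X : κ[X]) ^ m₁)).coeff i := h1
    rw [hγ, add_assoc, map_add, coeff_add, h2, add_neg_cancel]
  have hr : ψ.coeff m₀ ≠ 0 := by
    intro h0
    by_cases hψ0 : ψ = 0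
    · rw [hψ0, add_zero] at hdv
      have := dvd_bound mγ.ne_zero xγ hdv
      omega
    · have h1 : ψ.natDegree ≠ m₀ := by
        intro h2
        have := leadingCoeff_ne_zero.2 hψ0
        rw [leadingCoeff, h2] at this
        exact this h0
      exact no_small p hab (by omega) (by omega) hp xγ mγ.ne_zero hψ0 (by omega) (by omega)
        (by omega) hdv
  have dψ' : ψ.natDegree = m₀ := le_antisymm dψ (le_natDegree_of_ne_zero hr)
  refine ⟨C (ψ.coeff m₀)⁻¹ * ψ, γ, ψ.coeff m₀, ?_, ?_, mγ, dγ, xγ, ?_, hr⟩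
  · have := monic_C_mul_of_mul_leadingCoeff_eq_one (p := ψ) (b := (ψ.coeff m₀)⁻¹) (by
      rw [leadingCoeff, dψ', inv_mul_cancel₀ hr])
    exact this
  · rw [natDegree_C_mul (inv_ne_zero hr), dψ']
  · rw [← mul_assoc, ← C_mul, mul_inv_cancel₀ hr, C_1, one_mul]
    exact hdv

theorem unique_sol (hab : m₀ + m₁ + 1 = a + b) (ha : m₀ < a) (hb : m₀ < b)
    (hp : p = 0 ∨ m₁ < p) {φ γ φ' γ' : κ[X]} {r r' : κ} (mφ : φ.Monic) (dφ : φ.natDegree = m₀)
    (mγ : γ.Monic) (dγ : γ.natDegree = m₁) (xγ : X ^ a ∣ γ) (h : (X - C 1) ^ b ∣ γ + C r * φ)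
    (mφ' : φ'.Monic) (dφ' : φ'.natDegree = m₀)
    (mγ' : γ'.Monic) (dγ' : γ'.natDegree = m₁) (xγ' : X ^ a ∣ γ')
    (h' : (X - C 1) ^ b ∣ γ' + C r' * φ') : φ = φ' ∧ γ = γ' ∧ r = r' ∧ r ≠ 0 := by
  have hr : r ≠ 0 := by
    rintro rfl
    rw [C_0, zero_mul, add_zero] at h
    have := dvd_bound mγ.ne_zero xγ h
    omega
  have d1 : (γ - γ').natDegree < m₁ := by
    by_cases h0 : γ - γ' = 0
    · rw [h0, natDegree_zero]; omega
    · have hdeg : (γ - γ').degree < γ.degree :=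
        degree_sub_lt (by rw [degree_eq_natDegree mγ.ne_zero, degree_eq_natDegree mγ'.ne_zero,
          dγ, dγ']) mγ.ne_zero (by rw [mγ.leadingCoeff, mγ'.leadingCoeff])
      rw [← dγ]
      exact natDegree_lt_natDegree h0 hdeg
  have d2 : (C r * φ - C r' * φ').natDegree ≤ m₀ := by
    refine (natDegree_sub_le _ _).trans (max_le ?_ ?_)
    · exact (natDegree_C_mul_le _ _).trans dφ.le
    · exact (natDegree_C_mul_le _ _).trans dφ'.le
  have hdv : (X - C 1) ^ b ∣ (γ - γ') + (C r * φ - C r' * φ') := by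
    have : (γ - γ') + (C r * φ - C r' * φ') = (γ + C r * φ) - (γ' + C r' * φ') := by ring
    rw [this]
    exact dvd_sub h h'
  obtain ⟨h1, h2⟩ := lin_unique p hab ha hb hp (dvd_sub xγ xγ') d1 d2 hdv
  have h3 : r = r' := by
    have := congrArg (fun q : κ[X] => q.coeff m₀) h2
    simp only [coeff_sub, coeff_C_mul, coeff_zero] at this
    have c1 : φ.coeff m₀ = 1 := by rw [← dφ]; exact mφ
    have c2 : φ'.coeff m₀ = 1 := by rw [← dφ']; exact mφ'
    rw [c1, c2, mul_one, mul_one] at this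
    exact sub_eq_zero.1 this
  subst h3
  refine ⟨?_, sub_eq_zero.1 h1, rfl, hr⟩
  rw [← mul_sub] at h2
  exact sub_eq_zero.1 ((mul_eq_zero.1 h2).resolve_left (C_ne_zero.2 hr))

theorem rigid_sol (hab : m₀ + m₁ + 1 = a + b) (ha : m₀ < a) (hb : m₀ < b)
    (hp : p = 0 ∨ m₁ < p) {φ : κ[X]} {r : κ} (mφ : φ.Monic) (dφ : φ.natDegree = m₀) (hr : r ≠ 0)
    {φ₁ γ₁ : κ[X]} {r₁ : κ} (dφ₁ : φ₁.natDegree ≤ m₀) (cφ₁ : φ₁.coeff m₀ = 0)
    (dγ₁ : γ₁.natDegree < m₁) (xγ₁ : X ^ a ∣ γ₁)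
    (h : (X - C 1) ^ b ∣ γ₁ + (C r * φ₁ + C r₁ * φ)) : φ₁ = 0 ∧ γ₁ = 0 ∧ r₁ = 0 := by
  obtain ⟨h1, h2⟩ := lin_unique p hab ha hb hp xγ₁ dγ₁ (ψ := C r * φ₁ + C r₁ * φ) (by
    refine (natDegree_add_le _ _).trans (max_le ?_ ?_)
    · exact (natDegree_C_mul_le _ _).trans dφ₁
    · exact (natDegree_C_mul_le _ _).trans dφ.le) h
  have h3 : r₁ = 0 := by
    have := congrArg (fun q : κ[X] => q.coeff m₀) h2
    simp only [coeff_add, coeff_C_mul, coeff_zero, cφ₁] at this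
    have c1 : φ.coeff m₀ = 1 := by rw [← dφ]; exact mφ
    rw [c1, mul_zero, zero_add, mul_one] at this
    exact this
  rw [h3, C_0, zero_mul, add_zero] at h2
  exact ⟨(mul_eq_zero.1 h2).resolve_left (C_ne_zero.2 hr), h1, h3⟩

end K807.Bubble
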