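import Groth.Agent.W4c1limliniiii.K807.HenselN
import Mathlib.Algebra.Polynomial.Taylor
import Mathlib.Tactic.LinearCombination

/-!
# The square system describing a degenerating pencil
-/

set_option autoImplicit false
set_option linter.style.haveILetI false
universe u

open Polynomial

namespace K807.Chart

/-- unknowns -/
abbrev Var (n d : ℕ) : Type := Fin (d + 1) ⊕ Fin (d + 1) ⊕ Fin n ⊕ Unit

/-- equations -/
abbrev Eqn {n : ℕ} (e : Fin n → ℕ) (a b : ℕ) : Type :=
  (Unit ⊕ Unit ⊕ Unit ⊕ Fin a) ⊕ ((Σ i : Fin n, Fin (e i)) ⊕ Fin b)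

theorem card_eq {n d a b : ℕ} {e : Fin n → ℕ} (h : (∑ i, e i) + a + b = 2 * d + n) :
    Fintype.card (Var n d) = Fintype.card (Eqn e a b) := by
  simp only [Fintype.card_sum, Fintype.card_fin, Fintype.card_unit, Fintype.card_sigma]
  omega

section Ring

variable {B : Type*} [CommRing B]

/-- polynomial with given coefficients -/
noncomputable def pl {N : ℕ} (c : Fin N → B) : B[X] := ∑ j, C (c j) * X ^ (j : ℕ)

theorem coeff_pl {N : ℕ} (c : Fin N → B) (j : ℕ) :
    (pl c).coeff j = if h : j < N then c ⟨j, h⟩ else 0 := by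
  rw [pl, finsetSum_coeff]
  simp only [coeff_C_mul_X_pow]
  split_ifs with h
  · rw [Finset.sum_eq_single ⟨j, h⟩]
    · simp
    · intro i _ hi
      rw [if_neg]
      rintro rfl
      exact hi rfl
    · intro h'
      exact absurd (Finset.mem_univ _) h'
  · apply Finset.sum_eq_zero
    intro i _
    rw [if_neg]
    rintro rfl
    exact h i.2

theorem natDegree_pl {N : ℕ} (c : Fin (N + 1) → B) : (pl c).natDegree ≤ N := by
  rw [natDegree_le_iff_coeff_eq_zero]
  intro j hj
  rw [coeff_pl, dif_neg (by omega)]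

theorem map_pl {B' : Type*} [CommRing B'] (g : B →+* B') {N : ℕ} (c : Fin N → B) :
    (pl c).map g = pl (fun j => g (c j)) := by
  ext j
  rw [coeff_map, coeff_pl, coeff_pl]
  split_ifs
  · rfl
  · exact map_zero g

theorem pl_add {N : ℕ} (c c' : Fin N → B) : pl (c + c') = pl c + pl c' := by
  ext j
  rw [coeff_add, coeff_pl, coeff_pl, coeff_pl]
  split_ifs
  · rfl
  · simp

theorem pl_smul {N : ℕ} (s : B) (c : Fin N → B) : pl (s • c) = C s * pl c := by
  ext j
  rw [coeff_C_mul, coeff_pl, coeff_pl]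
  split_ifs
  · rfl
  · simp

theorem pl_coeff {N : ℕ} {f : B[X]} (hf : f.natDegree ≤ N) :
    pl (fun j : Fin (N + 1) => f.coeff j) = f := by
  ext j
  rw [coeff_pl]
  split_ifs with h
  · rfl
  · rw [coeff_eq_zero_of_natDegree_lt (by omega)]

/-- multiplication of the coefficients by weights -/
noncomputable def tw (w : ℕ → B) (f : B[X]) : B[X] :=
  ∑ j ∈ f.support, C (w j * f.coeff j) * X ^ j

theorem coeff_tw (w : ℕ → B) (f : B[X]) (j : ℕ) : (tw w f).coeff j = w j * f.coeff j := by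
  rw [tw, finsetSum_coeff]
  simp only [coeff_C_mul_X_pow]
  rw [Finset.sum_ite_eq f.support j]
  split_ifs with h
  · rfl
  · rw [notMem_support_iff.1 h, mul_zero]

theorem tw_add (w : ℕ → B) (f g : B[X]) : tw w (f + g) = tw w f + tw w g := by
  ext j
  rw [coeff_add, coeff_tw, coeff_tw, coeff_tw, coeff_add, mul_add]

theorem tw_C_mul (w : ℕ → B) (s : B) (f : B[X]) : tw w (C s * f) = C s * tw w f := by
  ext j
  rw [coeff_C_mul, coeff_tw, coeff_tw, coeff_C_mul]
  ring

theorem map_tw {B' : Type*} [CommRing B'] (g : B →+* B') (w : ℕ → B) (f : B[X]) :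
    (tw w f).map g = tw (fun j => g (w j)) (f.map g) := by
  ext j
  rw [coeff_map, coeff_tw, coeff_tw, coeff_map, map_mul]

theorem natDegree_tw (w : ℕ → B) {f : B[X]} {d : ℕ} (hf : f.natDegree ≤ d) :
    (tw w f).natDegree ≤ d := by
  rw [natDegree_le_iff_coeff_eq_zero]
  intro j hj
  rw [coeff_tw, coeff_eq_zero_of_natDegree_lt (by omega), mul_zero]

/-- weights on the main component -/
def wm (t : B) (m : ℕ) : ℕ → B := fun j => t ^ (m - j)

/-- weights on the bubble -/
def wb (t : B) (m : ℕ) : ℕ → B := fun j => t ^ (j - m)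

theorem map_wm {B' : Type*} [CommRing B'] (g : B →+* B') (t : B) (m : ℕ) :
    (fun j => g (wm t m j)) = wm (g t) m := by
  funext j; simp [wm]

theorem map_wb {B' : Type*} [CommRing B'] (g : B →+* B') (t : B) (m : ℕ) :
    (fun j => g (wb t m j)) = wb (g t) m := by
  funext j; simp [wb]

variable {n d : ℕ}

/-- the polynomial of the first block of unknowns -/
noncomputable def pA (z : Var n d → B) : B[X] := pl (fun j => z (Sum.inl j))

/-- the polynomial of the second block of unknowns -/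
noncomputable def pB (z : Var n d → B) : B[X] := pl (fun j => z (Sum.inr (Sum.inl j)))

/-- the parameters at the points -/
def pq (z : Var n d → B) (i : Fin n) : B := z (Sum.inr (Sum.inr (Sum.inl i)))

/-- the parameter at the collision -/
def pr (z : Var n d → B) : B := z (Sum.inr (Sum.inr (Sum.inr ())))

theorem pA_add (z v : Var n d → B) : pA (z + v) = pA z + pA v := pl_add _ _
theorem pB_add (z v : Var n d → B) : pB (z + v) = pB z + pB v := pl_add _ _
theorem pA_smul (s : B) (z : Var n d → B) : pA (s • z) = C s * pA z := pl_smul _ _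
theorem pB_smul (s : B) (z : Var n d → B) : pB (s • z) = C s * pB z := pl_smul _ _

theorem map_pA {B' : Type*} [CommRing B'] (g : B →+* B') (z : Var n d → B) :
    (pA z).map g = pA (fun i => g (z i)) := map_pl _ _

theorem map_pB {B' : Type*} [CommRing B'] (g : B →+* B') (z : Var n d → B) :
    (pB z).map g = pB (fun i => g (z i)) := map_pl _ _

theorem natDegree_pA (z : Var n d → B) : (pA z).natDegree ≤ d := natDegree_pl _
theorem natDegree_pB (z : Var n d → B) : (pB z).natDegree ≤ d := natDegree_pl _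

/-- the values of the equations -/
noncomputable def ev (m₀ m₁ : ℕ) (Q : Fin n → B) (t : B) {e : Fin n → ℕ} {a b : ℕ}
    (z : Var n d → B) : Eqn e a b → B
  | Sum.inl (Sum.inl _) => (pA z).coeff m₀ - 1
  | Sum.inl (Sum.inr (Sum.inl _)) => (pA z).coeff m₁
  | Sum.inl (Sum.inr (Sum.inr (Sum.inl _))) => (pB z).coeff m₁ - 1
  | Sum.inl (Sum.inr (Sum.inr (Sum.inr l))) => (pB z).coeff l
  | Sum.inr (Sum.inl ⟨i, l⟩) =>
      (taylor (Q i) (tw (wm t m₀) (pA z) - C (pq z i) * tw (wm t m₁) (pB z))).coeff l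
  | Sum.inr (Sum.inr l) =>
      (taylor 1 (tw (wb t m₁) (pB z) + C (pr z) * tw (wb t m₀) (pA z))).coeff l

/-- the linearised equations -/
noncomputable def lin (m₀ m₁ : ℕ) (Q : Fin n → B) (t : B) {e : Fin n → ℕ} {a b : ℕ}
    (z v : Var n d → B) : Eqn e a b → B
  | Sum.inl (Sum.inl _) => (pA v).coeff m₀
  | Sum.inl (Sum.inr (Sum.inl _)) => (pA v).coeff m₁
  | Sum.inl (Sum.inr (Sum.inr (Sum.inl _))) => (pB v).coeff m₁
  | Sum.inl (Sum.inr (Sum.inr (Sum.inr l))) => (pB v).coeff l
  | Sum.inr (Sum.inl ⟨i, l⟩) =>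
      (taylor (Q i) (tw (wm t m₀) (pA v) - C (pq z i) * tw (wm t m₁) (pB v) -
        C (pq v i) * tw (wm t m₁) (pB z))).coeff l
  | Sum.inr (Sum.inr l) =>
      (taylor 1 (tw (wb t m₁) (pB v) + C (pr z) * tw (wb t m₀) (pA v) +
        C (pr v) * tw (wb t m₀) (pA z))).coeff l

theorem map_ev {B' : Type*} [CommRing B'] (g : B →+* B') (m₀ m₁ : ℕ) (Q : Fin n → B) (t : B)
    {e : Fin n → ℕ} {a b : ℕ} (z : Var n d → B) (i : Eqn e a b) :
    g (ev m₀ m₁ Q t z i) = ev m₀ m₁ (fun i => g (Q i)) (g t) (fun i => g (z i)) i := by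
  rcases i with (_ | _ | _ | l) | (⟨i, l⟩ | l)
  · simp only [ev]
    rw [map_sub, map_one, ← map_pA, coeff_map]
  · simp only [ev]
    rw [← map_pA, coeff_map]
  · simp only [ev]
    rw [map_sub, map_one, ← map_pB, coeff_map]
  · simp only [ev]
    rw [← map_pB, coeff_map]
  · simp only [ev]
    rw [← coeff_map, map_taylor, Polynomial.map_sub, Polynomial.map_mul, map_C, map_tw, map_tw,
      map_wm, map_wm, map_pA, map_pB]
    rfl
  · simp only [ev]
    rw [← coeff_map, map_taylor, Polynomial.map_add, Polynomial.map_mul, map_C, map_tw, map_tw,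
      map_wb, map_wb, map_pA, map_pB, map_one]
    rfl

theorem map_lin {B' : Type*} [CommRing B'] (g : B →+* B') (m₀ m₁ : ℕ) (Q : Fin n → B) (t : B)
    {e : Fin n → ℕ} {a b : ℕ} (z v : Var n d → B) (i : Eqn e a b) :
    g (lin m₀ m₁ Q t z v i) =
      lin m₀ m₁ (fun i => g (Q i)) (g t) (fun i => g (z i)) (fun i => g (v i)) i := by
  rcases i with (_ | _ | _ | l) | (⟨i, l⟩ | l)
  · simp only [lin]
    rw [← map_pA, coeff_map]
  · simp only [lin]
    rw [← map_pA, coeff_map]
  · simp only [lin]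
    rw [← map_pB, coeff_map]
  · simp only [lin]
    rw [← map_pB, coeff_map]
  · simp only [lin]
    rw [← coeff_map, map_taylor, Polynomial.map_sub, Polynomial.map_sub, Polynomial.map_mul,
      Polynomial.map_mul, map_C, map_C, map_tw, map_tw, map_tw, map_wm, map_wm, map_pA, map_pB,
      map_pB]
    rfl
  · simp only [lin]
    rw [← coeff_map, map_taylor, Polynomial.map_add, Polynomial.map_add, Polynomial.map_mul,
      Polynomial.map_mul, map_C, map_C, map_tw, map_tw, map_tw, map_wb, map_wb, map_pA, map_pA,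
      map_pB, map_one]
    rfl

/-- expansion along a square-zero element -/
theorem ev_add {ε : B} (hε : ε * ε = 0) (m₀ m₁ : ℕ) (Q : Fin n → B) (t : B)
    {e : Fin n → ℕ} {a b : ℕ} (z v : Var n d → B) (i : Eqn e a b) :
    ev m₀ m₁ Q t (z + ε • v) i = ev m₀ m₁ Q t z i + ε * lin m₀ m₁ Q t z v i := by
  have tayC : ∀ (c s : B) (f : B[X]), taylor c (C s * f) = C s * taylor c f := by
    intro c s f
    rw [taylor_mul, taylor_C]
  have hεC : (C ε : B[X]) * C ε = 0 := by rw [← C_mul, hε, C_0]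
  rcases i with (_ | _ | _ | l) | (⟨i, l⟩ | l)
  · simp only [ev, lin]
    rw [pA_add, pA_smul, coeff_add, coeff_C_mul]; ring
  · simp only [ev, lin]
    rw [pA_add, pA_smul, coeff_add, coeff_C_mul]
  · simp only [ev, lin]
    rw [pB_add, pB_smul, coeff_add, coeff_C_mul]; ring
  · simp only [ev, lin]
    rw [pB_add, pB_smul, coeff_add, coeff_C_mul]
  · simp only [ev, lin]
    have e1 : pq (z + ε • v) i = pq z i + ε * pq v i := rfl
    have e2 : tw (wm t m₀) (pA (z + ε • v)) - C (pq (z + ε • v) i) * tw (wm t m₁) (pB (z + ε • v)) =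
        (tw (wm t m₀) (pA z) - C (pq z i) * tw (wm t m₁) (pB z)) +
        C ε * (tw (wm t m₀) (pA v) - C (pq z i) * tw (wm t m₁) (pB v) -
        C (pq v i) * tw (wm t m₁) (pB z)) := by
      rw [pA_add, pA_smul, pB_add, pB_smul, e1, tw_add, tw_add, tw_C_mul, tw_C_mul, C_add, C_mul]
      linear_combination (-(C (pq v i) * tw (wm t m₁) (pB v))) * hεC
    rw [e2, map_add, coeff_add, tayC, coeff_C_mul]
  · simp only [ev, lin]
    have e1 : pr (z + ε • v) = pr z + ε * pr v := rfl
    have e2 : tw (wb t m₁) (pB (z + ε • v)) + C (pr (z + ε • v)) * tw (wb t m₀) (pA (z + ε • v)) =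
        (tw (wb t m₁) (pB z) + C (pr z) * tw (wb t m₀) (pA z)) +
        C ε * (tw (wb t m₁) (pB v) + C (pr z) * tw (wb t m₀) (pA v) +
        C (pr v) * tw (wb t m₀) (pA z)) := by
      rw [pA_add, pA_smul, pB_add, pB_smul, e1, tw_add, tw_add, tw_C_mul, tw_C_mul, C_add, C_mul]
      linear_combination (C (pr v) * tw (wb t m₀) (pA v)) * hεC
    rw [e2, map_add, coeff_add, tayC, coeff_C_mul]

end Ring

section System

variable {R : Type u} [CommRing R] {n d : ℕ}

/-- the polynomial system -/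
noncomputable def sys (m₀ m₁ : ℕ) (Q : Fin n → R) (t : R) (e : Fin n → ℕ) (a b d : ℕ) :
    Eqn e a b → MvPolynomial (Var n d) R :=
  ev m₀ m₁ (fun i => MvPolynomial.C (Q i)) (MvPolynomial.C t) MvPolynomial.X

theorem eval_sys {B : Type*} [CommRing B] (θ : R →+* B) (m₀ m₁ : ℕ) (Q : Fin n → R) (t : R)
    (e : Fin n → ℕ) (a b : ℕ) (z : Var n d → B) (i : Eqn e a b) :
    MvPolynomial.eval₂ θ z (sys m₀ m₁ Q t e a b d i) =
      ev m₀ m₁ (fun i => θ (Q i)) (θ t) z i := by
  rw [← MvPolynomial.coe_eval₂Hom, sys, map_ev]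
  simp only [MvPolynomial.coe_eval₂Hom, MvPolynomial.eval₂_C, MvPolynomial.eval₂_X]

theorem nondeg_iff {K : Type*} [CommRing K] (θ : R →+* K) (m₀ m₁ : ℕ) (Q : Fin n → R) (t : R)
    (e : Fin n → ℕ) (a b : ℕ) (z : Var n d → K)
    (hz : ∀ i : Eqn e a b, ev m₀ m₁ (fun i => θ (Q i)) (θ t) z i = 0) :
    HenselN.Nondeg θ (sys m₀ m₁ Q t e a b d) z ↔
      ∀ v : Var n d → K, (∀ i : Eqn e a b, lin m₀ m₁ (fun i => θ (Q i)) (θ t) z v i = 0) →
        v = 0 := by
  unfold HenselN.Nondeg
  refine forall_congr' fun v => ?_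
  have key : ∀ i : Eqn e a b, MvPolynomial.eval₂ (HenselN.dl θ)
      (fun i => (TrivSqZeroExt.inl (z i) + TrivSqZeroExt.inr (v i) : DualNumber K))
        (sys m₀ m₁ Q t e a b d i) =
      TrivSqZeroExt.inr (lin m₀ m₁ (fun i => θ (Q i)) (θ t) z v i) := by
    intro i
    rw [eval_sys]
    let ι : K →+* DualNumber K := TrivSqZeroExt.inlHom K K
    let ε : DualNumber K := TrivSqZeroExt.inr 1
    have hε : ε * ε = 0 := TrivSqZeroExt.inr_mul_inr K 1 1
    have h1 : (fun i => (TrivSqZeroExt.inl (z i) + TrivSqZeroExt.inr (v i) : DualNumber K)) =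
        (fun i => ι (z i)) + ε • (fun i => ι (v i)) := by
      funext i
      simp only [Pi.add_apply, Pi.smul_apply, smul_eq_mul, ι, ε]
      ext
      · simp
      · simp
    have h2 : (fun i => HenselN.dl θ (Q i)) = fun i => ι (θ (Q i)) := rfl
    have h3 : HenselN.dl θ t = ι (θ t) := rfl
    rw [h1, h2, h3, ev_add hε, ← map_ev ι, hz, map_zero, zero_add, ← map_lin ι]
    ext
    · simp [ι, ε]
    · simp [ι, ε]
  have key2 : ∀ i : Eqn e a b, (MvPolynomial.eval₂ (HenselN.dl θ)
      (fun i => (TrivSqZeroExt.inl (z i) + TrivSqZeroExt.inr (v i) : DualNumber K))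
        (sys m₀ m₁ Q t e a b d i) = 0) ↔ lin m₀ m₁ (fun i => θ (Q i)) (θ t) z v i = 0 := by
    intro i
    rw [key]
    constructor
    · intro h
      have := congrArg TrivSqZeroExt.snd h
      simpa using this
    · intro h
      rw [h, TrivSqZeroExt.inr_zero]
  constructor
  · intro h h1
    exact h fun i => (key2 i).2 (h1 i)
  · intro h h1
    exact h fun i => (key2 i).1 (h1 i)

end System

end K807.Chart
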