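import Groth.Agent.W4c1limliniiii.K807.Family

/-!
# Non-degenerate solutions give rigid pencils
-/

set_option autoImplicit false
set_option linter.style.haveILetI false
set_option linter.unusedSectionVars false
universe u

open Polynomial

namespace K807.RigidK

open K807.Wr K807.Pencil K807.Normal K807.Rigid K807.Chart K807.Bubble K807.Special K807.Family
open W4c1limliniiii

variable {K : Type*} [Field K] {n d a b m₀ m₁ : ℕ} {e : Fin n → ℕ} {Q : Fin n → K} {t : K}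

theorem tw_inv (ht : t ≠ 0) (m : ℕ) (f : K[X]) :
    tw (wm t m) (tw (fun j => (wm t m j)⁻¹) f) = f := by
  ext j
  have h : wm t m j ≠ 0 := pow_ne_zero _ ht
  rw [coeff_tw, coeff_tw, ← mul_assoc, mul_inv_cancel₀ h, one_mul]

theorem mul_t_aux (ht : t ≠ 0) {m : ℕ} {f g : K[X]} (b : ℕ)
    (h : f.comp (C t * X) = C (t ^ m) * g) :
    (X - C t) ^ b ∣ f ↔ (X - C 1) ^ b ∣ g := by
  have h1 := dvd_comp_iff ht 1 b f
  rw [mul_one] at h1
  rw [← h1, h]
  constructor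
  · intro h2
    have h3 : g = C (t ^ m)⁻¹ * (C (t ^ m) * g) := by
      rw [← mul_assoc, ← C_mul, inv_mul_cancel₀ (pow_ne_zero _ ht), C_1, one_mul]
    rw [h3]
    exact Dvd.dvd.mul_left h2 _
  · intro h2
    exact Dvd.dvd.mul_left h2 _

/-- **Non-degenerate solutions give rigid pencils.** -/
theorem rigid_of_nondeg (ht : t ≠ 0) {z : Var n d → K} (h : Sol m₀ m₁ Q t e a b z)
    (hm : m₀ < m₁) (ha : m₀ < a)
    (hnd : ∀ v : Var n d → K, LSol m₀ m₁ Q t e a b z v → v = 0) :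
    Rigid d (Fin.snoc (Fin.snoc Q 0 : Fin (n + 1) → K) t : Fin (n + 2) → K)
      (Fin.snoc (Fin.snoc e a : Fin (n + 1) → ℕ) b : Fin (n + 2) → ℕ)
      (Submodule.span K {mF t m₀ z, mG t m₁ z}) := by
  set F := mF t m₀ z with hF
  set G := mG t m₁ z with hG
  set V := Submodule.span K {F, G} with hV
  have dF : F.natDegree ≤ d := natDegree_tw _ (natDegree_pA _)
  have dG : G.natDegree ≤ d := natDegree_tw _ (natDegree_pB _)
  have F0 : F.coeff m₀ = 1 := by rw [hF, coeff_tw, wm, Nat.sub_self, pow_zero, one_mul, h.A0]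
  have F1 : F.coeff m₁ = 0 := by rw [hF, coeff_tw, h.A1, mul_zero]
  have G0 : G.coeff m₀ = 0 := by rw [hG, coeff_tw, h.B0 _ ha, mul_zero]
  have G1 : G.coeff m₁ = 1 := by rw [hG, coeff_tw, wm, Nat.sub_self, pow_zero, one_mul, h.B1]
  have Ga : X ^ a ∣ G := by
    rw [X_pow_dvd_iff]
    intro j hj
    rw [hG, coeff_tw, h.B0 j hj, mul_zero]
  have memF : F ∈ V := Submodule.subset_span (by simp)
  have memG : G ∈ V := Submodule.subset_span (by simp)
  have memc : ∀ x y : K, x • F + y • G ∈ V := fun x y => Submodule.mem_span_pair.2 ⟨x, y, rfl⟩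
  intro τ hdeg hcond
  set x₁ := (τ F).coeff m₀ with hx₁
  set y₁ := (τ F).coeff m₁ with hy₁
  set x₂ := (τ G).coeff m₀ with hx₂
  set y₂ := (τ G).coeff m₁ with hy₂
  set F₁ := τ F - (x₁ • F + y₁ • G) with hF₁
  set G₁ := τ G - (x₂ • F + y₂ • G) with hG₁
  have cF₁0 : F₁.coeff m₀ = 0 := by
    rw [hF₁, coeff_sub, coeff_add, coeff_smul, coeff_smul, F0, G0]
    simp [hx₁]
  have cF₁1 : F₁.coeff m₁ = 0 := by
    rw [hF₁, coeff_sub, coeff_add, coeff_smul, coeff_smul, F1, G1]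
    simp [hy₁]
  have cG₁0 : G₁.coeff m₀ = 0 := by
    rw [hG₁, coeff_sub, coeff_add, coeff_smul, coeff_smul, F0, G0]
    simp [hx₂]
  have cG₁1 : G₁.coeff m₁ = 0 := by
    rw [hG₁, coeff_sub, coeff_add, coeff_smul, coeff_smul, F1, G1]
    simp [hy₂]
  have dF₁ : F₁.natDegree ≤ d :=
    (natDegree_sub_le _ _).trans (max_le (hdeg F memF) (natDegree_comb_le dF dG))
  have dG₁ : G₁.natDegree ≤ d :=
    (natDegree_sub_le _ _).trans (max_le (hdeg G memG) (natDegree_comb_le dF dG))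
  have key : ∀ (i : Fin (n + 2)) (x y : K),
      (X - C ((Fin.snoc (Fin.snoc Q 0 : Fin (n + 1) → K) t : Fin (n + 2) → K) i)) ^
        ((Fin.snoc (Fin.snoc e a : Fin (n + 1) → ℕ) b : Fin (n + 2) → ℕ) i) ∣ x • F + y • G →
      ∃ x' y' : K,
      (X - C ((Fin.snoc (Fin.snoc Q 0 : Fin (n + 1) → K) t : Fin (n + 2) → K) i)) ^
        ((Fin.snoc (Fin.snoc e a : Fin (n + 1) → ℕ) b : Fin (n + 2) → ℕ) i) ∣
          x • F₁ + y • G₁ - (x' • F + y' • G) := by
    intro i x y hxy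
    obtain ⟨r, hr, hrd⟩ := hcond i _ (memc x y) hxy
    have hr' : r - x • (x₁ • F + y₁ • G) - y • (x₂ • F + y₂ • G) ∈ V :=
      V.sub_mem (V.sub_mem hr (V.smul_mem _ (memc _ _))) (V.smul_mem _ (memc _ _))
    obtain ⟨x', y', hx'⟩ := Submodule.mem_span_pair.1 hr'
    refine ⟨x', y', ?_⟩
    rw [hx']
    convert hrd using 1
    rw [map_add, map_smul, map_smul, hF₁, hG₁, smul_sub, smul_sub]
    ring
  -- the point `0`
  have hG₁a : X ^ a ∣ G₁ := by
    obtain ⟨x', y', hx'⟩ := key (Fin.castSucc (Fin.last n)) 0 1 (by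
      rw [Fin.snoc_castSucc, Fin.snoc_castSucc, Fin.snoc_last, Fin.snoc_last, C_0, sub_zero,
        zero_smul, one_smul, zero_add]
      exact Ga)
    rw [Fin.snoc_castSucc, Fin.snoc_castSucc, Fin.snoc_last, Fin.snoc_last, C_0, sub_zero,
        zero_smul, one_smul, zero_add] at hx'
    have h1 := X_pow_dvd_iff.1 hx' m₀ ha
    rw [coeff_sub, coeff_add, coeff_smul, coeff_smul, cG₁0, F0, G0, smul_zero, add_zero,
      smul_eq_mul, mul_one, zero_sub, neg_eq_zero] at h1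
    rw [h1, zero_smul, zero_add] at hx'
    have h2 : G₁ = (G₁ - y' • G) + y' • G := by ring
    rw [h2]
    exact dvd_add hx' (dvd_smul_of_dvd _ Ga)
  -- the points `Q i`
  have hQi : ∀ i, ∃ q' : K, (X - C (Q i)) ^ (e i) ∣ F₁ - C (pq z i) * G₁ - C q' * G := by
    intro i
    have hm' := h.main i
    obtain ⟨x', y', hx'⟩ := key (Fin.castSucc (Fin.castSucc i)) 1 (-(pq z i)) (by
      rw [Fin.snoc_castSucc, Fin.snoc_castSucc, Fin.snoc_castSucc, Fin.snoc_castSucc, one_smul,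
        neg_smul, ← sub_eq_add_neg, smul_eq_C_mul]
      exact hm')
    rw [Fin.snoc_castSucc, Fin.snoc_castSucc, Fin.snoc_castSucc, Fin.snoc_castSucc, one_smul,
        neg_smul, ← sub_eq_add_neg, smul_eq_C_mul] at hx'
    refine ⟨x' * pq z i + y', ?_⟩
    have h1 : F₁ - C (pq z i) * G₁ - C (x' * pq z i + y') * G =
        (F₁ - C (pq z i) * G₁ - (x' • F + y' • G)) + C x' * (F - C (pq z i) * G) := by
      simp only [smul_eq_C_mul, C_add, C_mul]; ring
    rw [h1]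
    exact dvd_add hx' (Dvd.dvd.mul_left hm' _)
  choose q' hq' using hQi
  -- the point `t`
  have htc : t ^ (m₁ - m₀) ≠ 0 := pow_ne_zero _ ht
  obtain ⟨r', hr'⟩ : ∃ r' : K, (X - C t) ^ b ∣
      G₁ + C (pr z * t ^ (m₁ - m₀)) * F₁ + C (r' * t ^ (m₁ - m₀)) * F := by
    have hm' := Sol.sch_t ht h hm.le
    obtain ⟨x', y', hx'⟩ := key (Fin.last _) (pr z * t ^ (m₁ - m₀)) 1 (by
      rw [Fin.snoc_last, Fin.snoc_last, one_smul, smul_eq_C_mul, add_comm]
      exact hm')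
    rw [Fin.snoc_last, Fin.snoc_last, one_smul, smul_eq_C_mul] at hx'
    refine ⟨-(x' - y' * (pr z * t ^ (m₁ - m₀))) / t ^ (m₁ - m₀), ?_⟩
    rw [div_mul_cancel₀ _ htc]
    have h1 : G₁ + C (pr z * t ^ (m₁ - m₀)) * F₁ + C (-(x' - y' * (pr z * t ^ (m₁ - m₀)))) * F =
        (C (pr z * t ^ (m₁ - m₀)) * F₁ + G₁ - (x' • F + y' • G)) +
          C y' * (G + C (pr z * t ^ (m₁ - m₀)) * F) := by
      simp only [smul_eq_C_mul, C_sub, C_mul, C_neg]; ring
    rw [h1]
    exact dvd_add hx' (Dvd.dvd.mul_left hm' _)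
  -- assemble the tangent vector
  have dA : (tw (fun j => (wm t m₀ j)⁻¹) F₁).natDegree ≤ d := natDegree_tw _ dF₁
  have dB : (tw (fun j => (wm t m₁ j)⁻¹) G₁).natDegree ≤ d := natDegree_tw _ dG₁
  let v : Var n d → K := mk (tw (fun j => (wm t m₀ j)⁻¹) F₁) (tw (fun j => (wm t m₁ j)⁻¹) G₁) q' r'
  have vA : pA v = tw (fun j => (wm t m₀ j)⁻¹) F₁ := pA_mk dA
  have vB : pB v = tw (fun j => (wm t m₁ j)⁻¹) G₁ := pB_mk dB
  have vF : mF t m₀ v = F₁ := by show tw _ (pA v) = _; rw [vA, tw_inv ht]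
  have vG : mG t m₁ v = G₁ := by show tw _ (pB v) = _; rw [vB, tw_inv ht]
  have hv : v = 0 := by
    apply hnd
    refine ⟨?_, ?_, ?_, ?_, ?_, ?_⟩
    · rw [vA, coeff_tw, cF₁0, mul_zero]
    · rw [vA, coeff_tw, cF₁1, mul_zero]
    · rw [vB, coeff_tw, cG₁1, mul_zero]
    · intro l hl
      rw [vB, coeff_tw, X_pow_dvd_iff.1 hG₁a l hl, mul_zero]
    · intro i
      rw [vF, vG]
      exact hq' i
    · have h1 : (mG t m₁ v + C (pr z * t ^ (m₁ - m₀)) * mF t m₀ v +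
          C (r' * t ^ (m₁ - m₀)) * mF t m₀ z).comp (C t * X) =
          C (t ^ m₁) * (bG t m₁ v + C (pr z) * bF t m₀ v + C (pr v) * bF t m₀ z) := by
        have e1 : pr v = r' := rfl
        rw [add_comp, add_comp, mul_comp, mul_comp, C_comp, C_comp, comp_tw_wm, comp_tw_wm,
          comp_tw_wm, e1]
        have : t ^ m₁ = t ^ (m₁ - m₀) * t ^ m₀ := by rw [← pow_add]; congr 1; omega
        rw [this]
        simp only [C_mul]
        ring
      rw [← mul_t_aux ht b h1, vF, vG]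
      exact hr'
  have hF₁0 : F₁ = 0 := by
    rw [← vF, hv]
    ext j
    rw [coeff_tw, pA, coeff_pl]
    split_ifs <;> simp
  have hG₁0 : G₁ = 0 := by
    rw [← vG, hv]
    ext j
    rw [coeff_tw, pB, coeff_pl]
    split_ifs <;> simp
  have tF : τ F ∈ V := by
    have : τ F = x₁ • F + y₁ • G := sub_eq_zero.1 hF₁0
    rw [this]; exact memc _ _
  have tG : τ G ∈ V := by
    have : τ G = x₂ • F + y₂ • G := sub_eq_zero.1 hG₁0
    rw [this]; exact memc _ _
  intro s hs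
  obtain ⟨x, y, rfl⟩ := Submodule.mem_span_pair.1 hs
  rw [map_add, map_smul, map_smul]
  exact V.add_mem (V.smul_mem _ tF) (V.smul_mem _ tG)

end K807.RigidK
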