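import Groth.Agent.W4c1limliniiii.K807.LimitD
import Groth.Agent.W4c1limliniiii.K807.RigidK

/-!
# The correspondence between pencils over the fraction field and over the residue field
-/

set_option autoImplicit false
set_option linter.style.haveILetI false
set_option linter.unusedSectionVars false
universe u

open Polynomial

namespace K807.Corr

open K807.Wr K807.Pencil K807.Bound K807.Normal K807.Rigid K807.Chart K807.Bubble K807.Special
open K807.Family K807.LimitA K807.LimitB K807.LimitC K807.LimitD K807.RigidK W4c1limliniiii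

variable {K : Type u} [Field K] {O : ValuationSubring K}
variable {n d a b m : ℕ} {e : Fin n → ℕ} {Q : Fin n → O} {t : O}

/-- a solution attached to a pencil over the residue field -/
def RZ (Q : Fin n → O) (t : O) (e : Fin n → ℕ) (a b : ℕ) (m : ℕ)
    (V₀ : Submodule (IsLocalRing.ResidueField O) (IsLocalRing.ResidueField O)[X])
    (z : Var n d → O) : Prop :=
  OSol m (a + b - 1 - m) Q t e a b z ∧ ∃ u₀ v₀ : (IsLocalRing.ResidueField O)[X],
    V₀ = Submodule.span (IsLocalRing.ResidueField O) {u₀, v₀} ∧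
    Submodule.span (IsLocalRing.ResidueField O)
        {(FO m t z).map (re O), (GO (a + b - 1 - m) t z).map (re O)} =
      Submodule.span (IsLocalRing.ResidueField O) {X ^ m * u₀, X ^ m * v₀}

/-- the residue pencils are rigid -/
def RigR (O : ValuationSubring K) (d : ℕ) (Q : Fin n → O) (e : Fin n → ℕ) (a b : ℕ) : Prop :=
  ∀ m : ℕ, m ≤ d → 2 * m + 2 ≤ a + b → ∀ V₀ ∈ ramMaps (d - m) (ptsR Q)
    (Fin.snoc e (a + b - 1 - 2 * m) : Fin (n + 1) → ℕ),
      Rigid (d - m) (ptsR Q) (Fin.snoc e (a + b - 1 - 2 * m) : Fin (n + 1) → ℕ) V₀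

section Basis

variable {κ : Type*} [Field κ]

theorem exists_factor {u₀ v₀ F : κ[X]}
    (hF : F ∈ Submodule.span κ {X ^ m * u₀, X ^ m * v₀}) :
    ∃ Fo ∈ Submodule.span κ {u₀, v₀}, F = X ^ m * Fo := by
  obtain ⟨x, y, rfl⟩ := Submodule.mem_span_pair.1 hF
  refine ⟨x • u₀ + y • v₀, Submodule.mem_span_pair.2 ⟨x, y, rfl⟩, ?_⟩
  simp only [smul_eq_C_mul]; ring

theorem coeff_factor {F Fo : κ[X]} (h : F = X ^ m * Fo) (j : ℕ) : Fo.coeff j = F.coeff (j + m) := by
  rw [h, coeff_X_pow_mul]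

end Basis

/-- normalised basis of the residue pencil attached to a solution -/
theorem RZ.exists_basis (hc : Conf O Q t) (hma : m < a) (hmb : m < b)
    {V₀ : Submodule (IsLocalRing.ResidueField O) (IsLocalRing.ResidueField O)[X]}
    (hfr : Module.finrank (IsLocalRing.ResidueField O) V₀ = 2) {z : Var n d → O}
    (h : RZ Q t e a b m V₀ z) :
    ∃ Fo Go : (IsLocalRing.ResidueField O)[X],
      V₀ = Submodule.span (IsLocalRing.ResidueField O) {Fo, Go} ∧
      Fo ∈ V₀ ∧ Go ∈ V₀ ∧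
      mF 0 m (fun i => re O (z i)) = X ^ m * Fo ∧
      mG 0 (a + b - 1 - m) (fun i => re O (z i)) = X ^ m * Go ∧
      Fo.eval 0 = 1 ∧ Go.eval 0 = 0 ∧ Go ≠ 0 := by
  obtain ⟨hz, u₀, v₀, hV₀, hsp⟩ := h
  obtain ⟨F0, F1, G0, G1⟩ := hz.FO_coeff hma
  have eF := map_FO (m₀ := m) (t := t) (re O) z
  have eG := map_GO (m₁ := a + b - 1 - m) (t := t) (re O) z
  rw [hc.rt] at eF eG
  set F := (FO m t z).map (re O) with hF
  set G := (GO (a + b - 1 - m) t z).map (re O) with hG
  obtain ⟨Fo, hFo, hFo'⟩ := exists_factor (F := F) (m := m) (u₀ := u₀) (v₀ := v₀) (by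
    rw [← hsp]; exact Submodule.subset_span (by simp))
  obtain ⟨Go, hGo, hGo'⟩ := exists_factor (F := G) (m := m) (u₀ := u₀) (v₀ := v₀) (by
    rw [← hsp]; exact Submodule.subset_span (by simp))
  have f0 : Fo.coeff 0 = 1 := by
    rw [coeff_factor hFo', zero_add, hF, coeff_map, F0, map_one]
  have f1 : Fo.coeff (a + b - 1 - 2 * m) = 0 := by
    rw [coeff_factor hFo', show a + b - 1 - 2 * m + m = a + b - 1 - m by omega, hF, coeff_map, F1,
      map_zero]
  have g0 : Go.coeff 0 = 0 := by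
    rw [coeff_factor hGo', zero_add, hG, coeff_map, G0, map_zero]
  have g1 : Go.coeff (a + b - 1 - 2 * m) = 1 := by
    rw [coeff_factor hGo', show a + b - 1 - 2 * m + m = a + b - 1 - m by omega, hG, coeff_map, G1,
      map_one]
  have hli := Val.linInd_of_pivot f0 f1 g0 g1
  rw [← hV₀] at hFo hGo
  refine ⟨Fo, Go, eq_span_pair hfr hFo hGo hli, hFo, hGo, ?_, ?_, ?_, ?_, hli.ne_zero 1⟩
  · rw [← eF, hFo']
  · rw [← eG, hGo']
  · rw [← coeff_zero_eq_eval_zero, f0]
  · rw [← coeff_zero_eq_eval_zero, g0]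

/-- non-degeneracy of the residue solution -/
theorem RZ.nondeg (p : ℕ) [CharP (IsLocalRing.ResidueField O) p] (hpab : p = 0 ∨ a + b ≤ p)
    (hc : Conf O Q t) (he : ∀ i, 1 ≤ e i) (hma : m < a) (hmb : m < b) (hmd : m ≤ d)
    (hsep : SepR O d Q e a b) (hrig : RigR O d Q e a b)
    {V₀ : Submodule (IsLocalRing.ResidueField O) (IsLocalRing.ResidueField O)[X]}
    (hV₀ : V₀ ∈ ramMaps (d - m) (ptsR Q) (Fin.snoc e (a + b - 1 - 2 * m) : Fin (n + 1) → ℕ))
    {z : Var n d → O} (h : RZ Q t e a b m V₀ z) :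
    (∀ i, (mG 0 (a + b - 1 - m) (fun i => re O (z i))).eval (re O (Q i)) ≠ 0) ∧
    HenselN.Nondeg (re O) (sys m (a + b - 1 - m) Q t e a b d) (fun i => re O (z i)) := by
  obtain ⟨Fo, Go, hVe, hFo, hGo, eF, eG, f0, g0, hGne⟩ := h.exists_basis hc hma hmb hV₀.1.2.1
  have hQG : ∀ i, (mG 0 (a + b - 1 - m) (fun i => re O (z i))).eval (re O (Q i)) ≠ 0 := by
    intro i h0
    rw [eG, eval_mul, eval_pow, eval_X, mul_eq_zero] at h0
    have h1 := h0.resolve_left (pow_ne_zero _ (hc.ne0 i))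
    exact hGne (hsep m hmd (by omega) _ hV₀ i Go hGo g0 h1)
  refine ⟨hQG, ?_⟩
  have hR := hrig m hmd (by omega) _ hV₀
  have hc' : a + b - 1 - 2 * m = a + b - 1 - m - m := by omega
  rw [hc', hVe] at hR
  have hS := h.1.toR hc.rt
  have hzero : ∀ i : Eqn e a b, ev m (a + b - 1 - m) (fun i => re O (Q i)) (re O t)
      (fun i => re O (z i)) i = 0 := by
    intro i
    rw [← map_ev, h.1 i, map_zero]
  rw [nondeg_iff (re O) _ _ Q t e a b _ hzero]
  intro v hv
  rw [hc.rt] at hv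
  have hv' := (lsol_iff _ _ _ _ _ _).2 hv
  exact Sol.nondeg p (m₁ := a + b - 1 - m) (by omega) hma hmb (by omega) he hmd hS hc.ne0 hQG
    eF eG hR hv'

/-- **(G)** rigidity over the fraction field -/
theorem RZ.rigid [IsAlgClosed K] (p : ℕ) [CharP (IsLocalRing.ResidueField O) p]
    (hpab : p = 0 ∨ a + b ≤ p)
    (hc : Conf O Q t) (he : ∀ i, 1 ≤ e i) (hma : m < a) (hmb : m < b) (hmd : m ≤ d)
    (hsum : (∑ i, e i) + a + b = 2 * d + n)
    (hsep : SepR O d Q e a b) (hrig : RigR O d Q e a b)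
    {V₀ : Submodule (IsLocalRing.ResidueField O) (IsLocalRing.ResidueField O)[X]}
    (hV₀ : V₀ ∈ ramMaps (d - m) (ptsR Q) (Fin.snoc e (a + b - 1 - 2 * m) : Fin (n + 1) → ℕ))
    {z : Var n d → O} (h : RZ Q t e a b m V₀ z) :
    Rigid d (ptsK Q t) (ind e a b) (pen m (a + b - 1 - m) t z) := by
  haveI := HenselN.henselian O
  obtain ⟨-, hnd⟩ := h.nondeg p hpab hc he hma hmb hmd hsep hrig hV₀
  have h0 : ∀ i, MvPolynomial.eval₂ (RingHom.id O) z (sys m (a + b - 1 - m) Q t e a b d i) = 0 := by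
    intro i
    rw [eval_sys]
    exact h.1 i
  have h1 := HenselN.nondeg_generize _ (card_eq hsum) h0 hnd (io O)
  have hzero : ∀ i : Eqn e a b, ev m (a + b - 1 - m) (fun i => io O (Q i)) (io O t)
      (fun i => io O (z i)) i = 0 := by
    intro i
    rw [← map_ev, h.1 i, map_zero]
  rw [nondeg_iff (io O) _ _ Q t e a b _ hzero] at h1
  rw [pen, map_FO, map_GO]
  exact rigid_of_nondeg hc.tK h.1.toK (by omega) hma (fun v hv => h1 v ((lsol_iff _ _ _ _ _ _).1 hv))

/-- **(R4)** uniqueness of the solution attached to a residue pencil -/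
theorem RZ.unique [IsAlgClosed K] (p : ℕ) [CharP (IsLocalRing.ResidueField O) p]
    (hpab : p = 0 ∨ a + b ≤ p)
    (hc : Conf O Q t) (he : ∀ i, 1 ≤ e i) (hma : m < a) (hmb : m < b) (hmd : m ≤ d)
    (hsum : (∑ i, e i) + a + b = 2 * d + n)
    (hsep : SepR O d Q e a b) (hrig : RigR O d Q e a b)
    {V₀ : Submodule (IsLocalRing.ResidueField O) (IsLocalRing.ResidueField O)[X]}
    (hV₀ : V₀ ∈ ramMaps (d - m) (ptsR Q) (Fin.snoc e (a + b - 1 - 2 * m) : Fin (n + 1) → ℕ))
    {z z' : Var n d → O} (h : RZ Q t e a b m V₀ z) (h' : RZ Q t e a b m V₀ z') : z = z' := by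
  haveI := HenselN.henselian O
  obtain ⟨hQG, hnd⟩ := h.nondeg p hpab hc he hma hmb hmd hsep hrig hV₀
  obtain ⟨F0, F1, G0, G1⟩ := h.1.FO_coeff hma
  obtain ⟨F0', F1', G0', G1'⟩ := h'.1.FO_coeff hma
  have eF := map_FO (m₀ := m) (t := t) (re O) z
  have eG := map_GO (m₁ := a + b - 1 - m) (t := t) (re O) z
  have eF' := map_FO (m₀ := m) (t := t) (re O) z'
  have eG' := map_GO (m₁ := a + b - 1 - m) (t := t) (re O) z'
  rw [hc.rt] at eF eG eF' eG'
  -- spans agree
  have hspan : Submodule.span (IsLocalRing.ResidueField O)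
        {(FO m t z).map (re O), (GO (a + b - 1 - m) t z).map (re O)} =
      Submodule.span (IsLocalRing.ResidueField O)
        {(FO m t z').map (re O), (GO (a + b - 1 - m) t z').map (re O)} := by
    obtain ⟨-, u₀, v₀, hu, hs⟩ := h
    obtain ⟨-, u₀', v₀', hu', hs'⟩ := h'
    rw [hs, hs']
    have key : ∀ f g f' g' : (IsLocalRing.ResidueField O)[X],
        Submodule.span (IsLocalRing.ResidueField O) {f, g} ≤
          Submodule.span (IsLocalRing.ResidueField O) {f', g'} →
        Submodule.span (IsLocalRing.ResidueField O) {X ^ m * f, X ^ m * g} ≤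
          Submodule.span (IsLocalRing.ResidueField O) {X ^ m * f', X ^ m * g'} := by
      intro f g f' g' hle
      have key2 : ∀ s ∈ Submodule.span (IsLocalRing.ResidueField O) {f', g'},
          X ^ m * s ∈ Submodule.span (IsLocalRing.ResidueField O) {X ^ m * f', X ^ m * g'} := by
        intro s hs
        obtain ⟨x, y, rfl⟩ := Submodule.mem_span_pair.1 hs
        refine Submodule.mem_span_pair.2 ⟨x, y, ?_⟩
        simp only [smul_eq_C_mul]; ring
      rw [Submodule.span_le]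
      rintro s (rfl | rfl)
      · exact key2 _ (hle (Submodule.subset_span (by simp)))
      · exact key2 _ (hle (Submodule.subset_span (by simp)))
    exact le_antisymm (key _ _ _ _ (by rw [← hu, hu'])) (key _ _ _ _ (by rw [← hu', hu]))
  obtain ⟨hFF, hGG⟩ := eq_of_span_eq (α := m) (β := a + b - 1 - m)
    (by rw [coeff_map, F0, map_one]) (by rw [coeff_map, F0', map_one])
    (by rw [coeff_map, F1, map_zero]) (by rw [coeff_map, F1', map_zero])
    (by rw [coeff_map, G1, map_one]) (by rw [coeff_map, G1', map_one])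
    (by rw [coeff_map, G0, map_zero]) (by rw [coeff_map, G0', map_zero]) hspan
  have hzz : (fun i => re O (z i)) = fun i => re O (z' i) := by
    refine Sol.unique p (m₁ := a + b - 1 - m) (by omega) hma hmb (by omega) he (h.1.toR hc.rt)
      (h'.1.toR hc.rt) ?_ ?_ hQG
    · rw [← eF, ← eF', hFF]
    · rw [← eG, ← eG', hGG]
  refine HenselN.unique_lift (sys m (a + b - 1 - m) Q t e a b d) (card_eq hsum) ?_ ?_
    (fun i => congrFun hzz i) hnd
  · intro i
    rw [eval_sys]; exact h.1 i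
  · intro i
    rw [eval_sys]; exact h'.1 i

/-- the reductions of the basis of a pencil attached to a solution only depend on the pencil -/
theorem red_le {m m' : ℕ} (hma : m < a) {z z' : Var n d → O}
    (h : OSol m (a + b - 1 - m) Q t e a b z)
    (hp : pen m (a + b - 1 - m) t z = pen m' (a + b - 1 - m') t z') :
    Submodule.span (IsLocalRing.ResidueField O)
        {(FO m' t z').map (re O), (GO (a + b - 1 - m') t z').map (re O)} ≤
      Submodule.span (IsLocalRing.ResidueField O)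
        {(FO m t z).map (re O), (GO (a + b - 1 - m) t z).map (re O)} := by
  obtain ⟨F0, F1, G0, G1⟩ := h.FO_coeff hma
  have key : ∀ s : O[X], s.map (io O) ∈ pen m (a + b - 1 - m) t z →
      s.map (re O) ∈ Submodule.span (IsLocalRing.ResidueField O)
        {(FO m t z).map (re O), (GO (a + b - 1 - m) t z).map (re O)} := by
    intro s hs
    obtain ⟨x, y, hxy⟩ := Submodule.mem_span_pair.1 hs
    have e1 := congrArg (fun q => q.coeff m) hxy
    have e2 := congrArg (fun q => q.coeff (a + b - 1 - m)) hxy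
    simp only [coeff_add, coeff_smul, coeff_map, F0, F1, G0, G1, map_one, map_zero, smul_eq_mul,
      mul_one, mul_zero, add_zero, zero_add] at e1 e2
    have e3 : s = C (s.coeff m) * FO m t z + C (s.coeff (a + b - 1 - m)) *
        GO (a + b - 1 - m) t z := by
      apply Polynomial.map_injective _ io_injective
      rw [← hxy, e1, e2, Polynomial.map_add, Polynomial.map_mul, Polynomial.map_mul, map_C, map_C,
        smul_eq_C_mul, smul_eq_C_mul]
    have e4 := congrArg (Polynomial.map (re O)) e3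
    rw [Polynomial.map_add, Polynomial.map_mul, Polynomial.map_mul, map_C, map_C] at e4
    rw [e4, ← smul_eq_C_mul, ← smul_eq_C_mul]
    exact Submodule.mem_span_pair.2 ⟨_, _, rfl⟩
  rw [Submodule.span_le]
  rintro s (rfl | rfl)
  · apply key
    rw [hp]; exact Submodule.subset_span (by simp)
  · apply key
    rw [hp]; exact Submodule.subset_span (by simp)

/-- **(R3)** uniqueness of the residue pencil -/
theorem RZ.unique' {m m' : ℕ} (hma : m < a) (hma' : m' < a)
    {V₀ V₀' : Submodule (IsLocalRing.ResidueField O) (IsLocalRing.ResidueField O)[X]}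
    (hb : ∃ s ∈ V₀, s.eval 0 ≠ 0) (hb' : ∃ s ∈ V₀', s.eval 0 ≠ 0)
    {z z' : Var n d → O} (h : RZ Q t e a b m V₀ z) (h' : RZ Q t e a b m' V₀' z')
    (hp : pen m (a + b - 1 - m) t z = pen m' (a + b - 1 - m') t z') : m = m' ∧ V₀ = V₀' := by
  have h1 := red_le hma h.1 hp
  have h2 := red_le hma' h'.1 hp.symm
  obtain ⟨-, u₀, v₀, hu, hs⟩ := h
  obtain ⟨-, u₀', v₀', hu', hs'⟩ := h'
  have h3 := le_antisymm h2 h1
  rw [hs, hs'] at h3
  have key2 : ∀ (m : ℕ) (f g : (IsLocalRing.ResidueField O)[X]),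
      ∀ s ∈ Submodule.span (IsLocalRing.ResidueField O) {f, g},
      X ^ m * s ∈ Submodule.span (IsLocalRing.ResidueField O) {X ^ m * f, X ^ m * g} := by
    intro m f g s hs
    obtain ⟨x, y, rfl⟩ := Submodule.mem_span_pair.1 hs
    refine Submodule.mem_span_pair.2 ⟨x, y, ?_⟩
    simp only [smul_eq_C_mul]; ring
  have key : ∀ (m m' : ℕ) (f g f' g' : (IsLocalRing.ResidueField O)[X]),
      Submodule.span (IsLocalRing.ResidueField O) {X ^ m * f, X ^ m * g} =
        Submodule.span (IsLocalRing.ResidueField O) {X ^ m' * f', X ^ m' * g'} →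
      (∃ s ∈ Submodule.span (IsLocalRing.ResidueField O) {f, g}, s.eval 0 ≠ 0) → m' ≤ m := by
    rintro m m' f g f' g' hsp ⟨s, hs, hs0⟩
    have h4 := key2 m f g s hs
    rw [hsp] at h4
    obtain ⟨s', -, hs'⟩ := exists_factor h4
    by_contra hcon
    push Not at hcon
    have h5 := coeff_X_pow_mul s m 0
    rw [zero_add, hs', coeff_X_pow_mul', if_neg (by omega), coeff_zero_eq_eval_zero] at h5
    exact hs0 h5.symm
  have hm : m = m' := le_antisymm (key m' m _ _ _ _ h3.symm (hu' ▸ hb')) (key m m' _ _ _ _ h3 (hu ▸ hb))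
  subst hm
  refine ⟨rfl, ?_⟩
  have key3 : ∀ f g f' g' : (IsLocalRing.ResidueField O)[X],
      Submodule.span (IsLocalRing.ResidueField O) {X ^ m * f, X ^ m * g} =
        Submodule.span (IsLocalRing.ResidueField O) {X ^ m * f', X ^ m * g'} →
      Submodule.span (IsLocalRing.ResidueField O) {f, g} ≤
        Submodule.span (IsLocalRing.ResidueField O) {f', g'} := by
    intro f g f' g' hsp s hs
    have h4 := key2 m f g s hs
    rw [hsp] at h4
    obtain ⟨s', hs', hss'⟩ := exists_factor h4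
    rw [mul_left_cancel₀ (pow_ne_zero _ X_ne_zero) hss']
    exact hs'
  rw [hu, hu']
  exact le_antisymm (key3 _ _ _ _ h3) (key3 _ _ _ _ h3.symm)

/-- **(R2)** existence of the solution attached to a residue pencil -/
theorem RZ.exists [IsAlgClosed K] (p : ℕ) [CharP (IsLocalRing.ResidueField O) p]
    (hpab : p = 0 ∨ a + b ≤ p)
    (hc : Conf O Q t) (he : ∀ i, 1 ≤ e i) (hma : m < a) (hmb : m < b) (hmd : m ≤ d)
    (hsum : (∑ i, e i) + a + b = 2 * d + n)
    (hsep : SepR O d Q e a b) (hrig : RigR O d Q e a b)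
    {V₀ : Submodule (IsLocalRing.ResidueField O) (IsLocalRing.ResidueField O)[X]}
    (hV₀ : V₀ ∈ ramMaps (d - m) (ptsR Q) (Fin.snoc e (a + b - 1 - 2 * m) : Fin (n + 1) → ℕ)) :
    ∃ z : Var n d → O, RZ Q t e a b m V₀ z ∧
      pen m (a + b - 1 - m) t z ∈ ramMaps d (ptsK Q t) (ind e a b) := by
  haveI := HenselN.henselian O
  set κ := IsLocalRing.ResidueField O with hκ
  set c := a + b - 1 - 2 * m with hcdef
  have hc1 : 1 ≤ c := by omega
  -- normalised basis of `V₀`
  obtain ⟨⟨s₁, hs₁, hs₁0, hs₁m⟩, hs₁u⟩ := hV₀.2.2 (Fin.last n)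
  rw [Fin.snoc_last, ptsR, Fin.snoc_last] at hs₁m
  have hs₁d : (X : κ[X]) ^ c ∣ s₁ := by
    have := (le_rootMultiplicity_iff hs₁0).1 hs₁m
    rwa [C_0, sub_zero] at this
  have hs₁c : s₁.coeff c ≠ 0 := by
    intro h0
    have h1 : (X - C (0 : κ)) ^ (c + 1) ∣ s₁ := by
      rw [C_0, sub_zero]
      rw [X_pow_dvd_iff] at hs₁d ⊢
      intro j hj
      rcases Nat.lt_succ_iff_lt_or_eq.1 hj with h | h
      · exact hs₁d j h
      · rw [h]; exact h0
    have h2 := (le_rootMultiplicity_iff hs₁0).2 h1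
    have h3 := hs₁u s₁ hs₁ hs₁0
    rw [Fin.snoc_last, ptsR, Fin.snoc_last] at h3
    omega
  obtain ⟨s₀, hs₀, hs₀0⟩ := hV₀.1.2.2.2 0
  rw [← coeff_zero_eq_eval_zero] at hs₀0
  set Go : κ[X] := (s₁.coeff c)⁻¹ • s₁ with hGo
  set Fo : κ[X] := (s₀.coeff 0)⁻¹ • s₀ - ((s₀.coeff 0)⁻¹ * s₀.coeff c) • Go with hFo
  have mGo : Go ∈ V₀ := V₀.smul_mem _ hs₁
  have mFo : Fo ∈ V₀ := V₀.sub_mem (V₀.smul_mem _ hs₀) (V₀.smul_mem _ mGo)
  have g1 : Go.coeff c = 1 := by rw [hGo, coeff_smul, smul_eq_mul, inv_mul_cancel₀ hs₁c]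
  have gd : (X : κ[X]) ^ c ∣ Go := dvd_smul_of_dvd _ hs₁d
  have g0 : Go.coeff 0 = 0 := X_pow_dvd_iff.1 gd 0 (by omega)
  have f0 : Fo.coeff 0 = 1 := by
    rw [hFo, coeff_sub, coeff_smul, coeff_smul, g0, smul_eq_mul, inv_mul_cancel₀ hs₀0, smul_zero,
      sub_zero]
  have f1 : Fo.coeff c = 0 := by
    rw [hFo, coeff_sub, coeff_smul, coeff_smul, g1, smul_eq_mul, smul_eq_mul, mul_one, sub_self]
  have hli := Val.linInd_of_pivot f0 f1 g0 g1
  have hVe : V₀ = Submodule.span κ {Fo, Go} := eq_span_pair hV₀.1.2.1 mFo mGo hli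
  have hGne : Go ≠ 0 := hli.ne_zero 1
  have hWo : wronskian Fo Go ≠ 0 := (isSeparable_iff hVe).1 hV₀.2.1
  have dFo := natDegree_le_of_mem hV₀.1.1 mFo
  have dGo := natDegree_le_of_mem hV₀.1.1 mGo
  have hcd : c ≤ d - m := by
    have := natDegree_le_of_dvd gd hGne
    rw [natDegree_X_pow] at this
    exact this.trans dGo
  -- the main components
  have hq : ∀ i, ∃ q : κ, (X - C (re O (Q i))) ^ (e i) ∣ X ^ m * Fo - C q * (X ^ m * Go) := by
    intro i
    obtain ⟨s, hs, hs0, hd⟩ := schubert_of_mem hV₀ hVe (Fin.castSucc i)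
    rw [Fin.snoc_castSucc, ptsR, Fin.snoc_castSucc] at hd
    obtain ⟨x, y, rfl⟩ := Submodule.mem_span_pair.1 hs
    have hx : x ≠ 0 := by
      rintro rfl
      rw [zero_smul, zero_add] at hs0 hd
      have hy : y ≠ 0 := by rintro rfl; simp at hs0
      have h1 : (X - C (re O (Q i))) ∣ y • Go :=
        (dvd_pow_self _ (by have := he i; omega)).trans hd
      have h2 := dvd_iff_isRoot.1 h1
      rw [IsRoot.def, eval_smul, smul_eq_mul, mul_eq_zero] at h2
      exact hGne (hsep m hmd (by omega) _ hV₀ i Go mGo (by rw [← coeff_zero_eq_eval_zero, g0])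
        (h2.resolve_left hy))
    refine ⟨-(x⁻¹ * y), ?_⟩
    have h1 : X ^ m * Fo - C (-(x⁻¹ * y)) * (X ^ m * Go) = C x⁻¹ * X ^ m * (x • Fo + y • Go) := by
      have hxC : (C x⁻¹ * C x : κ[X]) = 1 := by rw [← C_mul, inv_mul_cancel₀ hx, C_1]
      simp only [smul_eq_C_mul, C_neg, C_mul]
      linear_combination (-(X ^ m * Fo)) * hxC
    rw [h1]
    exact Dvd.dvd.mul_left hd _
  choose q hq using hq
  have dX : ∀ f : κ[X], f.natDegree ≤ d - m → (X ^ m * f).natDegree ≤ d := by
    intro f hf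
    refine natDegree_mul_le.trans ?_
    rw [natDegree_X_pow]; omega
  have hX : (X : κ[X]) ^ m ≠ 0 := pow_ne_zero _ X_ne_zero
  have cX : ∀ (f : κ[X]) (j : ℕ), (X ^ m * f).coeff (j + m) = f.coeff j := by
    intro f j; rw [coeff_X_pow_mul]
  obtain ⟨z₀, hz₀, zF, zG⟩ := exists_sol_of (m₀ := m) (m₁ := a + b - 1 - m) (a := a) (b := b)
    (d := d) p (by omega) hma hmb
    (by omega) (by omega) (dX Fo dFo) (dX Go dGo) (Dvd.intro _ rfl)
    (by
      have : a + b - 1 - m = m + c := by omega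
      rw [this, pow_add]
      exact mul_dvd_mul_left _ gd)
    (by have := cX Fo 0; rw [zero_add] at this; rw [this, f0])
    (by have := cX Fo c; rw [show c + m = a + b - 1 - m by omega] at this; rw [this, f1])
    (by have := cX Go c; rw [show c + m = a + b - 1 - m by omega] at this; rw [this, g1]) q hq
  -- lift
  have hzero : ∀ i : Eqn e a b, ev m (a + b - 1 - m) (fun i => re O (Q i)) (re O t) z₀ i = 0 := by
    intro i
    rw [hc.rt]
    exact (sol_iff _ _ _ _ _).1 hz₀ i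
  have hQG : ∀ i, (mG 0 (a + b - 1 - m) z₀).eval (re O (Q i)) ≠ 0 := by
    intro i h0
    rw [zG, eval_mul, eval_pow, eval_X, mul_eq_zero] at h0
    have h1 := h0.resolve_left (pow_ne_zero _ (hc.ne0 i))
    exact hGne (hsep m hmd (by omega) _ hV₀ i Go mGo (by rw [← coeff_zero_eq_eval_zero, g0]) h1)
  have hnd : HenselN.Nondeg (re O) (sys m (a + b - 1 - m) Q t e a b d) z₀ := by
    rw [nondeg_iff (re O) _ _ Q t e a b _ hzero]
    intro v hv
    rw [hc.rt] at hv
    have hv' := (lsol_iff _ _ _ _ _ _).2 hv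
    have hR := hrig m hmd (by omega) _ hV₀
    have hc' : a + b - 1 - 2 * m = a + b - 1 - m - m := by omega
    rw [hc', hVe] at hR
    exact Sol.nondeg p (m₁ := a + b - 1 - m) (by omega) hma hmb (by omega) he hmd hz₀ hc.ne0 hQG
      zF zG hR hv'
  obtain ⟨z, hz, hz'⟩ := HenselN.exists_lift _ (card_eq hsum) z₀ (fun i => by
    rw [eval_sys]; exact hzero i) hnd
  have hOS : OSol m (a + b - 1 - m) Q t e a b z := by
    intro i
    have := hz' i
    rw [eval_sys] at this
    exact this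
  have hzz : (fun i => re O (z i)) = z₀ := funext hz
  have eF : (FO m t z).map (re O) = X ^ m * Fo := by
    rw [map_FO, hc.rt, hzz, ← zF]
  have eG : (GO (a + b - 1 - m) t z).map (re O) = X ^ m * Go := by
    rw [map_GO, hc.rt, hzz, ← zG]
  refine ⟨z, ⟨hOS, Fo, Go, hVe, ?_⟩, ?_⟩
  · rw [eF, eG]
  · apply hOS.pen_mem hc (by omega) hma (by omega) he hsum
    rw [eF, eG, wr_mul_mul]
    exact mul_ne_zero (pow_ne_zero _ hX) hWo

end K807.Corr
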