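import Groth.Agent.W4c1limliniiii.K807.Corr

/-!
# Counting pencils by degeneration
-/

set_option autoImplicit false
set_option linter.style.haveILetI false
set_option linter.unusedSectionVars false
universe u

open Polynomial

namespace K807.Count

open K807.Wr K807.Pencil K807.Bound K807.Normal K807.Rigid K807.Chart K807.Bubble K807.Special
open K807.Family K807.LimitA K807.LimitB K807.LimitC K807.LimitD K807.RigidK K807.Corr
open W4c1limliniiii

variable {K : Type u} [Field K] {O : ValuationSubring K}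
variable {n d a b m : ℕ} {e : Fin n → ℕ} {Q : Fin n → O} {t : O}

/-- the reductions of the pencils over the fraction field are separable -/
def RedSep (d : ℕ) (Q : Fin n → O) (t : O) (e : Fin n → ℕ) (a b : ℕ) : Prop :=
  ∀ V ∈ ramMaps d (ptsK Q t) (ind e a b), ∀ (f g : O[X]) (c : O),
    V = Submodule.span K {f.map (io O), g.map (io O)} → f.natDegree ≤ d → g.natDegree ≤ d →
    LinearIndependent (IsLocalRing.ResidueField O) ![f.map (re O), g.map (re O)] →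
    wronskian f g = C c * TO Q t e a b → re O c ≠ 0

/-- **Every pencil over the fraction field corresponds to a residue pencil.** -/
theorem exists_RZ [IsAlgClosed K] (p : ℕ) [CharP (IsLocalRing.ResidueField O) p]
    (hpab : p = 0 ∨ a + b ≤ p) (hc : Conf O Q t) (he : ∀ i, 1 ≤ e i) (ha : 1 ≤ a) (hb : 1 ≤ b)
    (hsum : (∑ i, e i) + a + b = 2 * d + n) (hsep : SepR O d Q e a b)
    (hred : RedSep d Q t e a b)
    {V : Submodule K K[X]} (hV : V ∈ ramMaps d (ptsK Q t) (ind e a b)) :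
    ∃ m V₀, m < a ∧ m < b ∧ m ≤ d ∧ V₀ ∈ ramMaps (d - m) (ptsR Q)
      (Fin.snoc e (a + b - 1 - 2 * m) : Fin (n + 1) → ℕ) ∧ ∃ z : Var n d → O,
      RZ Q t e a b m V₀ z ∧ V = pen m (a + b - 1 - m) t z := by
  obtain ⟨f, g, c, hVs, df, dg, hli, hW⟩ := exists_red hc he ha hb hsum hV
  obtain ⟨m, z, u₀, v₀, hma, hmb, hmd, hz, hVz, hV₀, hsp⟩ := exists_sol_of_red p hpab hc he ha hb
    hsum hsep hV hVs df dg hli hW (hred V hV f g c hVs df dg hli hW)
  exact ⟨m, _, hma, hmb, hmd, hV₀, z, ⟨hz, u₀, v₀, rfl, hsp⟩, hVz⟩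

/-- **Rigidity over the fraction field.** -/
theorem rigid_K [IsAlgClosed K] (p : ℕ) [CharP (IsLocalRing.ResidueField O) p]
    (hpab : p = 0 ∨ a + b ≤ p) (hc : Conf O Q t) (he : ∀ i, 1 ≤ e i) (ha : 1 ≤ a) (hb : 1 ≤ b)
    (hsum : (∑ i, e i) + a + b = 2 * d + n) (hsep : SepR O d Q e a b) (hrig : RigR O d Q e a b)
    (hred : RedSep d Q t e a b)
    {V : Submodule K K[X]} (hV : V ∈ ramMaps d (ptsK Q t) (ind e a b)) :
    Rigid d (ptsK Q t) (ind e a b) V := by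
  obtain ⟨m, V₀, hma, hmb, hmd, hV₀, z, hz, rfl⟩ := exists_RZ p hpab hc he ha hb hsum hsep hred hV
  exact hz.rigid p hpab hc he hma hmb hmd hsum hsep hrig hV₀

/-- **The count by degeneration.** -/
theorem card_eq_sum [IsAlgClosed K] (p : ℕ) [CharP (IsLocalRing.ResidueField O) p]
    (hpab : p = 0 ∨ a + b ≤ p) (hc : Conf O Q t) (he : ∀ i, 1 ≤ e i) (ha : 1 ≤ a) (hb : 1 ≤ b)
    (hsum : (∑ i, e i) + a + b = 2 * d + n) (hsep : SepR O d Q e a b) (hrig : RigR O d Q e a b)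
    (hred : RedSep d Q t e a b)
    (hfin : ∀ m ∈ (Finset.range (d + 1)).filter (fun m => m < a ∧ m < b),
      (ramMaps (d - m) (ptsR Q) (Fin.snoc e (a + b - 1 - 2 * m) : Fin (n + 1) → ℕ)).Finite) :
    Nat.card (ramMaps d (ptsK Q t) (ind e a b)) =
      ∑ m ∈ (Finset.range (d + 1)).filter (fun m => m < a ∧ m < b),
        Nat.card (ramMaps (d - m) (ptsR Q)
          (Fin.snoc e (a + b - 1 - 2 * m) : Fin (n + 1) → ℕ)) := by
  classical
  set I := (Finset.range (d + 1)).filter (fun m => m < a ∧ m < b) with hI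
  have hI' : ∀ m ∈ I, m < a ∧ m < b ∧ m ≤ d := by
    intro m hm
    rw [hI, Finset.mem_filter, Finset.mem_range] at hm
    exact ⟨hm.2.1, hm.2.2, by omega⟩
  let β : I → Type u := fun m => (ramMaps (d - m.1) (ptsR Q)
          (Fin.snoc e (a + b - 1 - 2 * m.1) : Fin (n + 1) → ℕ) : Set _)
  have hβ : ∀ m : I, Finite (β m) := fun m => hfin m.1 m.2
  have hex : ∀ x : (Σ m, β m), ∃ z : Var n d → O, RZ Q t e a b x.1.1 x.2.1 z ∧
      pen x.1.1 (a + b - 1 - x.1.1) t z ∈ ramMaps d (ptsK Q t) (ind e a b) := by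
    rintro ⟨⟨m, hm⟩, V₀, hV₀⟩
    obtain ⟨hma, hmb, hmd⟩ := hI' m hm
    exact RZ.exists p hpab hc he hma hmb hmd hsum hsep hrig hV₀
  choose z hz1 hz2 using hex
  let φ : (Σ m, β m) → ramMaps d (ptsK Q t) (ind e a b) := fun x =>
    ⟨pen x.1.1 (a + b - 1 - x.1.1) t (z x), hz2 x⟩
  have hφ : Function.Bijective φ := by
    constructor
    · rintro ⟨⟨m, hm⟩, V₀, hV₀⟩ ⟨⟨m', hm'⟩, V₀', hV₀'⟩ h
      obtain ⟨hma, hmb, hmd⟩ := hI' m hm
      obtain ⟨hma', hmb', hmd'⟩ := hI' m' hm'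
      obtain ⟨h1, h2⟩ := RZ.unique' hma hma' (hV₀.1.2.2.2 0) (hV₀'.1.2.2.2 0)
        (hz1 ⟨⟨m, hm⟩, V₀, hV₀⟩) (hz1 ⟨⟨m', hm'⟩, V₀', hV₀'⟩) (congrArg Subtype.val h)
      subst h1
      subst h2
      rfl
    · rintro ⟨V, hV⟩
      obtain ⟨m, V₀, hma, hmb, hmd, hV₀, w, hw, hVw⟩ :=
        exists_RZ p hpab hc he ha hb hsum hsep hred hV
      have hm : m ∈ I := by
        rw [hI, Finset.mem_filter, Finset.mem_range]
        exact ⟨by omega, hma, hmb⟩
      refine ⟨⟨⟨m, hm⟩, V₀, hV₀⟩, ?_⟩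
      apply Subtype.ext
      show pen m (a + b - 1 - m) t (z ⟨⟨m, hm⟩, V₀, hV₀⟩) = V
      rw [hVw, RZ.unique p hpab hc he hma hmb hmd hsum hsep hrig hV₀ (hz1 ⟨⟨m, hm⟩, V₀, hV₀⟩) hw]
  rw [← Nat.card_eq_of_bijective φ hφ, Nat.card_sigma]
  rw [← Finset.sum_coe_sort I]

end K807.Count
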