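import Groth.Agent.W4c1limliniiii.K807.Pencil
import Mathlib.RingTheory.Derivation.Basic
import Mathlib.RingTheory.Kaehler.Basic
import Mathlib.RingTheory.Unramified.Field
import Mathlib.RingTheory.AlgebraicIndependent.TranscendenceBasis
import Mathlib.FieldTheory.IntermediateField.Adjoin.Algebra
import Mathlib.RingTheory.Etale.Kaehler

/-!
# Derivations and pencils: the tangent space bound

* `trdeg_le_finrank_der`: `trdeg K L ≤ dim Der_K(L)` for a finitely generated field extension.
* `finrank_der_le`: the field of definition of a pencil with prescribed ramification has at most as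
  many derivations as there are (finite) branch points.
-/

set_option autoImplicit false
set_option linter.style.haveILetI false
universe u

open Polynomial

namespace K807.Deriv

section Trdeg

open scoped IntermediateField.algebraAdjoinAdjoin in
/-- `trdeg K L ≤ #s` if the differentials of the elements of `s` span `Ω[L⁄K]`. -/
theorem trdeg_le_of_span_D {K L : Type u} [Field K] [Field L] [Algebra K L]
    [Algebra.EssFiniteType K L]
    (s : Set L) (hs : Submodule.span L (KaehlerDifferential.D K L '' s) = ⊤) :
    Algebra.trdeg K L ≤ Cardinal.mk s := by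
  let E := IntermediateField.adjoin K s
  have h1 : Algebra.FormallyUnramified E L := by
    constructor
    have hsurj := KaehlerDifferential.map_surjective K E L
    have h0 : KaehlerDifferential.map K E L L = 0 := by
      apply LinearMap.ext_on hs
      rintro _ ⟨x, hx, rfl⟩
      rw [KaehlerDifferential.map_D, LinearMap.zero_apply]
      exact (KaehlerDifferential.D E L).map_algebraMap
        (⟨x, IntermediateField.subset_adjoin K s hx⟩ : E)
    refine subsingleton_of_forall_eq 0 fun y => ?_
    obtain ⟨ω, rfl⟩ := hsurj y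
    rw [h0, LinearMap.zero_apply]
  have h2 : Algebra.EssFiniteType E L := Algebra.EssFiniteType.of_comp K E L
  have h3 : Algebra.IsSeparable E L := Algebra.FormallyUnramified.isSeparable E L
  have h4 : Algebra.IsAlgebraic E L := inferInstance
  have h5 : Algebra.IsAlgebraic (Algebra.adjoin K s) E := inferInstance
  have h6 : Algebra.IsAlgebraic (Algebra.adjoin K s) L := Algebra.IsAlgebraic.trans _ E _
  exact Algebra.IsAlgebraic.trdeg_le_cardinalMk K s

theorem trdeg_le_finrank_kaehler (K L : Type u) [Field K] [Field L] [Algebra K L]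
    [Algebra.EssFiniteType K L] :
    Algebra.trdeg K L ≤ Module.finrank L (Ω[L⁄K]) := by
  have hspan := KaehlerDifferential.span_range_derivation K L
  obtain ⟨t, ht, hts, hli⟩ := exists_linearIndependent L (Set.range (KaehlerDifferential.D K L))
  rw [hspan] at hts
  choose f hf using fun x : t => ht x.2
  have h1 := trdeg_le_of_span_D (K := K) (L := L) (Set.range f) (by
    rw [← Set.range_comp]
    have : (⇑(KaehlerDifferential.D K L) ∘ f) = ((↑) : t → Ω[L⁄K]) := funext hf
    rw [this, Subtype.range_coe]
    exact hts)
  let b := Module.Basis.mk hli (by rw [Subtype.range_coe, hts])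
  have hfin : Finite t := Module.Finite.finite_basis b
  have := Fintype.ofFinite t
  rw [Module.finrank_eq_card_basis b]
  refine h1.trans ?_
  refine Cardinal.mk_range_le.trans ?_
  rw [Cardinal.mk_fintype]

theorem trdeg_le_finrank_der (K L : Type u) [Field K] [Field L] [Algebra K L]
    [Algebra.EssFiniteType K L] :
    Algebra.trdeg K L ≤ Module.finrank L (Derivation K L L) := by
  rw [← (KaehlerDifferential.linearMapEquivDerivation K L (M := L)).finrank_eq]
  have h1 : Module.finrank L (Ω[L⁄K] →ₗ[L] L) = Module.finrank L (Ω[L⁄K]) := by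
    exact Subspace.dual_finrank_eq
  rw [h1]
  exact trdeg_le_finrank_kaehler K L

end Trdeg

section Coeff

variable {k K : Type*} [CommRing k] [CommRing K] [Algebra k K]

/-- a derivation applied to the coefficients of a polynomial -/
noncomputable def dC (δ : Derivation k K K) (f : K[X]) : K[X] :=
  ∑ i ∈ f.support, monomial i (δ (f.coeff i))

@[simp] theorem coeff_dC (δ : Derivation k K K) (f : K[X]) (n : ℕ) :
    (dC δ f).coeff n = δ (f.coeff n) := by
  rw [dC, finsetSum_coeff]
  simp only [coeff_monomial]
  rw [Finset.sum_ite_eq' f.support n]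
  split_ifs with h
  · rfl
  · rw [notMem_support_iff.1 h, map_zero]

theorem dC_add (δ : Derivation k K K) (f g : K[X]) : dC δ (f + g) = dC δ f + dC δ g := by
  ext n; simp

theorem dC_zero (δ : Derivation k K K) : dC δ (0 : K[X]) = 0 := by
  ext n; simp

theorem dC_sub (δ : Derivation k K K) (f g : K[X]) : dC δ (f - g) = dC δ f - dC δ g := by
  ext n; simp

theorem dC_mul (δ : Derivation k K K) (f g : K[X]) :
    dC δ (f * g) = dC δ f * g + f * dC δ g := by
  ext n
  rw [coeff_dC, coeff_mul, map_sum, coeff_add, coeff_mul, coeff_mul, ← Finset.sum_add_distrib]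
  refine Finset.sum_congr rfl fun x _ => ?_
  rw [Derivation.leibniz, coeff_dC, coeff_dC, smul_eq_mul, smul_eq_mul]
  ring

theorem dC_C (δ : Derivation k K K) (a : K) : dC δ (C a) = C (δ a) := by
  ext n
  rw [coeff_dC, coeff_C, coeff_C]
  split_ifs <;> simp

theorem dC_X (δ : Derivation k K K) : dC δ (X : K[X]) = 0 := by
  ext n
  rw [coeff_dC, coeff_X]
  split_ifs <;> simp

theorem dC_X_sub_C_pow (δ : Derivation k K K) (a : K) (m : ℕ) :
    dC δ ((X - C a) ^ m) = C (-(m : K) * δ a) * (X - C a) ^ (m - 1) := by
  induction m with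
  | zero =>
    rw [pow_zero, ← C_1, dC_C]
    simp
  | succ m ih =>
    rw [pow_succ, dC_mul, ih, dC_sub, dC_X, dC_C]
    rcases m with _ | m
    · simp
    · simp only [Nat.add_sub_cancel, Nat.cast_add, Nat.cast_one, map_mul, map_neg, map_add,
        map_natCast, map_one]
      ring

theorem dC_dvd (δ : Derivation k K K) {a : K} {m : ℕ} {s : K[X]} (h : (X - C a) ^ m ∣ s) :
    (X - C a) ^ (m - 1) ∣ dC δ s := by
  obtain ⟨u, rfl⟩ := h
  rw [dC_mul, dC_X_sub_C_pow]
  exact dvd_add (Dvd.dvd.mul_right (Dvd.intro_left _ rfl) _)
    (Dvd.dvd.mul_right (pow_dvd_pow _ (Nat.sub_le _ _)) _)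

theorem natDegree_dC_le (δ : Derivation k K K) (f : K[X]) : (dC δ f).natDegree ≤ f.natDegree := by
  rw [natDegree_le_iff_coeff_eq_zero]
  intro n hn
  rw [coeff_dC, coeff_eq_zero_of_natDegree_lt hn, map_zero]

theorem dC_add_der (δ δ' : Derivation k K K) (f : K[X]) : dC (δ + δ') f = dC δ f + dC δ' f := by
  ext n; simp

theorem dC_smul_der (a : K) (δ : Derivation k K K) (f : K[X]) : dC (a • δ) f = a • dC δ f := by
  ext n; simp

theorem dC_zero_der (f : K[X]) : dC (0 : Derivation k K K) f = 0 := by
  ext n; simp

end Coeff

end K807.Deriv
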