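import Groth.Agent.W4c1limliniiii.K807.Special
import Groth.Agent.W4c1limliniiii.K807.Val

/-!
# From solutions over a valuation ring to pencils over its fraction field
-/

set_option autoImplicit false
set_option linter.style.haveILetI false
set_option linter.unusedSectionVars false
universe u

open Polynomial

namespace K807.Family

open K807.Wr K807.Pencil K807.Normal K807.Rigid K807.Chart K807.Bubble K807.Special W4c1limliniiii

section Scale

variable {K : Type*} [Field K]

theorem comp_comp_inv {t : K} (ht : t ≠ 0) (f : K[X]) :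
    (f.comp (C t * X)).comp (C t⁻¹ * X) = f := by
  rw [comp_assoc, mul_comp, C_comp, X_comp, ← mul_assoc, ← C_mul, mul_inv_cancel₀ ht, C_1, one_mul,
    comp_X]

theorem dvd_comp_iff {t : K} (ht : t ≠ 0) (c : K) (b : ℕ) (f : K[X]) :
    (X - C c) ^ b ∣ f.comp (C t * X) ↔ (X - C (t * c)) ^ b ∣ f := by
  constructor
  · rintro ⟨g, hg⟩
    have h1 : (f.comp (C t * X)).comp (C t⁻¹ * X) = ((X - C c) ^ b * g).comp (C t⁻¹ * X) := by
      rw [hg]
    rw [comp_comp_inv ht, mul_comp, pow_comp, sub_comp, X_comp, C_comp] at h1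
    rw [h1]
    have h2 : C t⁻¹ * X - C c = C t⁻¹ * (X - C (t * c)) := by
      rw [mul_sub, ← C_mul, ← mul_assoc, inv_mul_cancel₀ ht, one_mul]
    rw [h2, mul_pow, mul_assoc, mul_left_comm]
    exact dvd_mul_right _ _
  · rintro ⟨g, rfl⟩
    rw [mul_comp, pow_comp, sub_comp, X_comp, C_comp]
    have h2 : C t * X - C (t * c) = C t * (X - C c) := by rw [mul_sub, ← C_mul]
    rw [h2, mul_pow, mul_assoc, mul_left_comm]
    exact dvd_mul_right _ _

theorem comp_tw_wm (t : K) (m : ℕ) (f : K[X]) :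
    (tw (wm t m) f).comp (C t * X) = C (t ^ m) * tw (wb t m) f := by
  ext j
  rw [comp_C_mul_X_coeff, coeff_C_mul, coeff_tw, coeff_tw, wm, wb]
  have h : t ^ (m - j) * t ^ j = t ^ m * t ^ (j - m) := by
    rw [← pow_add, ← pow_add]; congr 1; omega
  linear_combination f.coeff j * h

theorem wronskian_comp (t : K) (F G : K[X]) :
    wronskian (F.comp (C t * X)) (G.comp (C t * X)) = C t * (wronskian F G).comp (C t * X) := by
  have h : ∀ f : K[X], derivative (f.comp (C t * X)) = C t * (derivative f).comp (C t * X) := by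
    intro f
    rw [derivative_comp]
    simp
  rw [wronskian, wronskian, h, h, sub_comp, mul_comp, mul_comp]
  ring

theorem comp_ne_zero {t : K} (ht : t ≠ 0) {f : K[X]} (hf : f ≠ 0) : f.comp (C t * X) ≠ 0 := by
  intro h
  apply hf
  rw [← comp_comp_inv ht f, h, zero_comp]

end Scale

variable {K : Type u} [Field K] {O : ValuationSubring K}

/-- inclusion of the valuation ring -/
noncomputable abbrev io (O : ValuationSubring K) : O →+* K := algebraMap O K

/-- residue map -/
noncomputable abbrev re (O : ValuationSubring K) : O →+* IsLocalRing.ResidueField O :=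
  IsLocalRing.residue O

theorem io_injective : Function.Injective (io O) := Subtype.coe_injective

/-- the configuration: `Q i`, `0`, `t`, with `t` infinitesimal -/
structure Conf (O : ValuationSubring K) {n : ℕ} (Q : Fin n → O) (t : O) : Prop where
  inj : Function.Injective fun i => re O (Q i)
  ne0 : ∀ i, re O (Q i) ≠ 0
  t0 : t ≠ 0
  rt : re O t = 0

variable {n d a b m₀ m₁ : ℕ} {e : Fin n → ℕ} {Q : Fin n → O} {t : O}

/-- the points over the fraction field -/
noncomputable def ptsK (Q : Fin n → O) (t : O) : Fin (n + 2) → K :=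
  Fin.snoc (Fin.snoc (fun i => io O (Q i)) 0 : Fin (n + 1) → K) (io O t)

/-- the points over the residue field -/
noncomputable def ptsR (Q : Fin n → O) : Fin (n + 1) → IsLocalRing.ResidueField O :=
  Fin.snoc (fun i => re O (Q i)) 0

/-- the indices -/
def ind (e : Fin n → ℕ) (a b : ℕ) : Fin (n + 2) → ℕ :=
  Fin.snoc (Fin.snoc e a : Fin (n + 1) → ℕ) b

theorem forall_snoc {n : ℕ} {P : Fin (n + 1) → Prop} :
    (∀ i, P i) ↔ (∀ i : Fin n, P i.castSucc) ∧ P (Fin.last n) := Fin.forall_fin_succ'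

theorem snoc_injective {α : Type*} {n : ℕ} {f : Fin n → α} {x : α} (hf : Function.Injective f)
    (hx : ∀ i, f i ≠ x) : Function.Injective (Fin.snoc f x : Fin (n + 1) → α) := by
  intro i
  refine Fin.lastCases ?_ (fun i => ?_) i
  · intro j
    refine Fin.lastCases ?_ (fun j => ?_) j
    · intro _; rfl
    · intro h
      rw [Fin.snoc_last, Fin.snoc_castSucc] at h
      exact absurd h.symm (hx j)
  · intro j
    refine Fin.lastCases ?_ (fun j => ?_) j
    · intro h
      rw [Fin.snoc_last, Fin.snoc_castSucc] at h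
      exact absurd h (hx i)
    · intro h
      rw [Fin.snoc_castSucc, Fin.snoc_castSucc] at h
      rw [hf h]

theorem Conf.inj0 (h : Conf O Q t) : Function.Injective fun i => io O (Q i) := by
  intro i j hij
  exact h.inj (congrArg (re O) (io_injective hij))

theorem Conf.tK (h : Conf O Q t) : io O t ≠ 0 := fun h0 => h.t0 (io_injective (by rw [h0, map_zero]))

theorem Conf.ptsK_injective (h : Conf O Q t) : Function.Injective (ptsK Q t) := by
  have h1 : ∀ i, io O (Q i) ≠ 0 := by
    intro i h0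
    have : Q i = 0 := io_injective (by rw [h0, map_zero])
    exact h.ne0 i (by rw [this, map_zero])
  refine snoc_injective (snoc_injective h.inj0 h1) ?_
  rw [forall_snoc]
  constructor
  · intro i hi
    rw [Fin.snoc_castSucc] at hi
    have : Q i = t := io_injective hi
    exact h.ne0 i (by rw [this, h.rt])
  · rw [Fin.snoc_last]
    exact fun h0 => h.tK h0.symm

theorem Conf.ptsR_injective (h : Conf O Q t) : Function.Injective (ptsR Q) :=
  snoc_injective h.inj h.ne0

/-- solutions over the valuation ring -/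
def OSol (m₀ m₁ : ℕ) (Q : Fin n → O) (t : O) (e : Fin n → ℕ) (a b : ℕ) (z : Var n d → O) : Prop :=
  ∀ i : Eqn e a b, ev m₀ m₁ Q t z i = 0

theorem OSol.toK {z : Var n d → O} (h : OSol m₀ m₁ Q t e a b z) :
    Sol m₀ m₁ (fun i => io O (Q i)) (io O t) e a b (fun i => io O (z i)) := by
  rw [sol_iff]
  intro i
  rw [← map_ev, h i, map_zero]

theorem OSol.toR {z : Var n d → O} (h : OSol m₀ m₁ Q t e a b z) (ht : re O t = 0) :
    Sol m₀ m₁ (fun i => re O (Q i)) 0 e a b (fun i => re O (z i)) := by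
  rw [sol_iff]
  intro i
  have h1 := map_ev (re O) m₀ m₁ Q t z i
  rw [h i, map_zero, ht] at h1
  exact h1.symm

/-- the first polynomial of the pencil, over the valuation ring -/
noncomputable def FO (m₀ : ℕ) (t : O) (z : Var n d → O) : O[X] := tw (wm t m₀) (pA z)
/-- the second polynomial of the pencil, over the valuation ring -/
noncomputable def GO (m₁ : ℕ) (t : O) (z : Var n d → O) : O[X] := tw (wm t m₁) (pB z)

theorem map_FO {B : Type*} [Field B] (g : O →+* B) (z : Var n d → O) :
    (FO m₀ t z).map g = mF (g t) m₀ (fun i => g (z i)) := by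
  rw [FO, map_tw, map_wm, map_pA]

theorem map_GO {B : Type*} [Field B] (g : O →+* B) (z : Var n d → O) :
    (GO m₁ t z).map g = mG (g t) m₁ (fun i => g (z i)) := by
  rw [GO, map_tw, map_wm, map_pB]

/-- the pencil of a solution -/
noncomputable def pen (m₀ m₁ : ℕ) (t : O) (z : Var n d → O) : Submodule K K[X] :=
  Submodule.span K {(FO m₀ t z).map (io O), (GO m₁ t z).map (io O)}

theorem OSol.FO_coeff {z : Var n d → O} (h : OSol m₀ m₁ Q t e a b z) (ha : m₀ < a) :
    (FO m₀ t z).coeff m₀ = 1 ∧ (FO m₀ t z).coeff m₁ = 0 ∧ (GO m₁ t z).coeff m₀ = 0 ∧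
      (GO m₁ t z).coeff m₁ = 1 := by
  have h1 := h (Sum.inl (Sum.inl ()))
  have h2 := h (Sum.inl (Sum.inr (Sum.inl ())))
  have h3 := h (Sum.inl (Sum.inr (Sum.inr (Sum.inl ()))))
  have h4 := h (Sum.inl (Sum.inr (Sum.inr (Sum.inr ⟨m₀, ha⟩))))
  simp only [ev] at h1 h2 h3 h4
  refine ⟨?_, ?_, ?_, ?_⟩
  · rw [FO, coeff_tw, wm, Nat.sub_self, pow_zero, one_mul, sub_eq_zero.1 h1]
  · rw [FO, coeff_tw, h2, mul_zero]
  · rw [GO, coeff_tw, h4, mul_zero]
  · rw [GO, coeff_tw, wm, Nat.sub_self, pow_zero, one_mul, sub_eq_zero.1 h3]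

theorem sum_ind (e : Fin n → ℕ) (a b : ℕ) : ∑ i, ind e a b i = (∑ i, e i) + a + b := by
  rw [ind, Fin.sum_snoc, Fin.sum_snoc]

theorem ind_pos (he : ∀ i, 1 ≤ e i) (ha : 1 ≤ a) (hb : 1 ≤ b) : ∀ i, 1 ≤ ind e a b i := by
  rw [forall_snoc]
  constructor
  · rw [forall_snoc]
    constructor
    · intro i
      rw [ind, Fin.snoc_castSucc, Fin.snoc_castSucc]; exact he i
    · rw [ind, Fin.snoc_castSucc, Fin.snoc_last]; exact ha
  · rw [ind, Fin.snoc_last]; exact hb

/-- the Schubert condition at the last point -/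
theorem Sol.sch_t {t : K} (ht : t ≠ 0) {Q : Fin n → K} {z : Var n d → K}
    (h : Sol m₀ m₁ Q t e a b z) (hm : m₀ ≤ m₁) :
    (X - C t) ^ b ∣ mG t m₁ z + C (pr z * t ^ (m₁ - m₀)) * mF t m₀ z := by
  rw [← mul_one t, ← dvd_comp_iff ht, mul_one]
  have h1 : (mG t m₁ z + C (pr z * t ^ (m₁ - m₀)) * mF t m₀ z).comp (C t * X) =
      C (t ^ m₁) * (bG t m₁ z + C (pr z) * bF t m₀ z) := by
    rw [add_comp, mul_comp, C_comp, comp_tw_wm, comp_tw_wm]
    have : t ^ m₁ = t ^ (m₁ - m₀) * t ^ m₀ := by rw [← pow_add]; congr 1; omega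
    rw [this]
    simp only [C_mul]
    ring
  rw [h1]
  exact Dvd.dvd.mul_left h.bub _

/-- **A solution with separable reduction gives a pencil with the right ramification.** -/
theorem OSol.pen_mem (hc : Conf O Q t) {z : Var n d → O} (h : OSol m₀ m₁ Q t e a b z)
    (hm : m₀ < m₁) (ha : m₀ < a) (hb : 1 ≤ b) (he : ∀ i, 1 ≤ e i)
    (hsum : (∑ i, e i) + a + b = 2 * d + n)
    (hW : wronskian ((FO m₀ t z).map (re O)) ((GO m₁ t z).map (re O)) ≠ 0) :
    pen m₀ m₁ t z ∈ ramMaps d (ptsK Q t) (ind e a b) := by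
  have hWO : wronskian (FO m₀ t z) (GO m₁ t z) ≠ 0 := by
    intro h0
    rw [← map_wronskian, h0, Polynomial.map_zero] at hW
    exact hW rfl
  have hWK : wronskian ((FO m₀ t z).map (io O)) ((GO m₁ t z).map (io O)) ≠ 0 := by
    rw [← map_wronskian]
    exact (Polynomial.map_ne_zero_iff io_injective).2 hWO
  have hli := linInd_of_wr hWK
  have hK := h.toK
  have eF := map_FO (m₀ := m₀) (t := t) (io O) z
  have eG := map_GO (m₁ := m₁) (t := t) (io O) z
  have hne : ∀ x y : K, (x ≠ 0 ∨ y ≠ 0) →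
      x • (FO m₀ t z).map (io O) + y • (GO m₁ t z).map (io O) ≠ 0 := by
    intro x y hxy h0
    obtain ⟨h1, h2⟩ := LinearIndependent.pair_iff.1 hli x y h0
    rcases hxy with h | h
    · exact h h1
    · exact h h2
  have memc : ∀ x y : K, x • (FO m₀ t z).map (io O) + y • (GO m₁ t z).map (io O) ∈
      Submodule.span K {(FO m₀ t z).map (io O), (GO m₁ t z).map (io O)} :=
    fun x y => Submodule.mem_span_pair.2 ⟨x, y, rfl⟩
  refine span_mem_ramMaps hc.ptsK_injective (ind_pos he (by omega) hb) (by rw [sum_ind]; omega)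
    ?_ ?_ hWK ?_
  · rw [eF]; exact natDegree_tw _ (natDegree_pA _)
  · rw [eG]; exact natDegree_tw _ (natDegree_pB _)
  rw [forall_snoc]
  constructor
  · rw [forall_snoc]
    constructor
    · intro i
      rw [ind, ptsK, Fin.snoc_castSucc, Fin.snoc_castSucc, Fin.snoc_castSucc, Fin.snoc_castSucc]
      refine ⟨_, memc 1 (-(pq (fun i => io O (z i)) i)), hne _ _ (Or.inl one_ne_zero), ?_⟩
      have := hK.main i
      rw [← eF, ← eG] at this
      rw [one_smul, neg_smul, ← sub_eq_add_neg, smul_eq_C_mul]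
      exact this
    · rw [ind, ptsK, Fin.snoc_castSucc, Fin.snoc_last, Fin.snoc_castSucc, Fin.snoc_last]
      refine ⟨_, memc 0 1, hne _ _ (Or.inr one_ne_zero), ?_⟩
      rw [zero_smul, one_smul, zero_add, C_0, sub_zero, eG, X_pow_dvd_iff]
      intro j hj
      rw [coeff_tw, hK.B0 j hj, mul_zero]
  · rw [ind, ptsK, Fin.snoc_last, Fin.snoc_last]
    refine ⟨_, memc (pr (fun i => io O (z i)) * (io O t) ^ (m₁ - m₀)) 1,
      hne _ _ (Or.inr one_ne_zero), ?_⟩
    have := Sol.sch_t hc.tK hK hm.le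
    rw [← eF, ← eG] at this
    rw [one_smul, smul_eq_C_mul, add_comm]
    exact this

end K807.Family
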