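import Groth.Agent.W4c1limliniiii.K807.Bound
import Mathlib.Algebra.Polynomial.Lifts

/-!
# Pencils with prescribed ramification at generic points
-/

set_option autoImplicit false
set_option linter.style.haveILetI false
universe u

open Polynomial

namespace K807.Gen

open K807.Wr K807.Pencil K807.Deriv K807.Bound

section Descend

variable {K L : Type*} [Field K] [Field L] (φ : K →+* L) {n : ℕ} {P : Fin n → K} {e : Fin n → ℕ}
  {α β : ℕ} {F G : K[X]}

theorem map_wronskian (F G : K[X]) : (wronskian F G).map φ = wronskian (F.map φ) (G.map φ) := by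
  simp [wronskian, Polynomial.derivative_map]

/-- a normalised pair descends along a field extension -/
theorem NP.descend (h : NP (fun i => φ (P i)) e α β (F.map φ) (G.map φ)) (he : ∀ i, 1 ≤ e i) :
    NP P e α β F G where
  mF := Polynomial.monic_map_iff.1 h.mF
  mG := Polynomial.monic_map_iff.1 h.mG
  dF := by rw [← h.dF, natDegree_map]
  dG := by rw [← h.dG, natDegree_map]
  lt := h.lt
  nrm := by
    have := h.nrm
    rw [coeff_map, map_eq_zero] at this
    exact this
  cop := (Polynomial.isCoprime_map φ).1 h.cop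
  W0 := by
    have := h.W0
    rw [← map_wronskian, Ne, Polynomial.map_eq_zero] at this
    exact this
  sch := by
    intro i
    have hX : (X - C (φ (P i))) ^ (e i) = ((X - C (P i)) ^ (e i)).map φ := by simp
    by_cases hG : G.eval (P i) = 0
    · refine ⟨G, Submodule.subset_span (by simp), (Polynomial.monic_map_iff.1 h.mG).ne_zero, ?_⟩
      have h1 := h.dvd_inf he (i := i) (by rw [eval_map_apply, hG, map_zero])
      rw [hX, Polynomial.map_dvd_map'] at h1
      exact h1
    · have h1 := h.dvd_fin he (i := i) (by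
        rw [eval_map_apply]
        exact fun h0 => hG ((map_eq_zero φ).1 h0))
      rw [eval_map_apply, eval_map_apply, ← map_div₀, hX, ← Polynomial.map_C,
        ← Polynomial.map_mul, ← Polynomial.map_sub, Polynomial.map_dvd_map'] at h1
      refine ⟨_, ?_, ?_, h1⟩
      · rw [← smul_eq_C_mul]
        exact Submodule.sub_mem _ (Submodule.subset_span (by simp))
          (Submodule.smul_mem _ _ (Submodule.subset_span (by simp)))
      · intro hcon
        have h1 := congrArg natDegree (sub_eq_zero.1 hcon)
        have h2 := natDegree_C_mul_le (F.eval (P i) / G.eval (P i)) G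
        rw [← h1] at h2
        have h3 := h.dF
        have h4 := h.dG
        have h5 := h.lt
        rw [natDegree_map] at h3 h4
        omega

theorem NP.base (h : NP P e α β F G) :
    NP (fun i => φ (P i)) e α β (F.map φ) (G.map φ) where
  mF := h.mF.map _
  mG := h.mG.map _
  dF := by rw [natDegree_map, h.dF]
  dG := by rw [natDegree_map, h.dG]
  lt := h.lt
  nrm := by rw [coeff_map, h.nrm, map_zero]
  cop := (Polynomial.isCoprime_map φ).2 h.cop
  W0 := by
    rw [← map_wronskian, Ne, Polynomial.map_eq_zero]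
    exact h.W0
  sch := by
    intro i
    obtain ⟨s, hs, hs0, hd⟩ := h.sch i
    refine ⟨s.map φ, ?_, (Polynomial.map_ne_zero_iff φ.injective).2 hs0, ?_⟩
    · obtain ⟨a, b, rfl⟩ := Submodule.mem_span_pair.1 hs
      rw [Polynomial.map_add, Polynomial.map_smul, Polynomial.map_smul]
      exact Submodule.mem_span_pair.2 ⟨_, _, rfl⟩
    · have hX : (X - C (φ (P i))) ^ (e i) = ((X - C (P i)) ^ (e i)).map φ := by simp
      rw [hX, Polynomial.map_dvd_map']
      exact hd

end Descend

/-- algebraic over the polynomial ring in the coordinates of the points -/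
def IsAlg (k : Type*) {E : Type*} [CommRing k] [CommRing E] [Algebra k E] {n : ℕ} (P : Fin n → E)
    (c : E) : Prop :=
  ∃ q : (MvPolynomial (Fin n) k)[X], q ≠ 0 ∧
    q.eval₂ (MvPolynomial.aeval P : MvPolynomial (Fin n) k →ₐ[k] E).toRingHom c = 0

/-- **Generic points**: a normalised pair with prescribed ramification (indices prime to the
characteristic) at algebraically independent points separates the points and is algebraic over the
field generated by the points. -/
theorem NP.generic {k E : Type u} [Field k] [Field E] [Algebra k E] {n : ℕ} {P : Fin n → E}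
    {e : Fin n → ℕ} {α β : ℕ} {F G : E[X]} (h : NP P e α β F G)
    (hP : AlgebraicIndependent k P) (he : ∀ i, 1 ≤ e i)
    (heK : ∀ i, (e i : k) ≠ 0) (hsum : (∑ i, e i) + 1 = α + β + n) :
    (∀ i, G.eval (P i) ≠ 0) ∧
    (∀ i j, F.eval (P i) / G.eval (P i) = F.eval (P j) / G.eval (P j) → i = j) ∧
    (∀ j, IsAlg k P (F.coeff j)) ∧ (∀ j, IsAlg k P (G.coeff j)) := by
  classical
  set A : Set E := Set.range P ∪ (F.coeffs ∪ G.coeffs : Finset E) with hA
  have hAfin : A.Finite := (Set.finite_range P).union (Finset.finite_toSet _)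
  set L := IntermediateField.adjoin k A with hL
  have hAL : A ⊆ L := IntermediateField.subset_adjoin k A
  have hfg : Algebra.EssFiniteType k L :=
    IntermediateField.essFiniteType_iff.2 ⟨hAfin.toFinset, by rw [Set.Finite.coe_toFinset]⟩
  have hcoef : ∀ f : E[X], (f.coeffs : Set E) ⊆ A → ∃ f₀ : L[X], f₀.map (algebraMap L E) = f := by
    intro f hf
    have : f ∈ Polynomial.lifts (algebraMap L E) := by
      rw [Polynomial.lifts_iff_coeff_lifts]
      intro j
      by_cases hj : f.coeff j = 0
      · exact ⟨0, by rw [map_zero, hj]⟩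
      · exact ⟨⟨f.coeff j, hAL (hf (Polynomial.coeff_mem_coeffs hj))⟩, rfl⟩
    exact (Polynomial.mem_lifts _).1 this
  obtain ⟨F₀, hF₀⟩ := hcoef F (fun x hx => Or.inr (Finset.mem_coe.2 (Finset.mem_union_left _ hx)))
  obtain ⟨G₀, hG₀⟩ := hcoef G (fun x hx => Or.inr (Finset.mem_coe.2 (Finset.mem_union_right _ hx)))
  let P₀ : Fin n → L := fun i => ⟨P i, hAL (Or.inl ⟨i, rfl⟩)⟩
  have hPP : P = fun i => algebraMap L E (P₀ i) := rfl
  have hP₀ : AlgebraicIndependent k P₀ := by
    have : AlgebraicIndependent k (L.val ∘ P₀) := hP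
    exact this.of_comp L.val
  have h0 : NP P₀ e α β F₀ G₀ := by
    refine NP.descend (algebraMap L E) ?_ he
    rw [hF₀, hG₀]
    exact h
  have heL : ∀ i, (e i : L) ≠ 0 := by
    intro i h1
    apply heK i
    have h2 : (algebraMap k L) (e i : k) = 0 := by rw [map_natCast, h1]
    exact (map_eq_zero _).1 h2
  let S : Finset L := (Finset.univ.filter (fun i => G₀.eval (P₀ i) ≠ 0)).image
    (fun i => F₀.eval (P₀ i) / G₀.eval (P₀ i))
  have hgen : ∀ δ : Derivation k L L, (∀ j, δ (F₀.coeff j) = 0) → (∀ j, δ (G₀.coeff j) = 0) →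
      (∀ i, δ (P₀ i) = 0) → δ = 0 := by
    intro δ h1 h2 h3
    have key : ∀ x (hx : x ∈ L), δ ⟨x, hx⟩ = 0 := by
      intro x hx
      refine IntermediateField.adjoin_induction (F := k) (s := A)
        (p := fun x hx => δ (⟨x, hx⟩ : L) = 0) ?_ ?_ ?_ ?_ ?_ hx
      · intro y hy
        have hAy := hy
        rcases hy with ⟨i, rfl⟩ | hy
        · exact h3 i
        · rw [Finset.mem_coe, Finset.mem_union] at hy
          rcases hy with hy | hy
          · obtain ⟨j, _, hj⟩ := Polynomial.mem_coeffs_iff.1 hy
            have : (⟨y, IntermediateField.subset_adjoin _ _ hAy⟩ : L) = F₀.coeff j := by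
              apply Subtype.ext
              show y = algebraMap L E (F₀.coeff j)
              rw [hj, ← coeff_map, hF₀]
            rw [this]; exact h1 j
          · obtain ⟨j, _, hj⟩ := Polynomial.mem_coeffs_iff.1 hy
            have : (⟨y, IntermediateField.subset_adjoin _ _ hAy⟩ : L) = G₀.coeff j := by
              apply Subtype.ext
              show y = algebraMap L E (G₀.coeff j)
              rw [hj, ← coeff_map, hG₀]
            rw [this]; exact h2 j
      · intro a
        exact δ.map_algebraMap a
      · intro a b ha hb ha' hb'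
        have : (⟨a + b, add_mem ha hb⟩ : L) = ⟨a, ha⟩ + ⟨b, hb⟩ := rfl
        rw [this, map_add, ha', hb', add_zero]
      · intro a ha ha'
        have : (⟨a⁻¹, inv_mem ha⟩ : L) = (⟨a, ha⟩ : L)⁻¹ := rfl
        rw [this, Derivation.leibniz_inv, ha', smul_zero]
      · intro a b ha hb ha' hb'
        have : (⟨a * b, mul_mem ha hb⟩ : L) = ⟨a, ha⟩ * ⟨b, hb⟩ := rfl
        rw [this, Derivation.leibniz, ha', hb', smul_zero, smul_zero, add_zero]
    ext x
    rw [Derivation.zero_apply]
    exact congrArg (algebraMap L E) (key x x.2)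
  obtain ⟨hfin, hle⟩ := h0.finrank_der_le hP₀.injective he heL hsum S
    (fun i hi => Finset.mem_image.2 ⟨i, Finset.mem_filter.2 ⟨Finset.mem_univ _, hi⟩, rfl⟩) hgen
  have h1 : Algebra.trdeg k L ≤ Module.finrank L (Derivation k L L) := trdeg_le_finrank_der k L
  have h2 : (n : Cardinal) ≤ Algebra.trdeg k L := by
    have := hP₀.lift_cardinalMk_le_trdeg
    simpa using this
  have h3 : S.card ≤ (Finset.univ.filter (fun i => G₀.eval (P₀ i) ≠ 0)).card :=
    Finset.card_image_le
  have h4 : (Finset.univ.filter (fun i => G₀.eval (P₀ i) ≠ 0)).card ≤ n := by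
    refine (Finset.card_filter_le _ _).trans ?_
    simp
  have h5 : n ≤ Module.finrank L (Derivation k L L) := by
    have := h2.trans h1
    exact_mod_cast this
  have h6 : Finset.univ.filter (fun i => G₀.eval (P₀ i) ≠ 0) = Finset.univ := by
    apply Finset.eq_univ_of_card
    rw [Fintype.card_fin]
    omega
  have h7 : Set.InjOn (fun i => F₀.eval (P₀ i) / G₀.eval (P₀ i))
      (Finset.univ.filter (fun i => G₀.eval (P₀ i) ≠ 0) : Finset (Fin n)) := by
    apply Finset.injOn_of_card_image_eq
    apply le_antisymm h3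
    have : S.card = (Finset.image (fun i => F₀.eval (P₀ i) / G₀.eval (P₀ i))
      (Finset.univ.filter (fun i => G₀.eval (P₀ i) ≠ 0))).card := rfl
    omega
  have h8 : IsTranscendenceBasis k P₀ := by
    apply hP₀.isTranscendenceBasis_of_lift_trdeg_le_of_finite
    have h9 : Module.finrank L (Derivation k L L) ≤ n := by omega
    have h10 : Algebra.trdeg k L ≤ (n : Cardinal) := h1.trans (by exact_mod_cast h9)
    simpa using h10
  have h9 := h8.isAlgebraic
  have halg : ∀ x : L, IsAlg k P (x : E) := by
    intro x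
    obtain ⟨q, hq0, hq⟩ := h9.isAlgebraic x
    let ι : MvPolynomial (Fin n) k ≃+* Algebra.adjoin k (Set.range P₀) :=
      hP₀.aevalEquiv.toRingEquiv
    have hι : ∀ r, algebraMap (Algebra.adjoin k (Set.range P₀)) L (ι r) =
        MvPolynomial.aeval P₀ r := hP₀.algebraMap_aevalEquiv
    refine ⟨q.map ι.symm.toRingHom,
      (Polynomial.map_ne_zero_iff ι.symm.injective).2 hq0, ?_⟩
    rw [eval₂_map]
    have h11 := congrArg (algebraMap L E) hq
    rw [aeval_def, hom_eval₂, map_zero] at h11
    rw [← h11]
    apply congrArg (fun g : Algebra.adjoin k (Set.range P₀) →+* E => eval₂ g (x : E) q)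
    ext a
    obtain ⟨r, rfl⟩ := ι.surjective a
    show MvPolynomial.aeval P (ι.symm (ι r)) = algebraMap L E (algebraMap _ L (ι r))
    rw [hι, RingEquiv.symm_apply_apply, hPP, ← MvPolynomial.aeval_algebraMap_apply]
    rfl
  have hG0 : ∀ i, G.eval (P i) ≠ 0 := by
    intro i hi
    have : i ∈ Finset.univ.filter (fun i => G₀.eval (P₀ i) ≠ 0) := by rw [h6]; exact Finset.mem_univ _
    rw [Finset.mem_filter] at this
    apply this.2
    have h11 : (algebraMap L E) (G₀.eval (P₀ i)) = 0 := by
      rw [← eval_map_apply, hG₀]; exact hi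
    exact (map_eq_zero _).1 h11
  refine ⟨hG0, ?_, ?_, ?_⟩
  · intro i j hij
    apply h7 (by rw [h6]; simp) (by rw [h6]; simp)
    show F₀.eval (P₀ i) / G₀.eval (P₀ i) = F₀.eval (P₀ j) / G₀.eval (P₀ j)
    apply (algebraMap L E).injective
    rw [map_div₀, map_div₀, ← eval_map_apply, ← eval_map_apply, ← eval_map_apply, ← eval_map_apply,
      hF₀, hG₀]
    exact hij
  · intro j
    rw [← hF₀, coeff_map]
    exact halg _
  · intro j
    rw [← hG₀, coeff_map]
    exact halg _

end K807.Gen
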