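import Groth.Agent.W4c1limliniiii.K807.Count
import Mathlib.RingTheory.AlgebraicIndependent.AlgebraicClosure

/-!
# Degenerating two of the generic points: the valuation ring
-/

set_option autoImplicit false
set_option linter.style.haveILetI false
set_option linter.unusedSectionVars false
universe u

open Polynomial

namespace K807.GenVal

open K807.Family

variable {k K : Type u} [Field k] [Field K] [Algebra k K] {n : ℕ}

/-- a valuation ring in which the last two of `n + 2` generic points come together, the others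
staying generic -/
theorem exists_O {P : Fin (n + 2) → K} (hP : AlgebraicIndependent k P) :
    ∃ (O : ValuationSubring K) (_ : Algebra k (IsLocalRing.ResidueField O)) (R : Fin (n + 1) → O)
      (t : O), (∀ i, io O (R i) = P i.castSucc) ∧
      io O t = P (Fin.last (n + 1)) - P (Fin.castSucc (Fin.last n)) ∧ t ≠ 0 ∧ re O t = 0 ∧
      AlgebraicIndependent k (fun i => re O (R i)) := by
  set s : Set (Fin (n + 2)) := {Fin.last (n + 1)}ᶜ with hs
  set F₀ := IntermediateField.adjoin k (P '' s) with hF₀
  have hmem : ∀ i : Fin (n + 1), P i.castSucc ∈ F₀ := by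
    intro i
    apply IntermediateField.subset_adjoin
    refine ⟨i.castSucc, ?_, rfl⟩
    rw [hs, Set.mem_compl_iff, Set.mem_singleton_iff]
    exact (Fin.castSucc_lt_last i).ne
  have htr : Transcendental F₀ (P (Fin.last (n + 1))) := by
    rw [hF₀, IntermediateField.transcendental_adjoin_iff]
    exact hP.transcendental_adjoin (s := s) (by rw [hs]; simp)
  set y := P (Fin.castSucc (Fin.last n)) with hy
  set τ := P (Fin.last (n + 1)) - y with hτ
  have htr' : Transcendental F₀ τ := by
    intro h
    apply htr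
    have h1 : P (Fin.last (n + 1)) = τ + y := by rw [hτ]; ring
    rw [h1]
    exact h.add (isAlgebraic_algebraMap (⟨y, hmem _⟩ : F₀))
  set A : Subring K := (Algebra.adjoin F₀ {τ}).toSubring with hA
  have hτA : τ ∈ A := Algebra.subset_adjoin (Set.mem_singleton τ)
  set I : Ideal A := Ideal.span {⟨τ, hτA⟩} with hI
  have hItop : I ≠ ⊤ := by
    intro h
    have h1 : (1 : A) ∈ I := by rw [h]; trivial
    rw [hI, Ideal.mem_span_singleton'] at h1
    obtain ⟨⟨a, ha⟩, hax⟩ := h1
    have h2 : a * τ = 1 := congrArg Subtype.val hax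
    have h3 : a ∈ Algebra.adjoin F₀ {τ} := ha
    rw [Algebra.adjoin_singleton_eq_range_aeval] at h3
    obtain ⟨q, hq⟩ := h3
    have hq' : aeval τ q = a := hq
    have h4 : aeval τ (q * X - 1) = 0 := by
      rw [map_sub, map_mul, aeval_X, hq', h2, map_one, sub_self]
    have h5 : q * X - 1 = 0 := by
      by_contra hne
      exact htr' ⟨_, hne, h4⟩
    have h6 := congrArg (eval 0) h5
    rw [eval_sub, eval_mul, eval_X, mul_zero, eval_one, eval_zero, zero_sub, neg_eq_zero] at h6
    exact one_ne_zero h6
  obtain ⟨O, hO1, hO2⟩ := Ideal.image_subset_nonunits_valuationSubring I hItop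
  have hτO : τ ∈ O.nonunits := hO2 ⟨⟨τ, hτA⟩, Ideal.subset_span rfl, rfl⟩
  rw [ValuationSubring.mem_nonunits_iff_exists_mem_maximalIdeal] at hτO
  obtain ⟨hτO', hτm⟩ := hτO
  have hFO : ∀ x : F₀, (x : K) ∈ O := by
    intro x
    apply hO1
    exact (Algebra.adjoin F₀ {τ}).algebraMap_mem x
  let j : F₀ →+* O := (algebraMap F₀ K).codRestrict O.toSubring hFO
  letI : Algebra k (IsLocalRing.ResidueField O) :=
    (((re O).comp j).comp (algebraMap k F₀)).toAlgebra
  let φ : F₀ →ₐ[k] IsLocalRing.ResidueField O :=
    { (re O).comp j with commutes' := fun r => rfl }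
  let P₀ : Fin (n + 1) → F₀ := fun i => ⟨P i.castSucc, hmem i⟩
  have hP₀ : AlgebraicIndependent k P₀ := by
    have h1 : AlgebraicIndependent k (F₀.val ∘ P₀) :=
      hP.comp (fun i : Fin (n + 1) => i.castSucc) (Fin.castSucc_injective _)
    exact h1.of_comp F₀.val
  have hφ : Function.Injective φ := RingHom.injective ((re O).comp j)
  have hind : AlgebraicIndependent k (φ ∘ P₀) := hP₀.map' hφ
  have hfun : (φ ∘ P₀) = (fun i => re O (j (P₀ i))) := by
    funext i
    rfl
  rw [hfun] at hind
  refine ⟨O, inferInstance, fun i => j (P₀ i), ⟨τ, hτO'⟩, fun i => rfl, rfl, ?_, ?_, hind⟩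
  · intro h0
    have h1 : τ = 0 := congrArg Subtype.val h0
    apply htr'
    rw [h1]
    exact isAlgebraic_zero
  · rw [re, IsLocalRing.residue_eq_zero_iff]
    exact hτm

end K807.GenVal
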