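import Groth.Agent.Hensel.LocalEtale
import Mathlib.RingTheory.Smooth.StandardSmoothCotangent
import Mathlib.RingTheory.Valuation.LocalSubring
import Mathlib.Algebra.DualNumber
import Mathlib.FieldTheory.IsAlgClosed.Basic
import Mathlib.LinearAlgebra.Matrix.ToLinearEquiv

/-!
# Hensel's lemma for square systems of polynomial equations
-/

set_option autoImplicit false
set_option linter.style.haveILetI false
set_option linter.unusedSectionVars false
universe u

open MvPolynomial IsLocalRing

namespace K807.HenselN

section Dual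

variable {R : Type*} [CommRing R] {K : Type*} [CommRing K] {σ : Type*} [Fintype σ]

/-- the structure map to dual numbers -/
noncomputable def dl (θ : R →+* K) : R →+* DualNumber K :=
  (TrivSqZeroExt.inlHom K K : K →+* DualNumber K).comp θ

/-- Taylor expansion over dual numbers -/
theorem eval₂_dual (θ : R →+* K) (z v : σ → K) (p : MvPolynomial σ R) :
    eval₂ (dl θ) (fun i => (TrivSqZeroExt.inl (z i) + TrivSqZeroExt.inr (v i) : DualNumber K)) p =
      TrivSqZeroExt.inl (eval₂ θ z p) +
        TrivSqZeroExt.inr (∑ j, eval₂ θ z (pderiv j p) * v j) := by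
  classical
  induction p using MvPolynomial.induction_on with
  | C a =>
    simp [dl]
  | add p q hp hq =>
    rw [eval₂_add, hp, hq, eval₂_add]
    simp only [map_add, eval₂_add, add_mul, Finset.sum_add_distrib, TrivSqZeroExt.inl_add,
      TrivSqZeroExt.inr_add]
    ring
  | mul_X p i hp =>
    rw [eval₂_mul, hp, eval₂_X, eval₂_mul, eval₂_X]
    have h1 : ∀ j, eval₂ θ z (pderiv j (p * X i)) * v j =
        z i * (eval₂ θ z (pderiv j p) * v j) + eval₂ θ z p * (if i = j then v j else 0) := by
      intro j
      rw [pderiv_mul, eval₂_add, eval₂_mul, eval₂_mul, eval₂_X]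
      by_cases h : i = j
      · subst h
        rw [pderiv_X_self, eval₂_one, if_pos rfl]; ring
      · rw [pderiv_X_of_ne h, eval₂_zero, if_neg h]; ring
    simp only [h1, Finset.sum_add_distrib, ← Finset.mul_sum, Finset.sum_ite_eq, Finset.mem_univ,
      if_true]
    ext
    · simp
    · simp
      ring

/-- non-degeneracy: no infinitesimal deformation of the solution -/
def Nondeg {ι : Type*} (θ : R →+* K) (f : ι → MvPolynomial σ R) (z : σ → K) : Prop :=
  ∀ v : σ → K, (∀ i, eval₂ (dl θ)
    (fun i => (TrivSqZeroExt.inl (z i) + TrivSqZeroExt.inr (v i) : DualNumber K)) (f i) = 0) → v = 0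

theorem dual_zero_iff (θ : R →+* K) {z : σ → K} {p : MvPolynomial σ R} (h : eval₂ θ z p = 0)
    (v : σ → K) :
    eval₂ (dl θ) (fun i => (TrivSqZeroExt.inl (z i) + TrivSqZeroExt.inr (v i) : DualNumber K)) p = 0
      ↔ ∑ j, eval₂ θ z (pderiv j p) * v j = 0 := by
  rw [eval₂_dual, h, TrivSqZeroExt.inl_zero, zero_add]
  constructor
  · intro h1
    have := congrArg TrivSqZeroExt.snd h1
    simpa using this
  · intro h1
    rw [h1, TrivSqZeroExt.inr_zero]

/-- the Jacobian matrix at a point -/
noncomputable def jac (θ : R →+* K) (f : σ → MvPolynomial σ R) (z : σ → K) : Matrix σ σ K :=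
  Matrix.of fun i j => eval₂ θ z (pderiv j (f i))

theorem nondeg_iff_det [IsDomain K] [DecidableEq σ] (θ : R →+* K) {f : σ → MvPolynomial σ R}
    {z : σ → K} (h : ∀ i, eval₂ θ z (f i) = 0) : Nondeg θ f z ↔ (jac θ f z).det ≠ 0 := by
  rw [Ne, ← Matrix.exists_mulVec_eq_zero_iff, Nondeg]
  push Not
  constructor
  · intro h1 v hv hv'
    apply hv
    apply h1
    intro i
    rw [dual_zero_iff θ (h i)]
    exact congrFun hv' i
  · intro h1 v hv
    by_contra hne
    apply h1 v hne
    funext i
    exact (dual_zero_iff θ (h i) v).1 (hv i)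

end Dual

section Hensel

variable {R : Type u} [CommRing R] {σ : Type} [Fintype σ] [DecidableEq σ]

/-- the coordinate classes -/
noncomputable def cl (f : σ → MvPolynomial σ R) (p : MvPolynomial σ R) :
    MvPolynomial σ R ⧸ Ideal.span (Set.range f) := Ideal.Quotient.mk _ p

/-- the pre-submersive presentation of the solution scheme -/
noncomputable def pres (f : σ → MvPolynomial σ R) :
    Algebra.PreSubmersivePresentation R (MvPolynomial σ R ⧸ Ideal.span (Set.range f)) σ σ :=
  Algebra.PreSubmersivePresentation.naive id Function.injective_id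

/-- the étale locus -/
abbrev Et (f : σ → MvPolynomial σ R) := Localization.Away (pres f).jacobian

theorem etale (f : σ → MvPolynomial σ R) : Algebra.Etale R (Et f) := by
  let Δ := (pres f).jacobian
  have hΔ : IsUnit (algebraMap _ (Localization.Away Δ) Δ) :=
    IsLocalization.Away.algebraMap_isUnit _
  let P : Algebra.SubmersivePresentation R (Localization.Away Δ) _ _ :=
    { toPreSubmersivePresentation :=
        .comp (.localizationAway (Localization.Away Δ) Δ) (pres f),
      jacobian_isUnit := by
        rw [Algebra.PreSubmersivePresentation.comp_jacobian_eq_jacobian_smul_jacobian,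
          Algebra.PreSubmersivePresentation.localizationAway_jacobian, Algebra.smul_def]
        exact hΔ.mul hΔ }
  have : Algebra.IsStandardSmoothOfRelativeDimension 0 R (Localization.Away Δ) :=
    ⟨_, _, _, inferInstance, P, by
      simp only [Algebra.PreSubmersivePresentation.dimension_comp_eq_dimension_add_dimension, P]
      simp [Algebra.Presentation.dimension]⟩
  infer_instance

/-- the map attached to a solution -/
noncomputable def homOf {T : Type u} [CommRing T] [Algebra R T] (f : σ → MvPolynomial σ R)
    (s : σ → T) (hs : ∀ i, aeval s (f i) = 0) :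
    (MvPolynomial σ R ⧸ Ideal.span (Set.range f)) →ₐ[R] T :=
  Ideal.Quotient.liftₐ _ (aeval s) (by
    intro a ha
    have : Ideal.span (Set.range f) ≤ RingHom.ker (aeval (R := R) s) := by
      rw [Ideal.span_le]
      rintro _ ⟨i, rfl⟩
      exact hs i
    exact this ha)

theorem homOf_jacobian {T : Type u} [CommRing T] [Algebra R T] (f : σ → MvPolynomial σ R)
    (s : σ → T) (hs : ∀ i, aeval s (f i) = 0) :
    homOf f s hs (pres f).jacobian = (jac (algebraMap R T) f s).det := by
  rw [Algebra.PreSubmersivePresentation.jacobian_eq_jacobiMatrix_det]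
  have h1 : ∀ q : (pres f).Ring, homOf f s hs (algebraMap (pres f).Ring _ q) = aeval s q := by
    intro q
    rfl
  rw [h1]
  have h2 : aeval s (pres f).jacobiMatrix.det =
      ((pres f).jacobiMatrix.map (aeval (R := R) s)).det := by
    have := RingHom.map_det (aeval (R := R) s : MvPolynomial σ R →ₐ[R] T).toRingHom
      (pres f).jacobiMatrix
    exact this
  rw [h2, ← Matrix.det_transpose]
  congr 1
  ext i j
  simp only [Matrix.transpose_apply, Matrix.map_apply, jac, Matrix.of_apply]
  rw [show (pres f).jacobiMatrix j i = (f i).pderiv (id j) from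
    Algebra.PreSubmersivePresentation.jacobiMatrix_naive _ _ _ _ _ _]
  rfl

theorem homOf_X {T : Type u} [CommRing T] [Algebra R T] (f : σ → MvPolynomial σ R)
    (s : σ → T) (hs : ∀ i, aeval s (f i) = 0) (i : σ) :
    homOf f s hs (cl f (X i)) = s i := by
  change aeval s (X i) = s i
  simp

/-- the map attached to a non-degenerate solution -/
noncomputable def etHom {T : Type u} [CommRing T] [Algebra R T] (f : σ → MvPolynomial σ R)
    (s : σ → T) (hs : ∀ i, aeval s (f i) = 0) (hd : IsUnit (jac (algebraMap R T) f s).det) :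
    Et f →ₐ[R] T :=
  IsLocalization.Away.liftAlgHom (f := homOf f s hs) (pres f).jacobian (by
    rw [homOf_jacobian]; exact hd)

theorem etHom_mk {T : Type u} [CommRing T] [Algebra R T] (f : σ → MvPolynomial σ R)
    (s : σ → T) (hs : ∀ i, aeval s (f i) = 0) (hd : IsUnit (jac (algebraMap R T) f s).det)
    (a : MvPolynomial σ R ⧸ Ideal.span (Set.range f)) :
    etHom f s hs hd (algebraMap _ (Et f) a) = homOf f s hs a := by
  have := IsLocalization.lift_eq (M := Submonoid.powers (pres f).jacobian) (S := Et f)
    (g := (homOf f s hs).toRingHom) (by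
      rintro ⟨_, n, rfl⟩
      rw [map_pow]
      refine IsUnit.pow n ?_
      have := homOf_jacobian f s hs
      rw [← this] at hd
      exact hd) a
  exact this

theorem et_ext {T : Type u} [CommRing T] [Algebra R T] (f : σ → MvPolynomial σ R)
    (g g' : Et f →ₐ[R] T)
    (h : ∀ i, g (algebraMap _ (Et f) (cl f (X i))) =
      g' (algebraMap _ (Et f) (cl f (X i)))) : g = g' := by
  apply IsLocalization.algHom_ext (Submonoid.powers (pres f).jacobian)
  apply Ideal.Quotient.algHom_ext
  apply MvPolynomial.algHom_ext
  intro i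
  exact h i

variable [HenselianLocalRing R]

theorem exists_lift_sq (f : σ → MvPolynomial σ R) (z₀ : σ → ResidueField R)
    (h0 : ∀ i, aeval z₀ (f i) = 0)
    (hd : (jac (algebraMap R (ResidueField R)) f z₀).det ≠ 0) :
    ∃ z : σ → R, (∀ i, residue R (z i) = z₀ i) ∧ ∀ i, aeval z (f i) = 0 := by
  have := etale f
  obtain ⟨g, hg⟩ := Groth.Agent.Hensel.LocalEtale.exists_algHom_of_residueField
    (etHom f z₀ h0 (isUnit_iff_ne_zero.2 hd))
  refine ⟨fun i => g (algebraMap _ (Et f) (cl f (X i))), ?_, ?_⟩
  · intro i
    rw [hg, etHom_mk, homOf_X]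
  · intro i
    have h1 : aeval (fun i => g (algebraMap _ (Et f) (cl f (X i)))) =
        (g.comp (IsScalarTower.toAlgHom R _ (Et f))).comp
          (Ideal.Quotient.mkₐ R (Ideal.span (Set.range f))) := by
      apply MvPolynomial.algHom_ext
      intro j
      rw [aeval_X]
      rfl
    rw [h1]
    change g (algebraMap _ (Et f) (cl f (f i))) = 0
    have h2 : f i ∈ Ideal.span (Set.range f) := Ideal.subset_span ⟨i, rfl⟩
    rw [cl, Ideal.Quotient.eq_zero_iff_mem.mpr h2, map_zero, map_zero]

theorem jac_map {T K : Type*} [CommRing T] [CommRing K] (θ : R →+* T) (φ : T →+* K)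
    (f : σ → MvPolynomial σ R) (z : σ → T) :
    φ (jac θ f z).det = (jac (φ.comp θ) f (fun i => φ (z i))).det := by
  rw [RingHom.map_det]
  congr 1
  ext i j
  simp only [jac, RingHom.mapMatrix_apply, Matrix.map_apply, Matrix.of_apply]
  rw [← MvPolynomial.coe_eval₂Hom, ← RingHom.comp_apply]
  have : φ.comp (eval₂Hom θ z) = eval₂Hom (φ.comp θ) (fun i => φ (z i)) := by
    apply MvPolynomial.ringHom_ext
    · intro r; simp
    · intro i; simp
  rw [this, MvPolynomial.coe_eval₂Hom]

theorem unique_sq (f : σ → MvPolynomial σ R) {z z' : σ → R} (hz : ∀ i, aeval z (f i) = 0)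
    (hz' : ∀ i, aeval z' (f i) = 0) (hr : ∀ i, residue R (z i) = residue R (z' i))
    (hd : IsUnit (jac (algebraMap R R) f z).det) : z = z' := by
  have := etale f
  have hd' : IsUnit (jac (algebraMap R R) f z').det := by
    have h1 := jac_map (algebraMap R R) (residue R) f z
    have h2 := jac_map (algebraMap R R) (residue R) f z'
    have h3 : (fun i => residue R (z i)) = (fun i => residue R (z' i)) := funext hr
    rw [h3, ← h2] at h1
    by_contra hcon
    have h4 : residue R (jac (algebraMap R R) f z').det = 0 := by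
      rw [residue_eq_zero_iff]; exact hcon
    rw [h4, residue_eq_zero_iff] at h1
    exact h1 hd
  have h1 : etHom f z hz hd = etHom f z' hz' hd' := by
    apply Groth.Agent.Hensel.LocalEtale.algHom_eq_of_residue_eq
    intro a
    have h2 : (IsScalarTower.toAlgHom R R (ResidueField R)).comp (etHom f z hz hd) =
        (IsScalarTower.toAlgHom R R (ResidueField R)).comp (etHom f z' hz' hd') := by
      apply et_ext
      intro i
      change residue R (etHom f z hz hd _) = residue R (etHom f z' hz' hd' _)
      rw [etHom_mk, etHom_mk, homOf_X, homOf_X, hr]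
    exact congrArg (fun g : Et f →ₐ[R] ResidueField R => g a) h2
  funext i
  have h2 := congrArg (fun g : Et f →ₐ[R] R =>
    g (algebraMap _ (Et f) (cl f (X i)))) h1
  simp only [etHom_mk, homOf_X] at h2
  exact h2

end Hensel

section Main

variable {R : Type u} [CommRing R] [HenselianLocalRing R] {σ ι : Type} [Fintype σ] [Fintype ι]

theorem nondeg_reindex {K : Type*} [CommRing K] (θ : R →+* K) (f : ι → MvPolynomial σ R)
    (e : σ ≃ ι) (z : σ → K) : Nondeg θ (fun i => f (e i)) z ↔ Nondeg θ f z := by
  unfold Nondeg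
  refine forall_congr' fun v => ?_
  constructor
  · intro h1 h2
    exact h1 fun i => h2 (e i)
  · intro h1 h2
    exact h1 fun i => by simpa using h2 (e.symm i)

/-- **Hensel's lemma, existence.** -/
theorem exists_lift (f : ι → MvPolynomial σ R) (hcard : Fintype.card σ = Fintype.card ι)
    (z₀ : σ → ResidueField R) (h0 : ∀ i, eval₂ (residue R) z₀ (f i) = 0)
    (hnd : Nondeg (residue R) f z₀) :
    ∃ z : σ → R, (∀ i, residue R (z i) = z₀ i) ∧ ∀ i, eval₂ (RingHom.id R) z (f i) = 0 := by
  classical
  let e : σ ≃ ι := Fintype.equivOfCardEq hcard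
  have h1 := (nondeg_reindex (residue R) f e z₀).2 hnd
  rw [nondeg_iff_det (residue R) (fun i => h0 (e i))] at h1
  obtain ⟨z, hz, hz'⟩ := exists_lift_sq (fun i => f (e i)) z₀ (fun i => h0 (e i)) h1
  refine ⟨z, hz, fun i => ?_⟩
  have := hz' (e.symm i)
  rw [Equiv.apply_symm_apply] at this
  exact this

theorem isUnit_det (f : ι → MvPolynomial σ R) (e : σ ≃ ι) [DecidableEq σ] {z : σ → R}
    (hz : ∀ i, eval₂ (RingHom.id R) z (f i) = 0)
    (hnd : Nondeg (residue R) f fun i => residue R (z i)) :
    IsUnit (jac (RingHom.id R) (fun i => f (e i)) z).det := by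
  have h0 : ∀ i, eval₂ (residue R) (fun i => residue R (z i)) (f i) = 0 := by
    intro i
    have h1 : (residue R).comp (eval₂Hom (RingHom.id R) z) =
        eval₂Hom (residue R) (fun i => residue R (z i)) := by
      apply MvPolynomial.ringHom_ext
      · intro r; simp
      · intro i; simp
    rw [← MvPolynomial.coe_eval₂Hom, ← h1, RingHom.comp_apply, MvPolynomial.coe_eval₂Hom, hz,
      map_zero]
  have h1 := (nondeg_reindex (residue R) f e _).2 hnd
  rw [nondeg_iff_det (residue R) (fun i => h0 (e i))] at h1
  have h2 := jac_map (RingHom.id R) (residue R) (fun i => f (e i)) z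
  rw [RingHom.comp_id] at h2
  rw [← h2] at h1
  by_contra hcon
  exact h1 (by rw [residue_eq_zero_iff]; exact hcon)

/-- **Hensel's lemma, uniqueness.** -/
theorem unique_lift (f : ι → MvPolynomial σ R) (hcard : Fintype.card σ = Fintype.card ι)
    {z z' : σ → R} (hz : ∀ i, eval₂ (RingHom.id R) z (f i) = 0)
    (hz' : ∀ i, eval₂ (RingHom.id R) z' (f i) = 0) (hr : ∀ i, residue R (z i) = residue R (z' i))
    (hnd : Nondeg (residue R) f fun i => residue R (z i)) : z = z' := by
  classical
  let e : σ ≃ ι := Fintype.equivOfCardEq hcard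
  exact unique_sq (fun i => f (e i)) (fun i => hz (e i)) (fun i => hz' (e i)) hr
    (isUnit_det f e hz hnd)

/-- **Non-degeneracy generizes.** -/
theorem nondeg_generize (f : ι → MvPolynomial σ R) (hcard : Fintype.card σ = Fintype.card ι)
    {z : σ → R} (hz : ∀ i, eval₂ (RingHom.id R) z (f i) = 0)
    (hnd : Nondeg (residue R) f fun i => residue R (z i))
    {K : Type*} [Field K] (φ : R →+* K) : Nondeg φ f fun i => φ (z i) := by
  classical
  let e : σ ≃ ι := Fintype.equivOfCardEq hcard
  have h1 := (isUnit_det f e hz hnd).map φ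
  have h2 := jac_map (RingHom.id R) φ (fun i => f (e i)) z
  rw [RingHom.comp_id] at h2
  rw [h2] at h1
  have h0 : ∀ i, eval₂ φ (fun i => φ (z i)) (f i) = 0 := by
    intro i
    have h1 : φ.comp (eval₂Hom (RingHom.id R) z) = eval₂Hom φ (fun i => φ (z i)) := by
      apply MvPolynomial.ringHom_ext
      · intro r; simp
      · intro i; simp
    rw [← MvPolynomial.coe_eval₂Hom, ← h1, RingHom.comp_apply, MvPolynomial.coe_eval₂Hom, hz,
      map_zero]
  rw [← nondeg_reindex φ f e, nondeg_iff_det φ (fun i => h0 (e i))]
  exact h1.ne_zero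

end Main

section Valuation

variable {L : Type u} [Field L] [IsAlgClosed L] (O : ValuationSubring L)

theorem exists_roots (f : Polynomial O) (hf : f.Monic) :
    ∃ s : Multiset O, f = (s.map fun a => Polynomial.X - Polynomial.C a).prod := by
  have hinj : Function.Injective (algebraMap O L) := Subtype.coe_injective
  have h1 := IsAlgClosed.splits (f.map (algebraMap O L))
  have h2 : ∀ a ∈ (f.map (algebraMap O L)).roots, a ∈ O := by
    intro a ha
    have h3 := Polynomial.isRoot_of_mem_roots ha
    have h4 : IsIntegral O a := ⟨f, hf, by rw [← Polynomial.eval_map]; exact h3⟩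
    obtain ⟨y, hy⟩ := IsIntegrallyClosed.isIntegral_iff.1 h4
    rw [← hy]; exact y.2
  refine ⟨(f.map (algebraMap O L)).roots.pmap (fun a ha => (⟨a, ha⟩ : O)) h2, ?_⟩
  apply Polynomial.map_injective _ hinj
  rw [Polynomial.map_multiset_prod, Multiset.map_map]
  have h5 := h1.eq_prod_roots_of_monic (hf.map _)
  conv_lhs => rw [h5]
  congr 1
  rw [Multiset.map_pmap]
  simp only [Function.comp_def, Polynomial.map_sub, Polynomial.map_X, Polynomial.map_C]
  rw [← Multiset.pmap_eq_map (fun a => a ∈ O) (fun a => Polynomial.X - Polynomial.C a) _ h2]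
  rfl

theorem henselian : HenselianLocalRing O where
  is_henselian := by
    intro f hf a₀ h0 _
    obtain ⟨s, hs⟩ := exists_roots O f hf
    rw [hs, Polynomial.eval_multiset_prod, Multiset.map_map] at h0
    obtain ⟨c, hc, hb'⟩ := (Ideal.IsPrime.multiset_prod_mem_iff_exists_mem
      (inferInstance : (maximalIdeal O).IsPrime) _).1 h0
    obtain ⟨b, hb, rfl⟩ := Multiset.mem_map.1 hc
    refine ⟨b, ?_, ?_⟩
    · rw [Polynomial.IsRoot.def, hs, Polynomial.eval_multiset_prod, Multiset.map_map]
      apply Multiset.prod_eq_zero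
      rw [Multiset.mem_map]
      exact ⟨b, hb, by simp⟩
    · simp only [Function.comp_apply, Polynomial.eval_sub, Polynomial.eval_X,
        Polynomial.eval_C] at hb'
      rw [← neg_sub]
      exact (maximalIdeal O).neg_mem hb'

theorem residue_isAlgClosed : IsAlgClosed (ResidueField O) := by
  apply IsAlgClosed.of_exists_root
  intro p hp hirr
  obtain ⟨Q, hQ, hQd, hQm⟩ := Polynomial.lifts_and_natDegree_eq_and_monic
    (f := residue O) (p := p) (by
      rw [Polynomial.lifts_iff_coeff_lifts]
      intro n
      exact residue_surjective _) hp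
  obtain ⟨s, hs⟩ := exists_roots O Q hQm
  have hd : 0 < Q.natDegree := by rw [hQd]; exact hirr.natDegree_pos
  have hs0 : s ≠ 0 := by
    rintro rfl
    rw [hs] at hd
    simp at hd
  obtain ⟨b, hb⟩ := Multiset.exists_mem_of_ne_zero hs0
  refine ⟨residue O b, ?_⟩
  rw [← hQ, Polynomial.eval_map_apply]
  have : Q.eval b = 0 := by
    rw [hs, Polynomial.eval_multiset_prod, Multiset.map_map]
    apply Multiset.prod_eq_zero
    rw [Multiset.mem_map]
    exact ⟨b, hb, by simp⟩
  rw [this, map_zero]

end Valuation

end K807.HenselN
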