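import Groth.Agent.Fga.Plucker489
import Groth.Agent.Fga.ClosedSubRep489
import Groth.Agent.Fga.RingFunSub
import Groth.Agent.Ega3B.ProjProper

/-!
# The linked Grassmannian as a closed subfunctor of a product of Grassmannians
-/

set_option autoImplicit false
set_option linter.style.haveILetI false
universe u

open CategoryTheory CategoryTheory.Limits AlgebraicGeometry

namespace K807.LGFun

open Groth.Agent.Fga.RingFunBasic Groth.Agent.Fga.RingFunRep Groth.Agent.Fga.Grass
  Groth.Agent.Fga.GrassBasic Groth.Agent.Fga.RingFunSub Groth.Agent.Fga.ClosedSubRep489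

/-! ### Products of representable ring functors -/

/-- product of ring functors -/
def prodFun (F G : CommRingCat.{u} ⥤ Type u) : CommRingCat.{u} ⥤ Type u where
  obj B := F.obj B × G.obj B
  map φ := ↾ fun x => (F.map φ x.1, G.map φ x.2)
  map_id B := by ext x <;> simp
  map_comp φ ψ := by ext x <;> simp

/-- powers of ring functors -/
def powFun (F : CommRingCat.{u} ⥤ Type u) (n : ℕ) : CommRingCat.{u} ⥤ Type u where
  obj B := Fin n → F.obj B
  map φ := ↾ fun x i => F.map φ (x i)
  map_id B := by ext x i; simp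
  map_comp φ ψ := by ext x i; simp

/-- the product of two representations -/
noncomputable def repProd {F G : CommRingCat.{u} ⥤ Type u} {P Q : Scheme.{u}} (r : Rep F P)
    (s : Rep G Q) : Rep (prodFun F G)
      (pullback (specULiftZIsTerminal.from P) (specULiftZIsTerminal.from Q)) where
  e B :=
    { toFun := fun t => (r.e B (t ≫ pullback.fst _ _), s.e B (t ≫ pullback.snd _ _))
      invFun := fun x => pullback.lift ((r.e B).symm x.1) ((s.e B).symm x.2)
        (specULiftZIsTerminal.hom_ext _ _)
      left_inv := by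
        intro t
        apply pullback.hom_ext
        · exact (pullback.lift_fst _ _ _).trans ((r.e B).symm_apply_apply _)
        · exact (pullback.lift_snd _ _ _).trans ((s.e B).symm_apply_apply _)
      right_inv := by
        intro x
        apply Prod.ext
        · change r.e B (pullback.lift _ _ _ ≫ pullback.fst _ _) = _
          rw [pullback.lift_fst]
          exact Equiv.apply_symm_apply _ _
        · change s.e B (pullback.lift _ _ _ ≫ pullback.snd _ _) = _
          rw [pullback.lift_snd]
          exact Equiv.apply_symm_apply _ _ }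
  nat φ t := by
    apply Prod.ext
    · change r.e _ ((Spec.map φ ≫ t) ≫ pullback.fst _ _) = _
      rw [Category.assoc, r.nat]; rfl
    · change s.e _ ((Spec.map φ ≫ t) ≫ pullback.snd _ _) = _
      rw [Category.assoc, s.nat]; rfl

theorem isProper_prod {P Q : Scheme.{u}} (hP : IsProper (specULiftZIsTerminal.from P))
    (hQ : IsProper (specULiftZIsTerminal.from Q)) : IsProper (specULiftZIsTerminal.from
      (pullback (specULiftZIsTerminal.from P) (specULiftZIsTerminal.from Q))) := by
  have : specULiftZIsTerminal.from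
      (pullback (specULiftZIsTerminal.from P) (specULiftZIsTerminal.from Q)) =
      pullback.snd _ _ ≫ specULiftZIsTerminal.from Q := specULiftZIsTerminal.hom_ext _ _
  rw [this]
  infer_instance

theorem exists_pow {F : CommRingCat.{u} ⥤ Type u} {P : Scheme.{u}} (r : Rep F P)
    (hP : IsProper (specULiftZIsTerminal.from P)) (n : ℕ) :
    ∃ (Y : Scheme.{u}) (_ : Rep (powFun F n) Y), IsProper (specULiftZIsTerminal.from Y) := by
  induction n with
  | zero =>
    refine ⟨Spec (CommRingCat.of (ULift.{u} ℤ)),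
      { e := fun B =>
          { toFun := fun _ i => Fin.elim0 i
            invFun := fun _ => specULiftZIsTerminal.from _
            left_inv := fun _ => specULiftZIsTerminal.hom_ext _ _
            right_inv := fun _ => funext fun i => Fin.elim0 i }
        nat := fun _ _ => funext fun i => Fin.elim0 i }, ?_⟩
    rw [specULiftZIsTerminal.hom_ext (specULiftZIsTerminal.from _) (𝟙 _)]
    infer_instance
  | succ n ih =>
    obtain ⟨Y, s, hY⟩ := ih
    refine ⟨_, transfer (repProd r s) (fun B => Fin.consEquiv (fun _ => F.obj B)) ?_,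
      isProper_prod hP hY⟩
    intro B C φ x
    funext i
    refine Fin.cases ?_ (fun j => ?_) i
    · rfl
    · rfl

/-- the functor of points of `Spec R` -/
def homFun (R : CommRingCat.{u}) : CommRingCat.{u} ⥤ Type u where
  obj B := R ⟶ B
  map φ := ↾ fun x => x ≫ φ
  map_id B := by ext x; simp
  map_comp φ ψ := by ext x; simp

noncomputable def repHom (R : CommRingCat.{u}) : Rep (homFun R) (Spec R) where
  e B :=
    { toFun := fun t => Spec.preimage t
      invFun := fun φ => Spec.map φ
      left_inv := fun t => Spec.map_preimage t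
      right_inv := fun φ => Spec.preimage_map φ }
  nat φ t := by
    apply Spec.map_injective
    change Spec.map (Spec.preimage (Spec.map φ ≫ t)) = Spec.map (Spec.preimage t ≫ φ)
    rw [Spec.map_preimage, Spec.map_comp, Spec.map_preimage]

/-! ### The linking condition -/

section Link

variable {B C : Type*} [CommRing B] [CommRing C] {ι : Type*} [Fintype ι]

theorem mulVec_map (φ : B →+* C) (A : Matrix ι ι B) (v : ι → B) :
    (A.map φ).mulVec (fun i => φ (v i)) = fun i => φ (A.mulVec v i) := by
  ext i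
  simp [Matrix.mulVec, dotProduct]

/-- `A` carries `L` into `L'`. -/
def Carry (A : Matrix ι ι B) (L L' : Submodule B (ι → B)) : Prop :=
  ∀ v ∈ L, A.mulVec v ∈ L'

theorem Carry.bc {A : Matrix ι ι B} {L L' : Submodule B (ι → B)} (h : Carry A L L')
    (φ : B →+* C) : Carry (A.map φ) (bc φ L) (bc φ L') := by
  have : Groth.Agent.Fga.GrassBasic.bc φ L ≤ (Groth.Agent.Fga.GrassBasic.bc φ L').comap (A.map φ).mulVecLin := by
    rw [bc_le_iff]
    intro v hv
    rw [Submodule.mem_comap, Matrix.mulVecLin_apply, mulVec_map]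
    exact mem_bc_of_mem φ (h v hv)
  intro w hw
  exact this hw

theorem carry_bc_iff {A : Matrix ι ι B} {L L' : Submodule B (ι → B)} (φ : B →+* C) :
    Carry (A.map φ) (bc φ L) (bc φ L') ↔ ∀ v ∈ L, (fun i => φ (A.mulVec v i)) ∈ bc φ L' := by
  constructor
  · intro h v hv
    rw [← mulVec_map]
    exact h _ (mem_bc_of_mem φ hv)
  · intro h
    have : Groth.Agent.Fga.GrassBasic.bc φ L ≤ (Groth.Agent.Fga.GrassBasic.bc φ L').comap (A.map φ).mulVecLin := by
      rw [bc_le_iff]
      intro v hv
      rw [Submodule.mem_comap, Matrix.mulVecLin_apply, mulVec_map]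
      exact h v hv
    intro w hw
    exact this hw

end Link

/-- The linking condition is closed. -/
theorem exists_ideal {B : CommRingCat.{u}} {ι : Type} [Fintype ι] [DecidableEq ι] (A : Matrix ι ι B)
    (L L' : Submodule B (ι → B)) (hL' : Module.Projective B ((ι → B) ⧸ L')) :
    ∃ I : Ideal B, ∀ (C : CommRingCat.{u}) (φ : B ⟶ C),
      Carry (A.map φ.hom) (bc φ.hom L) (bc φ.hom L') ↔ I.map φ.hom = ⊥ := by
  obtain ⟨s, hs⟩ := Module.projective_lifting_property L'.mkQ LinearMap.id
    (Submodule.mkQ_surjective L')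
  let T : (ι → B) →ₗ[B] (ι → B) := s.comp L'.mkQ
  have hT : ∀ x, x - T x ∈ L' := by
    intro x
    rw [← Submodule.Quotient.mk_eq_zero, Submodule.Quotient.mk_sub, sub_eq_zero]
    have := LinearMap.congr_fun hs (Submodule.Quotient.mk x)
    exact this.symm
  have hT0 : ∀ x ∈ L', T x = 0 := by
    intro x hx
    change s (Submodule.Quotient.mk x) = 0
    rw [(Submodule.Quotient.mk_eq_zero L').2 hx, map_zero]
  refine ⟨Ideal.span {b | ∃ v ∈ L, ∃ j, b = T (A.mulVec v) j}, ?_⟩
  intro C φ
  rw [carry_bc_iff, eq_bot_iff, Ideal.map_le_iff_le_comap, Ideal.span_le]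
  constructor
  · rintro h _ ⟨v, hv, j, rfl⟩
    rw [SetLike.mem_coe, Ideal.mem_comap, Ideal.mem_bot]
    have h1 := h v hv
    have h2 : bc φ.hom L' ≤ LinearMap.ker ((LinearMap.toMatrix' T).map φ.hom).mulVecLin := by
      rw [bc_le_iff]
      intro w hw
      rw [LinearMap.mem_ker, Matrix.mulVecLin_apply, mulVec_map, LinearMap.toMatrix'_mulVec,
        hT0 w hw]
      ext i
      simp
    have h3 := h2 h1
    rw [LinearMap.mem_ker, Matrix.mulVecLin_apply, mulVec_map, LinearMap.toMatrix'_mulVec] at h3
    exact congrFun h3 j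
  · intro h v hv
    have h1 : (fun i => φ.hom (A.mulVec v i)) =
        fun i => φ.hom ((A.mulVec v - T (A.mulVec v)) i) := by
      ext i
      have h2 : φ.hom (T (A.mulVec v) i) = 0 := by
        have := h ⟨v, hv, i, rfl⟩
        rwa [SetLike.mem_coe, Ideal.mem_comap, Ideal.mem_bot] at this
      rw [Pi.sub_apply, map_sub, h2, sub_zero]
    rw [h1]
    exact mem_bc_of_mem φ.hom (hT _)

/-! ### The functor -/

section Main

variable (R : CommRingCat.{u}) (d c n : ℕ) (M N : Fin n → Matrix (Fin d) (Fin d) R)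

/-- the ambient functor -/
abbrev ambFun : CommRingCat.{u} ⥤ Type u :=
  prodFun (homFun R) (powFun (grFun.{u} (Fin d) c) (n + 1))

variable {R d c n} in
/-- first component -/
def fstOf {B : CommRingCat.{u}} (x : (ambFun R d c n).obj B) : R ⟶ B := x.1

variable {R d c n} in
/-- second component -/
def sndOf {B : CommRingCat.{u}} (x : (ambFun R d c n).obj B) (i : Fin (n + 1)) :
    Submodule B (Fin d → B) := (x.2 i).1

variable {R d c n} in
theorem sndOf_quot {B : CommRingCat.{u}} (x : (ambFun R d c n).obj B) (i : Fin (n + 1)) :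
    IsQuotRank c (sndOf x i) := (x.2 i).2

variable {R d c n} in
theorem fstOf_map {B C : CommRingCat.{u}} (φ : B ⟶ C) (x : (ambFun R d c n).obj B) :
    fstOf ((ambFun R d c n).map φ x) = fstOf x ≫ φ := rfl

variable {R d c n} in
theorem sndOf_map {B C : CommRingCat.{u}} (φ : B ⟶ C) (x : (ambFun R d c n).obj B)
    (i : Fin (n + 1)) : sndOf ((ambFun R d c n).map φ x) i = bc φ.hom (sndOf x i) := rfl

/-- the linking predicate -/
def LinkP (B : CommRingCat.{u}) (x : (ambFun R d c n).obj B) : Prop :=
  ∀ i : Fin n, Carry ((M i).map (fstOf x).hom) (sndOf x i.castSucc) (sndOf x i.succ) ∧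
    Carry ((N i).map (fstOf x).hom) (sndOf x i.succ) (sndOf x i.castSucc)

theorem map_comp_hom {B C : CommRingCat.{u}} (A : Matrix (Fin d) (Fin d) R) (x : R ⟶ B)
    (φ : B ⟶ C) : A.map (x ≫ φ).hom = (A.map x.hom).map φ.hom := by
  ext i j; rfl

theorem linkP_map {B C : CommRingCat.{u}} (φ : B ⟶ C) (x : (ambFun R d c n).obj B)
    (h : LinkP R d c n M N B x) : LinkP R d c n M N C ((ambFun R d c n).map φ x) := by
  intro i
  rw [fstOf_map, sndOf_map, sndOf_map, map_comp_hom, map_comp_hom]
  exact ⟨(h i).1.bc φ.hom, (h i).2.bc φ.hom⟩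

/-- the linked Grassmannian functor on rings -/
abbrev lgFun : CommRingCat.{u} ⥤ Type u :=
  Sub (ambFun R d c n) (LinkP R d c n M N) (linkP_map R d c n M N)

/-- the inclusion -/
def incl : lgFun R d c n M N ⟶ ambFun R d c n where
  app B := ↾ fun x => x.1
  naturality B C φ := by ext x; rfl

theorem incl_injective (B : CommRingCat.{u}) :
    Function.Injective ((incl R d c n M N).app B) := by
  intro x y h
  exact Subtype.ext h

theorem isClosedSub_incl : IsClosedSub (incl R d c n M N) := by
  intro B x
  have h1 : ∀ i : Fin n, ∃ I : Ideal B, ∀ (C : CommRingCat.{u}) (φ : B ⟶ C),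
      Carry (((M i).map (fstOf x).hom).map φ.hom) (bc φ.hom (sndOf x i.castSucc))
        (bc φ.hom (sndOf x i.succ)) ↔ I.map φ.hom = ⊥ := fun i =>
    exists_ideal _ _ _ (sndOf_quot x i.succ).proj
  have h2 : ∀ i : Fin n, ∃ I : Ideal B, ∀ (C : CommRingCat.{u}) (φ : B ⟶ C),
      Carry (((N i).map (fstOf x).hom).map φ.hom) (bc φ.hom (sndOf x i.succ))
        (bc φ.hom (sndOf x i.castSucc)) ↔ I.map φ.hom = ⊥ := fun i =>
    exists_ideal _ _ _ (sndOf_quot x i.castSucc).proj
  choose I hI using h1
  choose J hJ using h2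
  refine ⟨(⨆ i, I i) ⊔ (⨆ i, J i), ?_⟩
  intro C φ
  have key : LinkP R d c n M N C ((ambFun R d c n).map φ x) ↔
      (∀ i, (I i).map φ.hom = ⊥) ∧ ∀ i, (J i).map φ.hom = ⊥ := by
    rw [← forall_and]
    refine forall_congr' fun i => ?_
    rw [fstOf_map, sndOf_map, sndOf_map, map_comp_hom, map_comp_hom, hI i C φ, hJ i C φ]
  rw [Ideal.map_sup, Ideal.map_iSup, Ideal.map_iSup, sup_eq_bot_iff, iSup_eq_bot, iSup_eq_bot,
    ← key]
  constructor
  · rintro ⟨y, hy⟩
    have hy' : y.1 = (ambFun R d c n).map φ x := hy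
    have hP := y.2
    rw [hy'] at hP
    exact hP
  · intro h
    exact ⟨⟨(ambFun R d c n).map φ x, h⟩, rfl⟩

theorem isProper_grass {G : Scheme.{u}} (r : Rep (grFun.{u} (Fin d) c) G) :
    IsProper (specULiftZIsTerminal.from G) := by
  obtain ⟨N, i, hi⟩ := Groth.Agent.Fga.Plucker489.exists_plucker r
  have h2 : IsProper (CohB1.ProjSpace.toSpec N (ULift.{u} ℤ)) :=
    Groth.Agent.Ega3B.ProjProper.isProper_toSpec N _
  have : specULiftZIsTerminal.from G = i ≫ CohB1.ProjSpace.toSpec N (ULift.{u} ℤ) :=
    specULiftZIsTerminal.hom_ext _ _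
  rw [this]
  infer_instance

/-- **Representability of the linked Grassmannian functor on rings**, with the structure
morphism. -/
theorem exists_rep_lg : ∃ (X : Scheme.{u}) (r : Rep (lgFun R d c n M N) X) (π : X ⟶ Spec R),
    IsProper π ∧ ∀ (B : CommRingCat.{u}) (t : Spec B ⟶ X),
      t ≫ π = Spec.map (fstOf (r.e B t).1) := by
  obtain ⟨G, r, -, -⟩ := exists_grass.{u} (Fin d) c
  have hG := isProper_grass d c r
  obtain ⟨Y, s, hY⟩ := exists_pow r hG (n + 1)
  let amb := repProd (repHom R) s
  obtain ⟨X, rX, i, hi, hiX⟩ := exists_closed_subrep amb (incl_injective R d c n M N)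
    (isClosedSub_incl R d c n M N)
  refine ⟨X, rX, i ≫ pullback.fst _ _, inferInstance, ?_⟩
  intro B t
  have h1 := hiX B t
  have h2 : fstOf (amb.e B (t ≫ i)) = Spec.preimage ((t ≫ i) ≫ pullback.fst _ _) := rfl
  have h3 : fstOf ((incl R d c n M N).app B (rX.e B t)) = fstOf (rX.e B t).1 := rfl
  rw [← h3, ← h1, h2, Spec.map_preimage, Category.assoc]

end Main

end K807.LGFun
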