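import Groth.Agent.W4c1limliniiii.K807.Family

/-!
# Limits of pencils along a valuation ring: preliminaries
-/

set_option autoImplicit false
set_option linter.style.haveILetI false
set_option linter.unusedSectionVars false
universe u

open Polynomial

namespace K807.LimitA

open K807.Wr K807.Pencil K807.Bound K807.Normal K807.Rigid K807.Chart K807.Bubble K807.Special
open K807.Family W4c1limliniiii

section Val

variable {K : Type u} [Field K] {O : ValuationSubring K}

/-- scale a pair of elements so that both are integral and one of them is `1` -/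
theorem exists_scale {x y : K} (h : x ≠ 0 ∨ y ≠ 0) : ∃ (c : K) (x' y' : O), c ≠ 0 ∧
    io O x' = c * x ∧ io O y' = c * y ∧ (x' = 1 ∨ y' = 1) := by
  by_cases hx : x = 0
  · have hy : y ≠ 0 := h.resolve_left (fun h => h hx)
    refine ⟨y⁻¹, 0, 1, inv_ne_zero hy, ?_, ?_, Or.inr rfl⟩
    · rw [hx, map_zero, mul_zero]
    · rw [map_one, inv_mul_cancel₀ hy]
  by_cases hy : y = 0
  · refine ⟨x⁻¹, 1, 0, inv_ne_zero hx, ?_, ?_, Or.inl rfl⟩
    · rw [map_one, inv_mul_cancel₀ hx]
    · rw [hy, map_zero, mul_zero]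
  rcases O.mem_or_inv_mem (x / y) with h1 | h1
  · refine ⟨y⁻¹, ⟨x / y, h1⟩, 1, inv_ne_zero hy, ?_, ?_, Or.inr rfl⟩
    · show x / y = _
      rw [div_eq_mul_inv, mul_comm]
    · rw [map_one, inv_mul_cancel₀ hy]
  · refine ⟨x⁻¹, 1, ⟨(x / y)⁻¹, h1⟩, inv_ne_zero hx, ?_, ?_, Or.inl rfl⟩
    · rw [map_one, inv_mul_cancel₀ hx]
    · show (x / y)⁻¹ = _
      rw [inv_div, div_eq_mul_inv, mul_comm]

/-- integral form of a Schubert condition, for arbitrary monic divisor -/
theorem exists_int {f g q : O[X]} (hq : q.Monic) {s : K[X]}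
    (hs : s ∈ Submodule.span K {f.map (io O), g.map (io O)}) (hs0 : s ≠ 0)
    (hd : q.map (io O) ∣ s) :
    ∃ x y : O, (x = 1 ∨ y = 1) ∧ q ∣ C x * f + C y * g := by
  obtain ⟨x, y, rfl⟩ := Submodule.mem_span_pair.1 hs
  have hxy : x ≠ 0 ∨ y ≠ 0 := by
    by_contra h
    push Not at h
    rw [h.1, h.2, zero_smul, zero_smul, add_zero] at hs0
    exact hs0 rfl
  obtain ⟨c, x', y', hc, h1, h2, h3⟩ := exists_scale (O := O) hxy
  refine ⟨x', y', h3, ?_⟩
  rw [← Polynomial.map_dvd_map (io O) io_injective hq, Polynomial.map_add, Polynomial.map_mul,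
    Polynomial.map_mul, map_C, map_C, h1, h2]
  have : C (c * x) * f.map (io O) + C (c * y) * g.map (io O) =
      C c * (x • f.map (io O) + y • g.map (io O)) := by
    simp only [smul_eq_C_mul, C_mul]; ring
  rw [this]
  exact Dvd.dvd.mul_left hd _

/-- integral form of a Schubert condition -/
theorem exists_int_pow {f g : O[X]} {P : O} {m : ℕ} {s : K[X]}
    (hs : s ∈ Submodule.span K {f.map (io O), g.map (io O)}) (hs0 : s ≠ 0)
    (hd : (X - C (io O P)) ^ m ∣ s) :
    ∃ x y : O, (x = 1 ∨ y = 1) ∧ (X - C P) ^ m ∣ C x * f + C y * g := by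
  apply exists_int ((monic_X_sub_C P).pow m) hs hs0
  rw [Polynomial.map_pow, Polynomial.map_sub, map_X, map_C]
  exact hd

theorem one_ne : (re O 1 : IsLocalRing.ResidueField O) ≠ 0 := by
  rw [map_one]; exact one_ne_zero

/-- reduction of Schubert conditions -/
theorem red_sch {f g : O[X]} {P : O} {m : ℕ}
    (hli : LinearIndependent (IsLocalRing.ResidueField O) ![f.map (re O), g.map (re O)])
    (h : ∃ s ∈ Submodule.span K {f.map (io O), g.map (io O)}, s ≠ 0 ∧ (X - C (io O P)) ^ m ∣ s) :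
    ∃ s ∈ Submodule.span (IsLocalRing.ResidueField O) {f.map (re O), g.map (re O)}, s ≠ 0 ∧
      (X - C (re O P)) ^ m ∣ s := by
  obtain ⟨s, hs, hs0, hd⟩ := h
  obtain ⟨x, y, hxy, hd'⟩ := exists_int_pow hs hs0 hd
  refine ⟨re O x • f.map (re O) + re O y • g.map (re O), Submodule.mem_span_pair.2 ⟨_, _, rfl⟩,
    ?_, ?_⟩
  · intro h0
    obtain ⟨h1, h2⟩ := LinearIndependent.pair_iff.1 hli _ _ h0
    rcases hxy with rfl | rfl
    · exact one_ne h1
    · exact one_ne h2
  · obtain ⟨r, hr⟩ := hd'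
    refine ⟨r.map (re O), ?_⟩
    have := congrArg (Polynomial.map (re O)) hr
    rw [Polynomial.map_add, Polynomial.map_mul, Polynomial.map_mul, map_C, map_C,
      Polynomial.map_mul, Polynomial.map_pow, Polynomial.map_sub, map_X, map_C] at this
    rw [smul_eq_C_mul, smul_eq_C_mul]
    exact this

/-- change of basis to prescribed pivots -/
theorem exists_pivots {f g : O[X]} {i j : ℕ} (hδ : re O (f.coeff i * g.coeff j -
    f.coeff j * g.coeff i) ≠ 0) :
    ∃ F G : O[X], F.coeff i = 1 ∧ F.coeff j = 0 ∧ G.coeff i = 0 ∧ G.coeff j = 1 ∧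
      ∀ (B : Type u) [Field B] (φ : O →+* B),
        Submodule.span B {F.map φ, G.map φ} = Submodule.span B {f.map φ, g.map φ} := by
  have hu : IsUnit (f.coeff i * g.coeff j - f.coeff j * g.coeff i) := by
    by_contra hnu
    apply hδ
    rw [IsLocalRing.residue_eq_zero_iff]
    exact hnu
  obtain ⟨w, hw⟩ := hu.exists_right_inv
  have hF : ∀ l, (C w * (C (g.coeff j) * f - C (f.coeff j) * g)).coeff l =
      w * (g.coeff j * f.coeff l - f.coeff j * g.coeff l) := by
    intro l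
    rw [coeff_C_mul, coeff_sub, coeff_C_mul, coeff_C_mul]
  have hG : ∀ l, (C w * (C (f.coeff i) * g - C (g.coeff i) * f)).coeff l =
      w * (f.coeff i * g.coeff l - g.coeff i * f.coeff l) := by
    intro l
    rw [coeff_C_mul, coeff_sub, coeff_C_mul, coeff_C_mul]
  refine ⟨C w * (C (g.coeff j) * f - C (f.coeff j) * g),
    C w * (C (f.coeff i) * g - C (g.coeff i) * f), ?_, ?_, ?_, ?_, ?_⟩
  · rw [hF]; linear_combination hw
  · rw [hF]; ring
  · rw [hG]; ring
  · rw [hG]; linear_combination hw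
  · intro B _ φ
    have hw' : φ (f.coeff i * g.coeff j - f.coeff j * g.coeff i) * φ w = 1 := by
      rw [← map_mul, hw, map_one]
    rw [map_sub, map_mul, map_mul] at hw'
    apply le_antisymm
    · rw [Submodule.span_le]
      rintro x (rfl | rfl)
      · refine Submodule.mem_span_pair.2 ⟨φ w * φ (g.coeff j), -(φ w * φ (f.coeff j)), ?_⟩
        rw [Polynomial.map_mul, Polynomial.map_sub, Polynomial.map_mul, Polynomial.map_mul, map_C,
          map_C, map_C]
        simp only [smul_eq_C_mul, C_mul, C_neg]; ring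
      · refine Submodule.mem_span_pair.2 ⟨-(φ w * φ (g.coeff i)), (φ w * φ (f.coeff i)), ?_⟩
        rw [Polynomial.map_mul, Polynomial.map_sub, Polynomial.map_mul, Polynomial.map_mul, map_C,
          map_C, map_C]
        simp only [smul_eq_C_mul, C_mul, C_neg]; ring
    · have hwC : (C (φ (f.coeff i)) * C (φ (g.coeff j)) - C (φ (f.coeff j)) * C (φ (g.coeff i))) *
        C (φ w) = (1 : B[X]) := by
        rw [← C_mul, ← C_mul, ← C_sub, ← C_mul, hw', C_1]
      rw [Submodule.span_le]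
      rintro x (rfl | rfl)
      · refine Submodule.mem_span_pair.2 ⟨φ (f.coeff i), φ (f.coeff j), ?_⟩
        simp only [smul_eq_C_mul, Polynomial.map_mul, Polynomial.map_sub, map_C]
        linear_combination (f.map φ) * hwC
      · refine Submodule.mem_span_pair.2 ⟨φ (g.coeff i), φ (g.coeff j), ?_⟩
        simp only [smul_eq_C_mul, Polynomial.map_mul, Polynomial.map_sub, map_C]
        linear_combination (g.map φ) * hwC

end Val

section Strip

variable {κ : Type*} [Field κ] {n : ℕ} {Q : Fin n → κ} {e : Fin n → ℕ}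

/-- strip the base points at `0` -/
theorem exists_strip {u v : κ[X]} {c : κ} (hc : c ≠ 0) (hQ : ∀ i, Q i ≠ 0) {N : ℕ}
    (hW : wronskian u v = C c * ((∏ i, (X - C (Q i)) ^ (e i - 1)) * X ^ N)) :
    ∃ (m : ℕ) (u₀ v₀ : κ[X]), u = X ^ m * u₀ ∧ v = X ^ m * v₀ ∧
      (u₀.eval 0 ≠ 0 ∨ v₀.eval 0 ≠ 0) ∧ 2 * m ≤ N ∧
      wronskian u₀ v₀ = C c * ((∏ i, (X - C (Q i)) ^ (e i - 1)) * X ^ (N - 2 * m)) := by
  set T := ∏ i, (X - C (Q i)) ^ (e i - 1) with hT
  have hT0 : T.eval 0 ≠ 0 := eval_prod_pow_ne_zero Q _ (fun i => (hQ i).symm)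
  have hTne : T ≠ 0 := by
    intro h0; rw [h0, eval_zero] at hT0; exact hT0 rfl
  have hX : (X : κ[X]) ≠ 0 := X_ne_zero
  have hWne : wronskian u v ≠ 0 := by
    rw [hW]
    exact mul_ne_zero (C_ne_zero.2 hc) (mul_ne_zero hTne (pow_ne_zero _ hX))
  have hu : u ≠ 0 := by rintro rfl; exact hWne (wronskian_zero_left _)
  have hv : v ≠ 0 := by rintro rfl; exact hWne (wronskian_zero_right _)
  set m := min (rootMultiplicity 0 u) (rootMultiplicity 0 v) with hm
  have h1 : (X : κ[X]) ^ m ∣ u := by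
    have := (le_rootMultiplicity_iff hu (a := 0) (n := m)).1 (min_le_left _ _)
    rwa [C_0, sub_zero] at this
  have h2 : (X : κ[X]) ^ m ∣ v := by
    have := (le_rootMultiplicity_iff hv (a := 0) (n := m)).1 (min_le_right _ _)
    rwa [C_0, sub_zero] at this
  obtain ⟨u₀, hu₀⟩ := h1
  obtain ⟨v₀, hv₀⟩ := h2
  have hbpf : u₀.eval 0 ≠ 0 ∨ v₀.eval 0 ≠ 0 := by
    by_contra hcon
    push Not at hcon
    have h3 : (X : κ[X]) ∣ u₀ := by
      have := dvd_iff_isRoot.2 (show IsRoot u₀ 0 from hcon.1)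
      rwa [C_0, sub_zero] at this
    have h4 : (X : κ[X]) ∣ v₀ := by
      have := dvd_iff_isRoot.2 (show IsRoot v₀ 0 from hcon.2)
      rwa [C_0, sub_zero] at this
    have h5 : m + 1 ≤ rootMultiplicity 0 u := by
      rw [le_rootMultiplicity_iff hu, C_0, sub_zero, hu₀, pow_succ]
      exact mul_dvd_mul_left _ h3
    have h6 : m + 1 ≤ rootMultiplicity 0 v := by
      rw [le_rootMultiplicity_iff hv, C_0, sub_zero, hv₀, pow_succ]
      exact mul_dvd_mul_left _ h4
    omega
  have hW' : X ^ (2 * m) * wronskian u₀ v₀ = C c * (T * X ^ N) := by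
    rw [← hW, hu₀, hv₀, wr_mul_mul]; ring
  have h2m : 2 * m ≤ N := by
    by_contra hcon
    push Not at hcon
    have h3 : (X : κ[X]) ^ (N + 1) ∣ C c * (T * X ^ N) := by
      rw [← hW']
      exact Dvd.dvd.mul_right (pow_dvd_pow _ hcon) _
    have h4 : C c * (T * X ^ N) = X ^ N * (C c * T) := by ring
    rw [h4, pow_succ] at h3
    have h5 := (mul_dvd_mul_iff_left (pow_ne_zero _ hX)).1 h3
    have h6 : (X - C (0 : κ)) ∣ C c * T := by rwa [C_0, sub_zero]
    have h7 := dvd_iff_isRoot.1 h6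
    rw [IsRoot.def, eval_mul, eval_C] at h7
    exact mul_ne_zero hc hT0 h7
  refine ⟨m, u₀, v₀, hu₀, hv₀, hbpf, h2m, ?_⟩
  apply mul_left_cancel₀ (pow_ne_zero (2 * m) hX)
  rw [hW']
  have : (X : κ[X]) ^ N = X ^ (2 * m) * X ^ (N - 2 * m) := by rw [← pow_add]; congr 1; omega
  rw [this]; ring

/-- Schubert conditions after stripping -/
theorem strip_sch {u v u₀ v₀ : κ[X]} {m : ℕ} (hu : u = X ^ m * u₀) (hv : v = X ^ m * v₀) {q : κ}
    (hq : q ≠ 0) {r : ℕ} (h : ∃ s ∈ Submodule.span κ {u, v}, s ≠ 0 ∧ (X - C q) ^ r ∣ s) :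
    ∃ s ∈ Submodule.span κ {u₀, v₀}, s ≠ 0 ∧ (X - C q) ^ r ∣ s := by
  obtain ⟨s, hs, hs0, hd⟩ := h
  obtain ⟨x, y, rfl⟩ := Submodule.mem_span_pair.1 hs
  have h1 : x • u + y • v = X ^ m * (x • u₀ + y • v₀) := by
    rw [hu, hv]; simp only [smul_eq_C_mul]; ring
  rw [h1] at hs0 hd
  refine ⟨x • u₀ + y • v₀, Submodule.mem_span_pair.2 ⟨_, _, rfl⟩, ?_, ?_⟩
  · intro h0
    rw [h0, mul_zero] at hs0
    exact hs0 rfl
  · have hcop : IsCoprime ((X - C q) ^ r) ((X : κ[X]) ^ m) := by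
      have h1 : IsCoprime ((X - C q) ^ r) ((X - C (0 : κ)) ^ m) :=
        (isCoprime_X_sub_C_of_isUnit_sub (isUnit_iff_ne_zero.2 (by rwa [sub_zero]))).pow
      rwa [C_0, sub_zero] at h1
    exact hcop.dvd_of_dvd_mul_left hd

theorem natDegree_strip {u u₀ : κ[X]} {m d : ℕ} (hu : u = X ^ m * u₀) (hd : u.natDegree ≤ d) :
    u₀.natDegree ≤ d - m := by
  rw [natDegree_le_iff_coeff_eq_zero]
  intro j hj
  have : u₀.coeff j = u.coeff (j + m) := by rw [hu, coeff_X_pow_mul]
  rw [this, coeff_eq_zero_of_natDegree_lt (by omega)]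

end Strip

end K807.LimitA
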