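import Groth.Agent.W4c1limliniiii.K807.LimitA

/-!
# Limits of pencils along a valuation ring: the reduction and its order at the collision point
-/

set_option autoImplicit false
set_option linter.style.haveILetI false
set_option linter.unusedSectionVars false
universe u

open Polynomial

namespace K807.LimitB

open K807.Wr K807.Pencil K807.Bound K807.Normal K807.Rigid K807.Chart K807.Bubble K807.Special
open K807.Family K807.LimitA W4c1limliniiii

variable {K : Type u} [Field K] {O : ValuationSubring K}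
variable {n d a b : ℕ} {e : Fin n → ℕ} {Q : Fin n → O} {t : O}

/-- the ramification divisor over the valuation ring -/
noncomputable def TO (Q : Fin n → O) (t : O) (e : Fin n → ℕ) (a b : ℕ) : O[X] :=
  (∏ i, (X - C (Q i)) ^ (e i - 1)) * X ^ (a - 1) * (X - C t) ^ (b - 1)

theorem TO_monic : (TO Q t e a b).Monic :=
  ((monic_prod_of_monic _ _ fun _ _ => (monic_X_sub_C _).pow _).mul (monic_X_pow _)).mul
    ((monic_X_sub_C _).pow _)

theorem TO_mapK : (TO Q t e a b).map (io O) =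
    ∏ i, (X - C (ptsK Q t i)) ^ (ind e a b i - 1) := by
  rw [Fin.prod_univ_castSucc, Fin.prod_univ_castSucc, TO]
  simp only [ptsK, ind, Fin.snoc_castSucc, Fin.snoc_last, C_0, sub_zero, Polynomial.map_mul,
    Polynomial.map_prod, Polynomial.map_pow, Polynomial.map_sub, map_X, map_C]

theorem TO_mapR (ht : re O t = 0) (ha : 1 ≤ a) (hb : 1 ≤ b) : (TO Q t e a b).map (re O) =
    (∏ i, (X - C (re O (Q i))) ^ (e i - 1)) * X ^ (a + b - 2) := by
  rw [TO, Polynomial.map_mul, Polynomial.map_mul, Polynomial.map_prod]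
  simp only [Polynomial.map_pow, Polynomial.map_sub, map_X, map_C, ht, C_0, sub_zero]
  rw [mul_assoc, ← pow_add]
  congr 2; omega

theorem exists_coeff {w T : O[X]} (hT : T.Monic) {x : K} (h : w.map (io O) = x • T.map (io O)) :
    ∃ c : O, io O c = x ∧ w = C c * T := by
  have e1 := congrArg (fun q : K[X] => q.coeff T.natDegree) h
  simp only [coeff_map, coeff_smul, smul_eq_mul] at e1
  rw [hT.coeff_natDegree, map_one, mul_one] at e1
  refine ⟨w.coeff T.natDegree, e1, ?_⟩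
  apply Polynomial.map_injective _ io_injective
  rw [h, Polynomial.map_mul, map_C, e1, smul_eq_C_mul]

/-- integral basis of a pencil with independent reductions -/
theorem exists_red [IsAlgClosed K] (hc : Conf O Q t) (he : ∀ i, 1 ≤ e i) (ha : 1 ≤ a) (hb : 1 ≤ b)
    (hsum : (∑ i, e i) + a + b = 2 * d + n) {V : Submodule K K[X]}
    (hV : V ∈ ramMaps d (ptsK Q t) (ind e a b)) :
    ∃ (f g : O[X]) (c : O), V = Submodule.span K {f.map (io O), g.map (io O)} ∧
      f.natDegree ≤ d ∧ g.natDegree ≤ d ∧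
      LinearIndependent (IsLocalRing.ResidueField O) ![f.map (re O), g.map (re O)] ∧
      wronskian f g = C c * TO Q t e a b := by
  have hd : (∑ i, ind e a b i) + 2 = 2 * d + (n + 2) := by rw [sum_ind]; omega
  obtain ⟨F, G, hNP, hFG⟩ := exists_np hc.ptsK_injective (ind_pos he ha hb) hd hV
  obtain ⟨hW, -⟩ := hNP.wr hc.ptsK_injective (ind_pos he ha hb) (by
    have := one_le_of_sum (ind_pos he ha hb) hd
    omega)
  obtain ⟨f, g, i, j, D, hD, h1, h2, h3, h4, hsp, -, hw⟩ := Val.exists_pivot O (linInd_of_wr hNP.W0)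
  have hw' : (wronskian f g).map (io O) =
      (D⁻¹ * (((d - 1 : ℕ) : K) - (d : ℕ))) • (TO Q t e a b).map (io O) := by
    rw [Normal.map_wronskian, hw, hW, TO_mapK, smul_eq_C_mul, smul_eq_C_mul, C_mul, mul_assoc]
  obtain ⟨c, -, hc'⟩ := exists_coeff TO_monic hw'
  have hVs : V = Submodule.span K {f.map (io O), g.map (io O)} := by rw [hFG, hsp]
  have hdeg : ∀ x : O[X], x.map (io O) ∈ V → x.natDegree ≤ d := by
    intro x hx
    have := natDegree_le_of_mem hV.1.1 hx
    rwa [natDegree_map_eq_of_injective io_injective] at this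
  refine ⟨f, g, c, hVs, ?_, ?_, ?_, hc'⟩
  · apply hdeg
    rw [hVs]; exact Submodule.subset_span (by simp)
  · apply hdeg
    rw [hVs]; exact Submodule.subset_span (by simp)
  · apply Val.linInd_of_pivot (i := i) (j := j)
    · rw [coeff_map, h1, map_one]
    · rw [coeff_map, h2, map_zero]
    · rw [coeff_map, h3, map_zero]
    · rw [coeff_map, h4, map_one]

theorem sch_K {V : Submodule K K[X]} (hV : V ∈ ramMaps d (ptsK Q t) (ind e a b)) {f g : O[X]}
    (hVs : V = Submodule.span K {f.map (io O), g.map (io O)}) :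
    (∀ i, ∃ s ∈ Submodule.span K {f.map (io O), g.map (io O)}, s ≠ 0 ∧
      (X - C (io O (Q i))) ^ (e i) ∣ s) ∧
    (∃ s ∈ Submodule.span K {f.map (io O), g.map (io O)}, s ≠ 0 ∧
      (X - C (io O 0)) ^ a ∣ s) ∧
    (∃ s ∈ Submodule.span K {f.map (io O), g.map (io O)}, s ≠ 0 ∧
      (X - C (io O t)) ^ b ∣ s) := by
  have h := schubert_of_mem hV hVs
  rw [forall_snoc, forall_snoc] at h
  obtain ⟨⟨h1, h2⟩, h3⟩ := h
  simp only [ptsK, ind, Fin.snoc_castSucc, Fin.snoc_last] at h1 h2 h3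
  rw [map_zero]
  exact ⟨h1, h2, h3⟩

section Residue

variable {κ : Type*} [Field κ] {Qb : Fin n → κ}

/-- **Order of a separable pencil at the collision point.** -/
theorem exists_order (p : ℕ) [CharP κ p] (hpab : p = 0 ∨ a + b ≤ p)
    (hQ0 : ∀ i, Qb i ≠ 0) (ha : 1 ≤ a) (hb : 1 ≤ b)
    {c : κ} (hc : c ≠ 0) {u v : κ[X]}
    (hW : wronskian u v = C c * ((∏ i, (X - C (Qb i)) ^ (e i - 1)) * X ^ (a + b - 2)))
    (hsch : ∀ i, ∃ s ∈ Submodule.span κ {u, v}, s ≠ 0 ∧ (X - C (Qb i)) ^ (e i) ∣ s) :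
    ∃ (m : ℕ) (u₀ v₀ : κ[X]), u = X ^ m * u₀ ∧ v = X ^ m * v₀ ∧
      (u₀.eval 0 ≠ 0 ∨ v₀.eval 0 ≠ 0) ∧ 2 * m + 2 ≤ a + b ∧ wronskian u₀ v₀ ≠ 0 ∧
      wronskian u₀ v₀ = C c * ∏ i, (X - C ((Fin.snoc Qb 0 : Fin (n + 1) → κ) i)) ^
        ((Fin.snoc e (a + b - 1 - 2 * m) : Fin (n + 1) → ℕ) i - 1) ∧
      (∀ i, ∃ s ∈ Submodule.span κ {u₀, v₀}, s ≠ 0 ∧
        (X - C ((Fin.snoc Qb 0 : Fin (n + 1) → κ) i)) ^
          ((Fin.snoc e (a + b - 1 - 2 * m) : Fin (n + 1) → ℕ) i) ∣ s) := by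
  obtain ⟨m, u₀, v₀, hu, hv, hbpf, h2m, hW₀⟩ := exists_strip hc hQ0 hW
  have hT0 : (∏ i, (X - C (Qb i)) ^ (e i - 1)) ≠ 0 :=
    (monic_prod_of_monic _ _ fun i _ => (monic_X_sub_C _).pow _).ne_zero
  have hWne : wronskian u₀ v₀ ≠ 0 := by
    rw [hW₀]
    exact mul_ne_zero (C_ne_zero.2 hc) (mul_ne_zero hT0 (pow_ne_zero _ X_ne_zero))
  refine ⟨m, u₀, v₀, hu, hv, hbpf, by omega, hWne, ?_, ?_⟩
  · rw [hW₀, Fin.prod_univ_castSucc]
    simp only [Fin.snoc_castSucc, Fin.snoc_last, C_0, sub_zero]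
    congr 3; omega
  · rw [forall_snoc]
    constructor
    · intro i
      rw [Fin.snoc_castSucc, Fin.snoc_castSucc]
      exact strip_sch hu hv (hQ0 i) (hsch i)
    · rw [Fin.snoc_last, Fin.snoc_last]
      have h1 : (X - C (0 : κ)) ^ (a + b - 2 - 2 * m) ∣ wronskian u₀ v₀ := by
        rw [hW₀, C_0, sub_zero]
        exact Dvd.dvd.mul_left (dvd_mul_left _ _) _
      obtain ⟨s, hs, hs0, hd⟩ := exists_pow_dvd_of_wr p hbpf hWne h1 (by omega)
      refine ⟨s, hs, hs0, ?_⟩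
      have : a + b - 1 - 2 * m = a + b - 2 - 2 * m + 1 := by omega
      rw [this]
      exact hd

/-- the orders at a point `P i` of the members of a pencil with known Wronskian -/
theorem order_le {N : ℕ} {P : Fin N → κ} {e : Fin N → ℕ} (hP : Function.Injective P)
    (he : ∀ i, 1 ≤ e i) {c : κ} (hc : c ≠ 0) {u v : κ[X]}
    (hW : wronskian u v = C c * ∏ i, (X - C (P i)) ^ (e i - 1)) {j : Fin N} {s : κ[X]}
    (hs : s ∈ Submodule.span κ {u, v}) (hs0 : s ≠ 0) {m : ℕ} (hm : (X - C (P j)) ^ m ∣ s) :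
    m ≤ e j :=
  ((le_rootMultiplicity_iff hs0).2 hm).trans (rootMultiplicity_le hP he hc hW j hs hs0)

end Residue

end K807.LimitB
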