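import Groth.Agent.W4c1limliniiii.K807.LimitB

/-!
# Integrality on the bubble
-/

set_option autoImplicit false
set_option linter.style.haveILetI false
set_option linter.unusedSectionVars false
universe u

open Polynomial

namespace K807.LimitC

open K807.Wr K807.Pencil K807.Bound K807.Normal K807.Rigid K807.Chart K807.Bubble K807.Special
open K807.Family K807.LimitA K807.LimitB W4c1limliniiii

section Minor

variable {κ : Type*} [Field κ]

theorem wr_ne_zero_of_orders (p : ℕ) [CharP κ p] {f g : κ[X]} {i₀ i₁ : ℕ} (h01 : i₀ < i₁)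
    (hf : X ^ i₀ ∣ f) (hf0 : f.coeff i₀ ≠ 0) (hg : X ^ i₁ ∣ g) (hg0 : g.coeff i₁ ≠ 0)
    (hp : p = 0 ∨ i₀ + i₁ < p) : wronskian f g ≠ 0 := by
  obtain ⟨u, rfl⟩ := hf
  obtain ⟨v, rfl⟩ := hg
  have hu : u.eval 0 ≠ 0 := by
    rw [← coeff_zero_eq_eval_zero]
    intro h
    apply hf0
    have := coeff_X_pow_mul u i₀ 0
    rw [zero_add] at this
    rw [this, h]
  have hv : v.eval 0 ≠ 0 := by
    rw [← coeff_zero_eq_eval_zero]
    intro h
    apply hg0
    have := coeff_X_pow_mul v i₁ 0
    rw [zero_add] at this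
    rw [this, h]
  have h1 := wr_pow (0 : κ) i₀ i₁ (by omega) u v
  rw [C_0, sub_zero] at h1
  rw [h1]
  refine mul_ne_zero (pow_ne_zero _ X_ne_zero) ?_
  intro h2
  have h3 := congrArg (eval 0) h2
  simp only [eval_add, eval_mul, eval_X, zero_mul, add_zero, eval_sub, eval_natCast, eval_zero,
    mul_eq_zero, hu, hv, or_false] at h3
  have h4 : ((i₁ - i₀ : ℕ) : κ) = 0 := by
    rw [Nat.cast_sub h01.le]; exact h3
  rw [CharP.cast_eq_zero_iff κ p] at h4
  rcases hp with rfl | hp
  · rw [zero_dvd_iff] at h4; omega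
  · have := Nat.le_of_dvd (by omega) h4; omega

/-- a pair with a non-zero minor of small weight has non-zero Wronskian -/
theorem wr_ne_zero_of_minor (p : ℕ) [CharP κ p] {φ γ : κ[X]} {α β : ℕ}
    (hM : φ.coeff α * γ.coeff β - φ.coeff β * γ.coeff α ≠ 0) (hp : p = 0 ∨ α + β < p) :
    wronskian φ γ ≠ 0 := by
  classical
  -- there is an index where one of the two does not vanish
  have hex : ∃ i, φ.coeff i ≠ 0 ∨ γ.coeff i ≠ 0 := by
    by_contra hcon
    push Not at hcon
    apply hM
    rw [(hcon α).1, (hcon β).1]; ring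
  set i₀ := Nat.find hex with hi₀
  have hlt : ∀ i < i₀, φ.coeff i = 0 ∧ γ.coeff i = 0 := by
    intro i hi
    have := Nat.find_min hex hi
    push Not at this
    exact this
  -- general statement
  have key : ∀ f h : κ[X], f.coeff i₀ ≠ 0 → (∀ i < i₀, f.coeff i = 0 ∧ h.coeff i = 0) →
      f.coeff α * h.coeff β - f.coeff β * h.coeff α ≠ 0 → wronskian f h ≠ 0 := by
    intro f h hf hl hM'
    set g := h - C (h.coeff i₀ / f.coeff i₀) * f with hg
    have hgc : ∀ i, g.coeff i = h.coeff i - h.coeff i₀ / f.coeff i₀ * f.coeff i := by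
      intro i; rw [hg, coeff_sub, coeff_C_mul]
    have hWg : wronskian f g = wronskian f h := by
      simp only [hg, wronskian, derivative_sub, derivative_mul, derivative_C]; ring
    have hMg : f.coeff α * g.coeff β - f.coeff β * g.coeff α ≠ 0 := by
      rw [hgc, hgc]
      intro h0
      apply hM'
      rw [← h0]; ring
    have hg0 : g ≠ 0 := by
      intro h0
      rw [h0] at hMg
      simp at hMg
    have hexg : ∃ i, g.coeff i ≠ 0 := by
      by_contra hcon
      push Not at hcon
      exact hg0 (Polynomial.ext (by simpa using hcon))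
    set i₁ := Nat.find hexg with hi₁
    have hlg : ∀ i < i₁, g.coeff i = 0 := by
      intro i hi
      have := Nat.find_min hexg hi
      push Not at this
      exact this
    have h01 : i₀ < i₁ := by
      by_contra hcon
      push Not at hcon
      apply Nat.find_spec hexg
      rw [← hi₁]
      rcases lt_or_eq_of_le hcon with h1 | h1
      · rw [hgc, (hl _ h1).1, (hl _ h1).2]; ring
      · rw [h1, hgc, div_mul_cancel₀ _ hf, sub_self]
    rw [← hWg]
    refine wr_ne_zero_of_orders p h01 ?_ hf ?_ (Nat.find_spec hexg) ?_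
    · rw [X_pow_dvd_iff]; exact fun i hi => (hl i hi).1
    · rw [X_pow_dvd_iff]; exact hlg
    · rcases hp with hp | hp
      · exact Or.inl hp
      · right
        refine lt_of_le_of_lt ?_ hp
        by_contra hcon
        push Not at hcon
        apply hMg
        have e1 : f.coeff α * g.coeff β = 0 := by
          by_cases h1 : α < i₀
          · rw [(hl _ h1).1, zero_mul]
          · rw [hlg β (by omega), mul_zero]
        have e2 : f.coeff β * g.coeff α = 0 := by
          by_cases h1 : β < i₀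
          · rw [(hl _ h1).1, zero_mul]
          · rw [hlg α (by omega), mul_zero]
        rw [e1, e2, sub_zero]
  rcases Nat.find_spec hex with h1 | h1
  · exact key φ γ h1 hlt hM
  · have h2 := key γ φ h1 (fun i hi => ⟨(hlt i hi).2, (hlt i hi).1⟩) (by
      intro h0
      apply hM
      linear_combination -h0)
    rw [← wronskian_neg_eq, Ne, neg_eq_zero]
    exact h2

end Minor

variable {K : Type u} [Field K] {O : ValuationSubring K}
variable {n d a b m₀ m₁ : ℕ} {e : Fin n → ℕ} {Q : Fin n → O} {t : O}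

/-- the ramification divisor on the bubble -/
noncomputable def SO (Q : Fin n → O) (t : O) (e : Fin n → ℕ) (a b : ℕ) : O[X] :=
  (∏ i, (C t * X - C (Q i)) ^ (e i - 1)) * X ^ (a - 1) * (X - C 1) ^ (b - 1)

theorem TO_comp (ha : 1 ≤ a) (hb : 1 ≤ b) :
    ((TO Q t e a b).map (io O)).comp (C (io O t) * X) =
      C ((io O t) ^ (a + b - 2)) * (SO Q t e a b).map (io O) := by
  have h : (TO Q t e a b).comp (C t * X) = C (t ^ (a + b - 2)) * SO Q t e a b := by
    rw [TO, SO, mul_comp, mul_comp, prod_comp]
    simp only [pow_comp, sub_comp, X_comp, C_comp]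
    have h2 : C t * X - C t = C t * (X - C 1 : O[X]) := by rw [mul_sub, ← C_mul, mul_one]
    have h3 : (C (t ^ (a + b - 2)) : O[X]) = C t ^ (a - 1) * C t ^ (b - 1) := by
      rw [← pow_add, ← C_pow]; congr 2; omega
    rw [h2, h3, mul_pow, mul_pow]
    ring
  have h1 := congrArg (Polynomial.map (io O)) h
  rw [Polynomial.map_comp, Polynomial.map_mul, Polynomial.map_mul, map_C, map_X, map_C,
    map_pow] at h1
  exact h1

/-- **Integrality on the bubble**: all minors of the rescaled pencil are divisible by the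
expected power of `t`. -/
theorem minors_dvd (p : ℕ) [CharP (IsLocalRing.ResidueField O) p] (hpab : p = 0 ∨ a + b ≤ p)
    (hc : Conf O Q t) (ha : 1 ≤ a) (hb : 1 ≤ b) {F G : O[X]} {c₁ : O}
    (hm : m₀ + m₁ + 1 = a + b)
    (hW : wronskian F G = C c₁ * TO Q t e a b) (hW0 : wronskian F G ≠ 0)
    (hM : F.coeff m₀ * G.coeff m₁ - F.coeff m₁ * G.coeff m₀ = 1) (i j : ℕ) :
    ∃ o : O, t ^ (i + j) * (F.coeff i * G.coeff j - F.coeff j * G.coeff i) =
      t ^ (m₀ + m₁) * o := by
  have htK := hc.tK
  set T := io O t with hT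
  set Fb := (F.map (io O)).comp (C T * X) with hFb
  set Gb := (G.map (io O)).comp (C T * X) with hGb
  have cFb : ∀ i, Fb.coeff i = io O (t ^ i * F.coeff i) := by
    intro i
    rw [hFb, comp_C_mul_X_coeff, coeff_map, map_mul, map_pow, mul_comm]
  have cGb : ∀ i, Gb.coeff i = io O (t ^ i * G.coeff i) := by
    intro i
    rw [hGb, comp_C_mul_X_coeff, coeff_map, map_mul, map_pow, mul_comm]
  have hMb : ∀ i j, Fb.coeff i * Gb.coeff j - Fb.coeff j * Gb.coeff i =
      io O (t ^ (i + j) * (F.coeff i * G.coeff j - F.coeff j * G.coeff i)) := by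
    intro i j
    rw [cFb, cFb, cGb, cGb, ← map_mul, ← map_mul, ← map_sub]
    congr 1
    rw [pow_add]; ring
  have hWK : wronskian (F.map (io O)) (G.map (io O)) = C (io O c₁) * (TO Q t e a b).map (io O) := by
    rw [← Normal.map_wronskian, hW, Polynomial.map_mul, map_C]
  have hWK0 : wronskian (F.map (io O)) (G.map (io O)) ≠ 0 := by
    rw [← Normal.map_wronskian]
    exact (Polynomial.map_ne_zero_iff io_injective).2 hW0
  have hWb : wronskian Fb Gb =
      C (T * io O c₁ * T ^ (a + b - 2)) * (SO Q t e a b).map (io O) := by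
    rw [hFb, hGb, wronskian_comp, hWK, mul_comp, C_comp, TO_comp ha hb]
    simp only [C_mul]
    ring
  have hWb0 : wronskian Fb Gb ≠ 0 := by
    rw [hFb, hGb, wronskian_comp]
    exact mul_ne_zero (C_ne_zero.2 htK) (comp_ne_zero htK hWK0)
  obtain ⟨φ, γ, α, β, D, hD, h1, h2, h3, h4, hsp, hmem, hw⟩ := Val.exists_pivot O (linInd_of_wr hWb0)
  -- `D` is the minor at the pivot
  have hexp : ∀ s ∈ Submodule.span K {Fb, Gb},
      s = s.coeff α • φ.map (io O) + s.coeff β • γ.map (io O) := by
    intro s hs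
    rw [hsp] at hs
    obtain ⟨x, y, rfl⟩ := Submodule.mem_span_pair.1 hs
    have e1 : (x • φ.map (io O) + y • γ.map (io O)).coeff α = x := by
      rw [coeff_add, coeff_smul, coeff_smul, coeff_map, coeff_map, h1, h3, map_one, map_zero]
      simp
    have e2 : (x • φ.map (io O) + y • γ.map (io O)).coeff β = y := by
      rw [coeff_add, coeff_smul, coeff_smul, coeff_map, coeff_map, h2, h4, map_one, map_zero]
      simp
    rw [e1, e2]
  have hDe : Fb.coeff α * Gb.coeff β - Fb.coeff β * Gb.coeff α = D := by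
    have eF := hexp Fb (Submodule.subset_span (by simp))
    have eG := hexp Gb (Submodule.subset_span (by simp))
    have e1 : wronskian Fb Gb = (Fb.coeff α * Gb.coeff β - Gb.coeff α * Fb.coeff β) •
        wronskian (φ.map (io O)) (γ.map (io O)) := by
      rw [← wr_comb, ← eF, ← eG]
    rw [hw, smul_smul] at e1
    have e2 : ((Fb.coeff α * Gb.coeff β - Gb.coeff α * Fb.coeff β) * D⁻¹ - 1) •
        wronskian Fb Gb = 0 := by
      rw [sub_smul, ← e1, one_smul, sub_self]
    have e3 := (smul_eq_zero.1 e2).resolve_right hWb0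
    have e4 : (Fb.coeff α * Gb.coeff β - Gb.coeff α * Fb.coeff β) * D⁻¹ = 1 := sub_eq_zero.1 e3
    have e5 : Fb.coeff α * Gb.coeff β - Gb.coeff α * Fb.coeff β = D := by
      field_simp at e4
      exact e4
    rw [← e5]; ring
  -- the pivot has small weight
  have hαβ : α + β ≤ m₀ + m₁ := by
    by_contra hcon
    push Not at hcon
    have e1 := hmem m₀ m₁
    rw [hMb, hM, mul_one] at e1
    obtain ⟨o, ho⟩ : ∃ o : O, io O o = io O (t ^ (m₀ + m₁)) * D⁻¹ := ⟨⟨_, e1⟩, rfl⟩
    have e2 : io O (t ^ (m₀ + m₁)) = D * io O o := by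
      rw [ho]
      field_simp
    rw [← hDe, hMb, ← map_mul] at e2
    have e3 := io_injective e2
    have e4 : t ^ (α + β) = t ^ (m₀ + m₁) * t ^ (α + β - (m₀ + m₁)) := by
      rw [← pow_add]; congr 1; omega
    rw [e4, mul_assoc, mul_assoc] at e3
    have e5 := mul_left_cancel₀ (pow_ne_zero _ hc.t0) ((mul_one (t ^ (m₀ + m₁))).trans e3)
    have e6 := congrArg (re O) e5
    rw [map_one, map_mul, map_pow, hc.rt, zero_pow (by omega), zero_mul] at e6
    exact one_ne_zero e6
  -- the reduction of the rescaled pencil is separable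
  have hWR : wronskian (φ.map (re O)) (γ.map (re O)) ≠ 0 := by
    apply wr_ne_zero_of_minor p (α := α) (β := β)
    · rw [coeff_map, coeff_map, coeff_map, coeff_map, h1, h2, h3, h4, map_one, map_zero]
      simp
    · rcases hpab with h | h
      · exact Or.inl h
      · right; omega
  obtain ⟨l, hl⟩ : ∃ l, re O ((wronskian φ γ).coeff l) ≠ 0 := by
    by_contra hcon
    push Not at hcon
    apply hWR
    rw [← Normal.map_wronskian]
    ext l
    rw [coeff_map, hcon, coeff_zero]
  have hu : IsUnit ((wronskian φ γ).coeff l) := by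
    by_contra hnu
    apply hl
    rw [IsLocalRing.residue_eq_zero_iff]
    exact hnu
  obtain ⟨w, hw'⟩ := hu.exists_right_inv
  have hK : io O ((wronskian φ γ).coeff l) =
      D⁻¹ * (T * io O c₁ * T ^ (a + b - 2)) * io O ((SO Q t e a b).coeff l) := by
    rw [← coeff_map, Normal.map_wronskian, hw, hWb, coeff_smul, coeff_C_mul, coeff_map,
      smul_eq_mul]
    ring
  -- hence `D = t ^ (m₀ + m₁) * o`
  have hDo : D = io O (t ^ (m₀ + m₁) * (c₁ * (SO Q t e a b).coeff l * w)) := by
    have e1 := congrArg (io O) hw'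
    rw [map_mul, map_one, hK] at e1
    have e2 : T * T ^ (a + b - 2) = T ^ (m₀ + m₁) := by
      rw [← pow_succ']; congr 1; omega
    rw [map_mul, map_mul, map_mul, map_pow, ← hT, ← e2]
    field_simp at e1
    rw [← e1]; ring
  have hij := hmem i j
  rw [hMb] at hij
  refine ⟨(c₁ * (SO Q t e a b).coeff l * w) * ⟨_, hij⟩, ?_⟩
  apply io_injective
  rw [← mul_assoc, map_mul (io O) (t ^ (m₀ + m₁) * _), ← hDo]
  show _ = D * (io O (t ^ (i + j) * (F.coeff i * G.coeff j - F.coeff j * G.coeff i)) * D⁻¹)
  field_simp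

end K807.LimitC
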