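import Groth.Agent.W4c1limliniiii.K807.LimitC

/-!
# Every pencil over the fraction field with separable reduction comes from a solution
-/

set_option autoImplicit false
set_option linter.style.haveILetI false
set_option linter.unusedSectionVars false
universe u

open Polynomial

namespace K807.LimitD

open K807.Wr K807.Pencil K807.Bound K807.Normal K807.Rigid K807.Chart K807.Bubble K807.Special
open K807.Family K807.LimitA K807.LimitB K807.LimitC W4c1limliniiii

variable {K : Type u} [Field K] {O : ValuationSubring K}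
variable {n d a b m₀ m₁ : ℕ} {e : Fin n → ℕ} {Q : Fin n → O} {t : O}

/-- the unknowns attached to polynomials over a commutative ring -/
noncomputable def mkO {B : Type*} [CommRing B] (f g : B[X]) (q : Fin n → B) (r : B) :
    Var n d → B
  | Sum.inl j => f.coeff j
  | Sum.inr (Sum.inl j) => g.coeff j
  | Sum.inr (Sum.inr (Sum.inl i)) => q i
  | Sum.inr (Sum.inr (Sum.inr _)) => r

theorem pA_mkO {B : Type*} [CommRing B] {f g : B[X]} {q : Fin n → B} {r : B}
    (hf : f.natDegree ≤ d) : pA (mkO f g q r : Var n d → B) = f := pl_coeff hf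

theorem pB_mkO {B : Type*} [CommRing B] {f g : B[X]} {q : Fin n → B} {r : B}
    (hg : g.natDegree ≤ d) : pB (mkO f g q r : Var n d → B) = g := pl_coeff hg

theorem OSol.of_toK {z : Var n d → O}
    (h : Sol m₀ m₁ (fun i => io O (Q i)) (io O t) e a b (fun i => io O (z i))) :
    OSol m₀ m₁ Q t e a b z := by
  intro i
  have h1 := (sol_iff _ _ _ _ _).1 h i
  rw [← map_ev] at h1
  exact io_injective (h1.trans (map_zero _).symm)

/-- untwisting -/
theorem exists_tw {F : O[X]} {m : ℕ} (hd : F.natDegree ≤ d)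
    (h : ∀ j < m, ∃ o : O, F.coeff j = t ^ (m - j) * o) :
    ∃ A : O[X], A.natDegree ≤ d ∧ tw (wm t m) A = F := by
  classical
  have h' : ∀ j, ∃ o : O, F.coeff j = t ^ (m - j) * o := by
    intro j
    by_cases hj : j < m
    · exact h j hj
    · exact ⟨F.coeff j, by rw [Nat.sub_eq_zero_of_le (by omega), pow_zero, one_mul]⟩
  choose o ho using h'
  refine ⟨pl (fun j : Fin (d + 1) => o j), natDegree_pl _, ?_⟩
  ext j
  rw [coeff_tw, coeff_pl]
  split_ifs with hj
  · rw [ho j, wm]
  · rw [mul_zero, coeff_eq_zero_of_natDegree_lt (by omega)]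

/-- the residue pencil separates `0` from the other points -/
def SepR (O : ValuationSubring K) (d : ℕ) (Q : Fin n → O) (e : Fin n → ℕ) (a b : ℕ) : Prop :=
  ∀ m : ℕ, m ≤ d → 2 * m + 2 ≤ a + b → ∀ V₀ ∈ ramMaps (d - m) (ptsR Q)
    (Fin.snoc e (a + b - 1 - 2 * m) : Fin (n + 1) → ℕ), ∀ i, ∀ s ∈ V₀, s.eval 0 = 0 →
      s.eval (re O (Q i)) = 0 → s = 0

/-- **Existence of the chart.** -/
theorem exists_sol_of_red [IsAlgClosed K] (p : ℕ) [CharP (IsLocalRing.ResidueField O) p]
    (hpab : p = 0 ∨ a + b ≤ p) (hc : Conf O Q t) (he : ∀ i, 1 ≤ e i) (ha : 1 ≤ a) (hb : 1 ≤ b)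
    (hsum : (∑ i, e i) + a + b = 2 * d + n) (hsep : SepR O d Q e a b)
    {V : Submodule K K[X]} (hV : V ∈ ramMaps d (ptsK Q t) (ind e a b)) {f g : O[X]} {c₀ : O}
    (hVs : V = Submodule.span K {f.map (io O), g.map (io O)})
    (df : f.natDegree ≤ d) (dg : g.natDegree ≤ d)
    (hli : LinearIndependent (IsLocalRing.ResidueField O) ![f.map (re O), g.map (re O)])
    (hW : wronskian f g = C c₀ * TO Q t e a b) (hc₀ : re O c₀ ≠ 0) :
    ∃ (m : ℕ) (z : Var n d → O) (u₀ v₀ : (IsLocalRing.ResidueField O)[X]), m < a ∧ m < b ∧ m ≤ d ∧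
      OSol m (a + b - 1 - m) Q t e a b z ∧ V = pen m (a + b - 1 - m) t z ∧
      Submodule.span (IsLocalRing.ResidueField O) {u₀, v₀} ∈ ramMaps (d - m) (ptsR Q)
        (Fin.snoc e (a + b - 1 - 2 * m) : Fin (n + 1) → ℕ) ∧
      Submodule.span (IsLocalRing.ResidueField O)
        {(FO m t z).map (re O), (GO (a + b - 1 - m) t z).map (re O)} =
      Submodule.span (IsLocalRing.ResidueField O) {X ^ m * u₀, X ^ m * v₀} := by
  obtain ⟨sQ, s0, st⟩ := sch_K hV hVs
  -- reductions
  set u := f.map (re O) with hu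
  set v := g.map (re O) with hv
  have du : u.natDegree ≤ d := natDegree_map_le.trans df
  have dv : v.natDegree ≤ d := natDegree_map_le.trans dg
  have hWr : wronskian u v = C (re O c₀) *
      ((∏ i, (X - C (re O (Q i))) ^ (e i - 1)) * X ^ (a + b - 2)) := by
    rw [hu, hv, ← Normal.map_wronskian, hW, Polynomial.map_mul, map_C, TO_mapR hc.rt ha hb]
  obtain ⟨m, u₀, v₀, hu₀, hv₀, hbpf, h2m, hW0, hW₀, hsch₀⟩ := exists_order p hpab hc.ne0 ha hb hc₀
    hWr (fun i => red_sch hli (sQ i))
  set c := a + b - 1 - 2 * m with hcdef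
  have hc1 : 1 ≤ c := by omega
  have he' : ∀ i, 1 ≤ (Fin.snoc e c : Fin (n + 1) → ℕ) i := by
    rw [forall_snoc]
    exact ⟨fun i => by rw [Fin.snoc_castSucc]; exact he i, by rw [Fin.snoc_last]; exact hc1⟩
  -- `m ≤ d`
  have hmd : m ≤ d := by
    have hu0 : u ≠ 0 := hli.ne_zero 0
    have h1 : X ^ m ∣ u := ⟨u₀, hu₀⟩
    have h2 := natDegree_le_of_dvd h1 hu0
    rw [natDegree_X_pow] at h2
    exact h2.trans du
  have hV₀ : Submodule.span (IsLocalRing.ResidueField O) {u₀, v₀} ∈ ramMaps (d - m) (ptsR Q)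
      (Fin.snoc e c : Fin (n + 1) → ℕ) := by
    refine span_mem_ramMaps hc.ptsR_injective he' ?_ (natDegree_strip hu₀ du)
      (natDegree_strip hv₀ dv) hW0 hsch₀
    rw [Fin.sum_snoc]
    omega
  -- order bounds
  have hshift : ∀ r : ℕ, (∃ s ∈ Submodule.span (IsLocalRing.ResidueField O) {u, v}, s ≠ 0 ∧
      (X - C 0) ^ r ∣ s) → r ≤ m + c := by
    rintro r ⟨s, hs, hs0, hd⟩
    obtain ⟨x, y, rfl⟩ := Submodule.mem_span_pair.1 hs
    have h1 : x • u + y • v = X ^ m * (x • u₀ + y • v₀) := by
      rw [hu₀, hv₀]; simp only [smul_eq_C_mul]; ring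
    rw [h1] at hs0 hd
    rw [C_0, sub_zero] at hd
    by_contra hcon
    push Not at hcon
    have h2 : (X : (IsLocalRing.ResidueField O)[X]) ^ (c + 1) ∣ x • u₀ + y • v₀ := by
      have h3 : (X : (IsLocalRing.ResidueField O)[X]) ^ m * X ^ (c + 1) ∣
          X ^ m * (x • u₀ + y • v₀) := by
        rw [← pow_add]
        exact (pow_dvd_pow _ (by omega)).trans hd
      exact (mul_dvd_mul_iff_left (pow_ne_zero _ X_ne_zero)).1 h3
    have h4 := order_le hc.ptsR_injective he' hc₀ hW₀ (j := Fin.last n) (m := c + 1)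
      (Submodule.mem_span_pair.2 ⟨x, y, rfl⟩) (right_ne_zero_of_mul hs0) (by
        rw [ptsR, Fin.snoc_last, C_0, sub_zero]; exact h2)
    rw [Fin.snoc_last] at h4
    omega
  have hma : a ≤ m + c := by
    apply hshift
    have := red_sch hli s0
    rwa [map_zero] at this
  have hmb : b ≤ m + c := by
    apply hshift
    have := red_sch hli st
    rwa [hc.rt] at this
  have hm_a : m < a := by omega
  have hm_b : m < b := by omega
  -- the member of maximal order
  obtain ⟨s₁, hs₁, hs₁0, hs₁d⟩ := hsch₀ (Fin.last n)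
  rw [Fin.snoc_last, Fin.snoc_last, C_0, sub_zero] at hs₁d
  obtain ⟨x₁, y₁, hxy₁⟩ := Submodule.mem_span_pair.1 hs₁
  have hs₁c : s₁.coeff c ≠ 0 := by
    intro h0
    have h1 : (X : (IsLocalRing.ResidueField O)[X]) ^ (c + 1) ∣ s₁ := by
      rw [X_pow_dvd_iff] at hs₁d ⊢
      intro j hj
      rcases Nat.lt_succ_iff_lt_or_eq.1 hj with h | h
      · exact hs₁d j h
      · rw [h]; exact h0
    have h4 := order_le hc.ptsR_injective he' hc₀ hW₀ (j := Fin.last n) (m := c + 1)
      hs₁ hs₁0 (by rw [ptsR, Fin.snoc_last, C_0, sub_zero]; exact h1)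
    rw [Fin.snoc_last] at h4
    omega
  have cu : ∀ j, u.coeff (j + m) = u₀.coeff j := by
    intro j; rw [hu₀, coeff_X_pow_mul]
  have cv : ∀ j, v.coeff (j + m) = v₀.coeff j := by
    intro j; rw [hv₀, coeff_X_pow_mul]
  set m' := a + b - 1 - m with hm'
  have hcm : c + m = m' := by omega
  have hδ : re O (f.coeff m * g.coeff m' - f.coeff m' * g.coeff m) ≠ 0 := by
    rw [map_sub, map_mul, map_mul, ← coeff_map, ← coeff_map, ← coeff_map, ← coeff_map, ← hu, ← hv,
      ← hcm, cu, cv]
    have e1 := cu 0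
    have e2 := cv 0
    rw [zero_add] at e1 e2
    rw [e1, e2]
    have e3 := congrArg (fun q => q.coeff 0) hxy₁
    have e4 := congrArg (fun q => q.coeff c) hxy₁
    simp only [coeff_add, coeff_smul, smul_eq_mul] at e3 e4
    rw [X_pow_dvd_iff.1 hs₁d 0 (by omega)] at e3
    intro h0
    rw [← coeff_zero_eq_eval_zero, ← coeff_zero_eq_eval_zero] at hbpf
    rcases hbpf with h | h
    · apply mul_ne_zero hs₁c h
      rw [← e4]
      linear_combination y₁ * h0 + u₀.coeff c * e3
    · apply mul_ne_zero hs₁c h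
      rw [← e4]
      linear_combination (-x₁) * h0 + v₀.coeff c * e3
  -- the normalised basis
  obtain ⟨F, G, F0, F1, G0, G1, hspan⟩ := exists_pivots hδ
  have hVFG : V = Submodule.span K {F.map (io O), G.map (io O)} := by
    rw [hVs]; exact (hspan K (io O)).symm
  have hVR : Submodule.span (IsLocalRing.ResidueField O) {F.map (re O), G.map (re O)} =
      Submodule.span (IsLocalRing.ResidueField O) {u, v} :=
    hspan _ (re O)
  have hdeg : ∀ x : O[X], x.map (io O) ∈ V → x.natDegree ≤ d := by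
    intro x hx
    have := natDegree_le_of_mem hV.1.1 hx
    rwa [natDegree_map_eq_of_injective io_injective] at this
  have dF : F.natDegree ≤ d := hdeg F (by rw [hVFG]; exact Submodule.subset_span (by simp))
  have dG : G.natDegree ≤ d := hdeg G (by rw [hVFG]; exact Submodule.subset_span (by simp))
  -- the Wronskian
  obtain ⟨c₁, hc₁⟩ : ∃ c₁ : O, wronskian F G = C c₁ * TO Q t e a b := by
    have hF : F.map (io O) ∈ Submodule.span K {f.map (io O), g.map (io O)} := by
      rw [← hVs, hVFG]; exact Submodule.subset_span (by simp)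
    have hG : G.map (io O) ∈ Submodule.span K {f.map (io O), g.map (io O)} := by
      rw [← hVs, hVFG]; exact Submodule.subset_span (by simp)
    obtain ⟨x, hx⟩ := exists_wr_eq hF hG
    have h1 : (wronskian F G).map (io O) = (x * io O c₀) • (TO Q t e a b).map (io O) := by
      rw [Normal.map_wronskian, hx, ← Normal.map_wronskian, hW, Polynomial.map_mul, map_C,
        smul_eq_C_mul, smul_eq_C_mul, C_mul, mul_assoc]
    obtain ⟨c₁, -, h2⟩ := exists_coeff TO_monic h1
    exact ⟨c₁, h2⟩
  have hWK : wronskian F G ≠ 0 := by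
    have h1 := (isSeparable_iff hVFG).1 hV.2.1
    rw [← Normal.map_wronskian] at h1
    exact (Polynomial.map_ne_zero_iff io_injective).1 h1
  have hM : F.coeff m * G.coeff m' - F.coeff m' * G.coeff m = 1 := by
    rw [F0, F1, G0, G1]; ring
  have hmin := minors_dvd (m₀ := m) (m₁ := m') p hpab hc ha hb (by omega) hc₁ hWK hM
  -- untwisting
  have htne : ∀ r : ℕ, t ^ r ≠ 0 := fun r => pow_ne_zero _ hc.t0
  obtain ⟨A, dA, hA⟩ : ∃ A : O[X], A.natDegree ≤ d ∧ tw (wm t m) A = F := by
    apply exists_tw dF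
    intro j hj
    obtain ⟨o, ho⟩ := hmin j m'
    rw [G1, F1, mul_one, zero_mul, sub_zero] at ho
    refine ⟨o, ?_⟩
    apply mul_left_cancel₀ (htne (j + m'))
    rw [ho, ← mul_assoc, ← pow_add]
    congr 2; omega
  obtain ⟨B, dB, hB⟩ : ∃ B : O[X], B.natDegree ≤ d ∧ tw (wm t m') B = G := by
    apply exists_tw dG
    intro j hj
    obtain ⟨o, ho⟩ := hmin m j
    rw [F0, G0, one_mul, mul_zero, sub_zero] at ho
    refine ⟨o, ?_⟩
    apply mul_left_cancel₀ (htne (m + j))
    rw [ho, ← mul_assoc, ← pow_add]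
    congr 2; omega
  have cA : ∀ j, t ^ (m - j) * A.coeff j = F.coeff j := by
    intro j; rw [← hA, coeff_tw, wm]
  have cB : ∀ j, t ^ (m' - j) * B.coeff j = G.coeff j := by
    intro j; rw [← hB, coeff_tw, wm]
  have A0 : A.coeff m = 1 := by
    have := cA m
    rwa [Nat.sub_self, pow_zero, one_mul, F0] at this
  have A1 : A.coeff m' = 0 := by
    have := cA m'
    rw [F1] at this
    exact (mul_eq_zero.1 this).resolve_left (htne _)
  have B1 : B.coeff m' = 1 := by
    have := cB m'
    rwa [Nat.sub_self, pow_zero, one_mul, G1] at this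
  -- order of `G` at `0`
  have Ga : ∀ l < a, G.coeff l = 0 := by
    obtain ⟨s, hs, hs0, hd⟩ := s0
    rw [← hVs, hVFG] at hs
    obtain ⟨x, y, rfl⟩ := Submodule.mem_span_pair.1 hs
    rw [map_zero, C_0, sub_zero, X_pow_dvd_iff] at hd
    have hx : x = 0 := by
      have h1 := hd m hm_a
      rw [coeff_add, coeff_smul, coeff_smul, coeff_map, coeff_map, F0, G0, map_one, map_zero] at h1
      simpa using h1
    subst hx
    rw [zero_smul, zero_add] at hs0 hd
    have hy : y ≠ 0 := by rintro rfl; simp at hs0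
    intro l hl
    have h1 := hd l hl
    rw [coeff_smul, coeff_map, smul_eq_mul, mul_eq_zero] at h1
    exact io_injective ((h1.resolve_left hy).trans (map_zero _).symm)
  have Ba : ∀ l < a, B.coeff l = 0 := by
    intro l hl
    have := cB l
    rw [Ga l hl] at this
    exact (mul_eq_zero.1 this).resolve_left (htne _)
  -- members of the limit
  have hGbar : ∃ g₀ ∈ Submodule.span (IsLocalRing.ResidueField O) {u₀, v₀},
      G.map (re O) = X ^ m * g₀ ∧ g₀.eval 0 = 0 := by
    have h1 : G.map (re O) ∈ Submodule.span (IsLocalRing.ResidueField O) {u, v} := by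
      rw [← hVR]; exact Submodule.subset_span (by simp)
    obtain ⟨x, y, hxy⟩ := Submodule.mem_span_pair.1 h1
    have h2 : G.map (re O) = X ^ m * (x • u₀ + y • v₀) := by
      rw [← hxy, hu₀, hv₀]; simp only [smul_eq_C_mul]; ring
    refine ⟨x • u₀ + y • v₀, Submodule.mem_span_pair.2 ⟨x, y, rfl⟩, h2, ?_⟩
    have h3 : (G.map (re O)).coeff m = 0 := by rw [coeff_map, G0, map_zero]
    rw [h2] at h3
    have h4 := coeff_X_pow_mul (x • u₀ + y • v₀) m 0
    rw [zero_add] at h4
    rw [h4, coeff_zero_eq_eval_zero] at h3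
    exact h3
  obtain ⟨g₀, hg₀, hGg₀, hg₀0⟩ := hGbar
  have hGne : G.map (re O) ≠ 0 := by
    intro h0
    have := congrArg (fun q => q.coeff m') h0
    simp only [coeff_map, G1, map_one, coeff_zero] at this
    exact one_ne_zero this
  -- the parameters `q i`
  have hq : ∀ i, ∃ q : O, (X - C (Q i)) ^ (e i) ∣ F - C q * G := by
    intro i
    obtain ⟨s, hs, hs0, hd⟩ := sQ i
    rw [← hVs, hVFG] at hs
    obtain ⟨x, y, hxy, hdv⟩ := exists_int_pow hs hs0 hd
    have hx : re O x ≠ 0 := by
      intro hx0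
      have hy : y = 1 := by
        rcases hxy with h | h
        · rw [h, map_one] at hx0
          exact absurd hx0 one_ne_zero
        · exact h
      have h1 : (X - C (re O (Q i))) ∣ G.map (re O) := by
        have h2 := Polynomial.map_dvd (re O) hdv
        rw [Polynomial.map_pow, Polynomial.map_sub, map_X, map_C, Polynomial.map_add,
          Polynomial.map_mul, Polynomial.map_mul, map_C, map_C, hx0, hy, C_0, zero_mul, zero_add,
          map_one, C_1, one_mul] at h2
        exact (dvd_pow_self _ (by have := he i; omega)).trans h2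
      have h2 := dvd_iff_isRoot.1 h1
      rw [IsRoot.def, hGg₀, eval_mul, eval_pow, eval_X, mul_eq_zero] at h2
      have h3 := h2.resolve_left (pow_ne_zero _ (hc.ne0 i))
      have h4 := hsep m hmd h2m _ hV₀ i g₀ hg₀ hg₀0 h3
      apply hGne
      rw [hGg₀, h4, mul_zero]
    have hux : IsUnit x := by
      by_contra hnu
      apply hx
      rw [IsLocalRing.residue_eq_zero_iff]
      exact hnu
    obtain ⟨w, hw⟩ := hux.exists_right_inv
    refine ⟨-(w * y), ?_⟩
    have h1 : F - C (-(w * y)) * G = C w * (C x * F + C y * G) := by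
      have hwC : (C x * C w : O[X]) = 1 := by rw [← C_mul, hw, C_1]
      rw [C_neg, C_mul]
      linear_combination (-F) * hwC
    rw [h1]
    exact Dvd.dvd.mul_left hdv _
  choose q hq using hq
  -- the parameter `r`
  have hbF : (tw (wb t m) A).map (re O) = tw (wb 0 m) (A.map (re O)) := by
    rw [map_tw, map_wb, hc.rt]
  have hbFm : ((tw (wb t m) A).map (re O)).coeff m = 1 := by
    rw [hbF, coeff_tw_wb_zero, if_pos le_rfl, coeff_map, A0, map_one]
  have hbFd : ((tw (wb t m) A).map (re O)).natDegree ≤ m := by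
    rw [hbF]; exact natDegree_tw_wb _ _
  have hr : ∃ r : O, (X - C 1) ^ b ∣ tw (wb t m') B + C r * tw (wb t m) A := by
    obtain ⟨s, hs, hs0, hd⟩ := st
    rw [← hVs, hVFG] at hs
    obtain ⟨x, y, hxy⟩ := Submodule.mem_span_pair.1 hs
    have htK := hc.tK
    have h1 : s.comp (C (io O t) * X) = (x * (io O t) ^ m) • (tw (wb t m) A).map (io O) +
        (y * (io O t) ^ m') • (tw (wb t m') B).map (io O) := by
      rw [← hxy, add_comp, smul_comp, smul_comp, ← hA, ← hB, map_tw, map_tw, map_wm, map_wm,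
        comp_tw_wm, comp_tw_wm, map_tw, map_tw, map_wb, map_wb]
      simp only [smul_eq_C_mul, C_mul]
      ring
    have h2 : s.comp (C (io O t) * X) ∈ Submodule.span K
        {(tw (wb t m) A).map (io O), (tw (wb t m') B).map (io O)} :=
      Submodule.mem_span_pair.2 ⟨_, _, h1.symm⟩
    have h3 : (X - C (io O 1)) ^ b ∣ s.comp (C (io O t) * X) := by
      rw [map_one, dvd_comp_iff htK, mul_one]; exact hd
    obtain ⟨x', y', hxy', hdv⟩ := exists_int_pow h2 (comp_ne_zero htK hs0) h3
    have hy : re O y' ≠ 0 := by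
      intro hy0
      have hx : x' = 1 := by
        rcases hxy' with h | h
        · exact h
        · rw [h, map_one] at hy0
          exact absurd hy0 one_ne_zero
      have h4 := Polynomial.map_dvd (re O) hdv
      rw [Polynomial.map_pow, Polynomial.map_sub, map_X, map_C, Polynomial.map_add,
        Polynomial.map_mul, Polynomial.map_mul, map_C, map_C, hy0, hx, C_0, zero_mul, add_zero,
        map_one, C_1, one_mul] at h4
      have h5 : (tw (wb t m) A).map (re O) ≠ 0 := by
        intro h0
        rw [h0, coeff_zero] at hbFm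
        exact zero_ne_one hbFm
      have h6 := natDegree_le_of_dvd h4 h5
      rw [natDegree_pow, ← C_1, natDegree_X_sub_C, mul_one] at h6
      omega
    have huy : IsUnit y' := by
      by_contra hnu
      apply hy
      rw [IsLocalRing.residue_eq_zero_iff]
      exact hnu
    obtain ⟨w, hw⟩ := huy.exists_right_inv
    refine ⟨w * x', ?_⟩
    have h4 : tw (wb t m') B + C (w * x') * tw (wb t m) A =
        C w * (C x' * tw (wb t m) A + C y' * tw (wb t m') B) := by
      have hwC : (C y' * C w : O[X]) = 1 := by rw [← C_mul, hw, C_1]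
      rw [C_mul]
      linear_combination (-tw (wb t m') B) * hwC
    rw [h4]
    exact Dvd.dvd.mul_left hdv _
  obtain ⟨r, hr⟩ := hr
  -- assemble
  let z : Var n d → O := mkO A B q r
  have zA : pA z = A := pA_mkO dA
  have zB : pB z = B := pB_mkO dB
  have zF : FO m t z = F := by rw [FO, zA, hA]
  have zG : GO m' t z = G := by rw [GO, zB, hB]
  have zAK : pA (fun i => io O (z i)) = A.map (io O) := by rw [← map_pA, zA]
  have zBK : pB (fun i => io O (z i)) = B.map (io O) := by rw [← map_pB, zB]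
  refine ⟨m, z, u₀, v₀, hm_a, hm_b, hmd, ?_, ?_, hV₀, ?_⟩
  · apply OSol.of_toK
    refine ⟨?_, ?_, ?_, ?_, ?_, ?_⟩
    · rw [zAK, coeff_map, A0, map_one]
    · rw [zAK, coeff_map, A1, map_zero]
    · rw [zBK, coeff_map, B1, map_one]
    · intro l hl
      rw [zBK, coeff_map, Ba l hl, map_zero]
    · intro i
      rw [← map_FO, ← map_GO, zF, zG]
      have h1 := Polynomial.map_dvd (io O) (hq i)
      rw [Polynomial.map_pow, Polynomial.map_sub, map_X, map_C, Polynomial.map_sub,
        Polynomial.map_mul, map_C] at h1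
      exact h1
    · have h1 := Polynomial.map_dvd (io O) hr
      rw [Polynomial.map_pow, Polynomial.map_sub, map_X, map_C, Polynomial.map_add,
        Polynomial.map_mul, map_C, map_tw, map_tw, map_wb, map_wb, map_one] at h1
      show (X - C 1) ^ b ∣ tw _ (pB _) + C (io O r) * tw _ (pA _)
      rw [zAK, zBK]
      exact h1
  · rw [pen, zF, zG]; exact hVFG
  · rw [zF, zG, hVR, hu₀, hv₀]

end K807.LimitD
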