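import Groth.Agent.W4c1limliniiii.K807.LimitB

/-!
# At generic points there is no separable pair with a large degree gap
-/

set_option autoImplicit false
set_option linter.style.haveILetI false
set_option linter.unusedSectionVars false
universe u

open Polynomial

namespace K807.NoBig

open K807.Wr K807.Pencil K807.Bound K807.Normal K807.Rigid K807.Gen W4c1limliniiii

theorem no_big_monic {k κ : Type u} [Field k] [Field κ] [IsAlgClosed κ] [Algebra k κ] {p : ℕ}
    [Fact p.Prime] [CharP κ p] {N : ℕ} {P : Fin N → κ} (hP : AlgebraicIndependent k P)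
    {e : Fin N → ℕ} (he : ∀ i, 1 ≤ e i) (hlt : ∀ i, e i < p) {α β : ℕ}
    (hsum : (∑ i, e i) + 1 = α + β + N) (hβ : β + p < α) {F G : κ[X]} (mF : F.Monic)
    (mG : G.Monic) (dF : F.natDegree = α) (dG : G.natDegree = β) (hW : wronskian F G ≠ 0)
    (hs : ∀ i, ∃ s ∈ Submodule.span κ {F, G}, s ≠ 0 ∧ (X - C (P i)) ^ (e i) ∣ s) : False := by
  let E := FractionRing κ[X]
  let ψ : κ →+* E := (algebraMap κ[X] E).comp C
  let lam : E := algebraMap κ[X] E X
  have hψ : ∀ x, ψ x = algebraMap κ E x := fun x => rfl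
  haveI hp : CharP E p := charP_of_injective_ringHom ψ.injective p
  have hp0 : 0 < p := (Fact.out : p.Prime).pos
  have cF : F.coeff α = 1 := by have := mF.coeff_natDegree; rwa [dF] at this
  have cG : G.coeff β = 1 := by have := mG.coeff_natDegree; rwa [dG] at this
  set Fψ := F.map ψ with hFψ
  set Gψ := G.map ψ with hGψ
  have dFψ : Fψ.natDegree = α := by rw [hFψ, natDegree_map, dF]
  have dGψ : Gψ.natDegree = β := by rw [hGψ, natDegree_map, dG]
  have mFψ : Fψ.Monic := mF.map _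
  have mGψ : Gψ.Monic := mG.map _
  set γ : E := (Fψ + C lam * X ^ p * Gψ).coeff β with hγ
  set H : E[X] := C lam * X ^ p * Gψ - C γ * Gψ with hH
  have dH : H.natDegree ≤ β + p := by
    refine (natDegree_sub_le _ _).trans (max_le ?_ ?_)
    · refine natDegree_mul_le.trans ?_
      have : (C lam * X ^ p : E[X]).natDegree ≤ p := natDegree_C_mul_X_pow_le _ _
      omega
    · refine (natDegree_C_mul_le _ _).trans ?_
      omega
  set F₂ := Fψ + H with hF₂
  have hdeg : H.degree < Fψ.degree := by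
    rw [degree_eq_natDegree mFψ.ne_zero]
    refine lt_of_le_of_lt degree_le_natDegree ?_
    rw [dFψ]
    exact_mod_cast (by omega : H.natDegree < α)
  have mF₂ : F₂.Monic := mFψ.add_of_left hdeg
  have dF₂ : F₂.natDegree = α := by
    rw [hF₂, natDegree_add_eq_left_of_degree_lt hdeg, dFψ]
  -- Wronskian
  have hder : derivative (C lam * X ^ p : E[X]) = 0 := by
    rw [derivative_C_mul, derivative_X_pow, CharP.cast_eq_zero, C_0, zero_mul, mul_zero]
  have hWψ : wronskian Fψ Gψ ≠ 0 := by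
    rw [hFψ, hGψ, ← Normal.map_wronskian]
    exact (Polynomial.map_ne_zero_iff ψ.injective).2 hW
  have hW₂ : wronskian F₂ Gψ = wronskian Fψ Gψ := by
    have h1 : H = (C lam * X ^ p - C γ) * Gψ := by rw [hH]; ring
    have h2 : derivative (C lam * X ^ p - C γ : E[X]) = 0 := by
      rw [derivative_sub, hder, derivative_C, sub_zero]
    rw [hF₂, h1]
    simp only [wronskian, derivative_add, derivative_mul (f := (C lam * X ^ p - C γ : E[X])), h2]
    ring
  -- coprimality
  have hWeq := wr_eq hP.injective he hsum dF.le dG.le hs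
  rw [cF, cG, mul_one, mul_one] at hWeq
  have hc : ((β : κ) - (α : κ)) ≠ 0 := by
    intro h0
    rw [h0, C_0, zero_mul] at hWeq
    exact hW hWeq
  have hcop : IsCoprime F G := by
    rw [Polynomial.isCoprime_iff_aeval_ne_zero_of_isAlgClosed κ κ]
    intro a
    obtain ⟨s, hs', hsa⟩ := exists_eval_ne_zero hP.injective he hc hWeq hs a
    by_contra hcon
    push Not at hcon
    obtain ⟨x, y, rfl⟩ := Submodule.mem_span_pair.1 hs'
    apply hsa
    have h1 := hcon.1
    have h2 := hcon.2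
    rw [coe_aeval_eq_eval] at h1 h2
    simp [h1, h2]
  have hcop₂ : IsCoprime F₂ Gψ := by
    have h1 : IsCoprime Fψ Gψ := (Polynomial.isCoprime_map ψ).2 hcop
    have h2 : F₂ = Fψ + (C lam * X ^ p - C γ) * Gψ := by rw [hF₂, hH]; ring
    rw [h2]
    exact h1.add_mul_right_left _
  have hli₂ : LinearIndependent E ![F₂, Gψ] := linInd_of_wr (by rw [hW₂]; exact hWψ)
  -- the normalised pair
  have hNP : NP (fun i => ψ (P i)) e α β F₂ Gψ := by
    refine ⟨mF₂, mGψ, dF₂, dGψ, by omega, ?_, hcop₂, by rw [hW₂]; exact hWψ, ?_⟩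
    · have h1 : F₂ = (Fψ + C lam * X ^ p * Gψ) - C γ * Gψ := by rw [hF₂, hH]; ring
      have h2 : Gψ.coeff β = 1 := by rw [hGψ, coeff_map, cG, map_one]
      rw [h1, coeff_sub, coeff_C_mul, h2, mul_one, ← hγ, sub_self]
    · intro i
      obtain ⟨s, hs', hs0, hd⟩ := hs i
      obtain ⟨x, y, rfl⟩ := Submodule.mem_span_pair.1 hs'
      have hxy : x ≠ 0 ∨ y ≠ 0 := by
        by_contra h
        push Not at h
        rw [h.1, h.2, zero_smul, zero_smul, add_zero] at hs0
        exact hs0 rfl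
      refine ⟨ψ x • F₂ + (ψ y - ψ x * (lam * (ψ (P i)) ^ p - γ)) • Gψ,
        Submodule.mem_span_pair.2 ⟨_, _, rfl⟩, ?_, ?_⟩
      · intro h0
        obtain ⟨h1, h2⟩ := LinearIndependent.pair_iff.1 hli₂ _ _ h0
        rw [h1, zero_mul, sub_zero] at h2
        rcases hxy with h | h
        · exact h ((map_eq_zero ψ).1 h1)
        · exact h ((map_eq_zero ψ).1 h2)
      · have h1 : ψ x • F₂ + (ψ y - ψ x * (lam * (ψ (P i)) ^ p - γ)) • Gψ =
            (x • F + y • G).map ψ + C (ψ x * lam) * (X ^ p - C ((ψ (P i)) ^ p)) * Gψ := by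
          rw [Polynomial.map_add, Polynomial.map_smul, Polynomial.map_smul, ← hFψ, ← hGψ, hF₂, hH]
          simp only [smul_eq_C_mul, C_mul, C_sub]
          ring
        rw [h1]
        have h2 : (X - C (ψ (P i))) ^ (e i) ∣ (x • F + y • G).map ψ := by
          have := Polynomial.map_dvd ψ hd
          rwa [Polynomial.map_pow, Polynomial.map_sub, map_X, map_C] at this
        have h3 : (X - C (ψ (P i))) ^ (e i) ∣ (X ^ p - C ((ψ (P i)) ^ p) : E[X]) := by
          have h4 := Flip.pow_dvd_sub (p := p) (0 : E) (ψ (P i))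
          rw [C_0, sub_zero, sub_zero] at h4
          exact (pow_dvd_pow _ (hlt i).le).trans h4
        exact dvd_add h2 (Dvd.dvd.mul_right (Dvd.dvd.mul_left h3 _) _)
  -- apply the structure theorem over `k`
  have hkE : ∀ r : k, algebraMap k E r = ψ (algebraMap k κ r) := by
    intro r
    rw [hψ, ← IsScalarTower.algebraMap_apply k κ E]
  let ψk : κ →ₐ[k] E := { ψ with commutes' := fun r => (hkE r).symm }
  have hP' : AlgebraicIndependent k (fun i => ψ (P i)) := by
    have : AlgebraicIndependent k (ψk ∘ P) := hP.map' (f := ψk) ψ.injective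
    exact this
  haveI hpk : CharP k p := by
    have h1 : Function.Injective (algebraMap k κ) := (algebraMap k κ).injective
    exact (RingHom.charP_iff (algebraMap k κ) h1 p).2 inferInstance
  have heK : ∀ i, (e i : k) ≠ 0 := by
    intro i h0
    rw [CharP.cast_eq_zero_iff k p] at h0
    exact absurd (Nat.le_of_dvd (he i) h0) (by have := hlt i; omega)
  obtain ⟨-, -, halg, -⟩ := NP.generic hNP hP' he heK hsum
  obtain ⟨q, hq0, hq⟩ := halg (β + p)
  have hcoef : F₂.coeff (β + p) = algebraMap κ[X] E (X + C (F.coeff (β + p))) := by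
    have e1 : Gψ.coeff (β + p) = 0 := coeff_eq_zero_of_natDegree_lt (by omega)
    have e2 : (C lam * X ^ p * Gψ).coeff (β + p) = lam := by
      rw [mul_assoc, coeff_C_mul, coeff_X_pow_mul, hGψ, coeff_map, cG, map_one, mul_one]
    rw [hF₂, hH, coeff_add, coeff_sub, coeff_C_mul, e1, e2, mul_zero, sub_zero, hFψ, coeff_map,
      map_add, add_comm]
    rfl
  have hcomp : (MvPolynomial.aeval (fun i => ψ (P i)) : MvPolynomial (Fin N) k →ₐ[k] E).toRingHom =
      ψ.comp (MvPolynomial.aeval P : MvPolynomial (Fin N) k →ₐ[k] κ).toRingHom := by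
    apply MvPolynomial.ringHom_ext
    · intro r
      show MvPolynomial.aeval _ (MvPolynomial.C r) = ψ (MvPolynomial.aeval P (MvPolynomial.C r))
      rw [MvPolynomial.aeval_C, MvPolynomial.aeval_C, hkE]
    · intro i
      show MvPolynomial.aeval _ (MvPolynomial.X i) = ψ (MvPolynomial.aeval P (MvPolynomial.X i))
      rw [MvPolynomial.aeval_X, MvPolynomial.aeval_X]
  rw [hcomp, hcoef] at hq
  have hq1 : (q.map (MvPolynomial.aeval P : MvPolynomial (Fin N) k →ₐ[k] κ).toRingHom).comp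
      (X + C (F.coeff (β + p))) = 0 := by
    apply IsFractionRing.injective κ[X] E
    rw [map_zero, ← hq, comp, hom_eval₂, eval₂_map]
  have hq2 : q.map (MvPolynomial.aeval P : MvPolynomial (Fin N) k →ₐ[k] κ).toRingHom = 0 := by
    apply taylor_injective (F.coeff (β + p))
    rw [taylor_apply, hq1, map_zero]
  rw [Polynomial.map_eq_zero_iff (show Function.Injective _ from hP)] at hq2
  exact hq0 hq2

theorem no_big {k κ : Type u} [Field k] [Field κ] [IsAlgClosed κ] [Algebra k κ] {p : ℕ}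
    [Fact p.Prime] [CharP κ p] {N : ℕ} {P : Fin N → κ} (hP : AlgebraicIndependent k P)
    {e : Fin N → ℕ} (he : ∀ i, 1 ≤ e i) (hlt : ∀ i, e i < p)
    {F G : κ[X]} (hsum : (∑ i, e i) + 1 = F.natDegree + G.natDegree + N)
    (hβ : G.natDegree + p < F.natDegree) (hW : wronskian F G ≠ 0)
    (hs : ∀ i, ∃ s ∈ Submodule.span κ {F, G}, s ≠ 0 ∧ (X - C (P i)) ^ (e i) ∣ s) : False := by
  have hF : F ≠ 0 := by rintro rfl; exact hW (wronskian_zero_left _)
  have hG : G ≠ 0 := by rintro rfl; exact hW (wronskian_zero_right _)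
  have lF : F.leadingCoeff⁻¹ ≠ 0 := inv_ne_zero (leadingCoeff_ne_zero.2 hF)
  have lG : G.leadingCoeff⁻¹ ≠ 0 := inv_ne_zero (leadingCoeff_ne_zero.2 hG)
  refine no_big_monic (F := F.leadingCoeff⁻¹ • F) (G := G.leadingCoeff⁻¹ • G) hP he hlt hsum hβ
    ?_ ?_ ?_ ?_ ?_ ?_
  · rw [smul_eq_C_mul]
    apply monic_C_mul_of_mul_leadingCoeff_eq_one
    exact inv_mul_cancel₀ (leadingCoeff_ne_zero.2 hF)
  · rw [smul_eq_C_mul]
    apply monic_C_mul_of_mul_leadingCoeff_eq_one
    exact inv_mul_cancel₀ (leadingCoeff_ne_zero.2 hG)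
  · rw [smul_eq_C_mul, natDegree_C_mul lF]
  · rw [smul_eq_C_mul, natDegree_C_mul lG]
  · rw [wr_smul_left, wr_smul_right]
    exact smul_ne_zero lF (smul_ne_zero lG hW)
  · rw [Flip.span_smul_pair lF lG]
    exact hs

/-- the degenerate configuration: points `Qb i` and a double point at `0` -/
theorem no_big_collision {k κ : Type u} [Field k] [Field κ] [IsAlgClosed κ] [Algebra k κ] {p : ℕ}
    [Fact p.Prime] [CharP κ p] {n d a b : ℕ} {Qb : Fin n → κ} {ρ : κ}
    (hP : AlgebraicIndependent k (fun i => (Fin.snoc Qb 0 : Fin (n + 1) → κ) i + ρ))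
    {e : Fin n → ℕ} (he : ∀ i, 1 ≤ e i) (hlt : ∀ i, e i < p) (ha : 1 ≤ a) (hb : 1 ≤ b)
    (hab : a + b ≤ p) (hsum : (∑ i, e i) + a + b = 2 * d + n) {u v : κ[X]}
    (hdeg : u.natDegree + v.natDegree + 1 = 2 * d)
    (hβ : v.natDegree + p < u.natDegree) {c : κ} (hc : c ≠ 0)
    (hW : wronskian u v = C c * ((∏ i, (X - C (Qb i)) ^ (e i - 1)) * X ^ (a + b - 2)))
    (hsch : ∀ i, ∃ s ∈ Submodule.span κ {u, v}, s ≠ 0 ∧ (X - C (Qb i)) ^ (e i) ∣ s) : False := by
  have hQ0 : ∀ i, Qb i ≠ 0 := by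
    intro i h0
    have h1 := hP.injective (a₁ := Fin.castSucc i) (a₂ := Fin.last n) (by
      show (Fin.snoc Qb 0 : Fin (n + 1) → κ) i.castSucc + ρ =
        (Fin.snoc Qb 0 : Fin (n + 1) → κ) (Fin.last n) + ρ
      rw [Fin.snoc_castSucc, Fin.snoc_last, h0])
    exact (Fin.castSucc_lt_last i).ne h1
  obtain ⟨m, u₀, v₀, hu, hv, -, h2m, hW0, hW₀, hsch₀⟩ :=
    LimitB.exists_order p (Or.inr hab) hQ0 ha hb hc hW hsch
  have hu₀ : u₀ ≠ 0 := by rintro rfl; exact hW0 (wronskian_zero_left _)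
  have hv₀ : v₀ ≠ 0 := by rintro rfl; exact hW0 (wronskian_zero_right _)
  have du : u.natDegree = m + u₀.natDegree := by
    rw [hu, natDegree_mul (pow_ne_zero _ X_ne_zero) hu₀, natDegree_X_pow]
  have dv : v.natDegree = m + v₀.natDegree := by
    rw [hv, natDegree_mul (pow_ne_zero _ X_ne_zero) hv₀, natDegree_X_pow]
  refine no_big (e := (Fin.snoc e (a + b - 1 - 2 * m) : Fin (n + 1) → ℕ))
    (F := taylor (-ρ) u₀) (G := taylor (-ρ) v₀) hP ?_ ?_ ?_ ?_ ?_ ?_
  · rw [Family.forall_snoc]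
    exact ⟨fun i => by rw [Fin.snoc_castSucc]; exact he i, by rw [Fin.snoc_last]; omega⟩
  · rw [Family.forall_snoc]
    exact ⟨fun i => by rw [Fin.snoc_castSucc]; exact hlt i, by rw [Fin.snoc_last]; omega⟩
  · rw [Fin.sum_snoc, natDegree_taylor, natDegree_taylor]
    omega
  · rw [natDegree_taylor, natDegree_taylor]
    omega
  · rw [wronskian_taylor, Ne, taylor_eq_zero]
    exact hW0
  · intro i
    obtain ⟨s, hs, hs0, hd⟩ := hsch₀ i
    obtain ⟨x, y, rfl⟩ := Submodule.mem_span_pair.1 hs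
    refine ⟨taylor (-ρ) (x • u₀ + y • v₀), ?_, ?_, ?_⟩
    · rw [map_add, map_smul, map_smul]
      exact Submodule.mem_span_pair.2 ⟨_, _, rfl⟩
    · rwa [Ne, taylor_eq_zero]
    · have h1 := (dvd_taylor_iff (-ρ) ((Fin.snoc Qb 0 : Fin (n + 1) → κ) i)
        ((Fin.snoc e (a + b - 1 - 2 * m) : Fin (n + 1) → ℕ) i) (x • u₀ + y • v₀)).2 hd
      rwa [sub_neg_eq_add] at h1

end K807.NoBig
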