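import Groth.Agent.W4c1limliniiii.K807.GenVal
import Groth.Agent.W4c1limliniiii.K807.NoBig

/-!
# Assembly: rigidity at generic points and the recursion for the counts
-/

set_option autoImplicit false
set_option linter.style.haveILetI false
set_option linter.unusedSectionVars false
universe u

open Polynomial

namespace K807.MainA

open K807.Wr K807.Pencil K807.Bound K807.Normal K807.Rigid K807.Chart K807.Bubble K807.Special
open K807.Family K807.LimitA K807.LimitB K807.LimitC K807.LimitD K807.RigidK K807.Corr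
open K807.Count K807.GenCount W4c1limliniiii

/-- the dichotomy for limits of pencils in characteristic `p` -/
def MbarProp (p : ℕ) : Prop :=
  ∀ (K : Type u) [Field K] [IsAlgClosed K] [CharP K p] (O : ValuationSubring K) (d : ℕ), 1 ≤ d →
    ∀ (F G : K[X]), F.natDegree = d → G.natDegree = d - 1 →
    ∀ (T : O[X]), T.Monic → T.natDegree = 2 * d - 2 → ∀ c : K, c ≠ 0 →
    wronskian F G = C c * T.map (io O) → ∀ f g : O[X],
    Submodule.span K {f.map (io O), g.map (io O)} = Submodule.span K {F, G} →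
    LinearIndependent (IsLocalRing.ResidueField O) ![f.map (re O), g.map (re O)] →
    wronskian (f.map (re O)) (g.map (re O)) ≠ 0 ∨
    ∃ u v : (IsLocalRing.ResidueField O)[X], v.natDegree + p < u.natDegree ∧
      u.natDegree + v.natDegree + 1 = 2 * d ∧
      (∃ c' : IsLocalRing.ResidueField O, c' ≠ 0 ∧ wronskian u v = C c' * T.map (re O)) ∧
      ∀ (P : O) (m : ℕ), m ≤ p →
        (∃ s ∈ Submodule.span K {F, G}, s ≠ 0 ∧ (X - C (io O P)) ^ m ∣ s) →
        ∃ s ∈ Submodule.span (IsLocalRing.ResidueField O) {u, v}, s ≠ 0 ∧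
          (X - C (re O P)) ^ m ∣ s

section RedSep

variable {K : Type u} [Field K] [IsAlgClosed K] {O : ValuationSubring K}
variable {n d a b : ℕ} {e : Fin n → ℕ} {Q : Fin n → O} {t : O}

/-- separability of the limit in characteristic zero -/
theorem redSep_zero [CharP (IsLocalRing.ResidueField O) 0] : RedSep d Q t e a b := by
  intro V hV f g c hVs df dg hli hW hc0
  have h1 : wronskian (f.map (re O)) (g.map (re O)) ≠ 0 :=
    (isSeparable_iff rfl).1 (Sep.isSeparable_of_lt 0 (Or.inl rfl)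
      (le_degreeLE_of (natDegree_map_le.trans df) (natDegree_map_le.trans dg))
      (finrank_span_pair hli))
  apply h1
  rw [← Normal.map_wronskian, hW, Polynomial.map_mul, map_C, hc0, C_0, zero_mul]

/-- separability of the limit in positive characteristic -/
theorem redSep_pos {k : Type u} [Field k] [Algebra k (IsLocalRing.ResidueField O)] {p : ℕ}
    [Fact p.Prime] [CharP K p] [CharP (IsLocalRing.ResidueField O) p] (hMb : MbarProp.{u} p)
    (hab : a + b ≤ p) (hc : Conf O Q t) (he : ∀ i, 1 ≤ e i) (hlt : ∀ i, e i < p)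
    (ha : 1 ≤ a) (hb : 1 ≤ b) (hsum : (∑ i, e i) + a + b = 2 * d + n)
    {ρ : IsLocalRing.ResidueField O}
    (hP : AlgebraicIndependent k (fun i => ptsR Q i + ρ)) : RedSep d Q t e a b := by
  intro V hV f g c hVs df dg hli hW hc0
  haveI := HenselN.residue_isAlgClosed O
  have hd : (∑ i, ind e a b i) + 2 = 2 * d + (n + 2) := by rw [sum_ind]; omega
  have hd1 : 1 ≤ d := one_le_of_sum (ind_pos he ha hb) hd
  obtain ⟨F, G, hNP, hFG⟩ := exists_np hc.ptsK_injective (ind_pos he ha hb) hd hV
  obtain ⟨hW1, hW2⟩ := hNP.wr hc.ptsK_injective (ind_pos he ha hb) (by omega)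
  have dT : (TO Q t e a b).natDegree = 2 * d - 2 := by
    rw [← natDegree_map_eq_of_injective io_injective, TO_mapK, natDegree_prod_pow]
    have h1 : ∑ i, (ind e a b i - 1) + (n + 2) = ∑ i, ind e a b i := by
      have : ∑ i, (ind e a b i - 1) + ∑ _i : Fin (n + 2), 1 = ∑ i, ind e a b i := by
        rw [← Finset.sum_add_distrib]
        exact Finset.sum_congr rfl (fun i _ => Nat.sub_add_cancel (ind_pos he ha hb i))
      simpa using this
    omega
  have hsch := schubert_of_mem hV hFG
  rcases hMb K O d hd1 F G hNP.dF hNP.dG (TO Q t e a b) TO_monic dT _ hW2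
    (by rw [hW1, TO_mapK]) f g (by rw [← hVs, ← hFG]) hli with h | ⟨u, v, huv, hdeg, ⟨c', hc', hWuv⟩, hs⟩
  · apply h
    rw [← Normal.map_wronskian, hW, Polynomial.map_mul, map_C, hc0, C_0, zero_mul]
  · rw [TO_mapR hc.rt ha hb] at hWuv
    refine NoBig.no_big_collision (k := k) (p := p) (Qb := fun i => re O (Q i)) (ρ := ρ) hP he hlt
      ha hb hab hsum hdeg huv hc' hWuv ?_
    intro i
    refine hs (Q i) (e i) (hlt i).le ?_
    have := hsch (Fin.castSucc (Fin.castSucc i))
    rwa [ind, ptsK, Fin.snoc_castSucc, Fin.snoc_castSucc, Fin.snoc_castSucc,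
      Fin.snoc_castSucc] at this

end RedSep

/-- rigidity at all configurations of `N` generic points -/
def RigAll (k : Type u) [Field k] (p N : ℕ) : Prop :=
  ∀ (K : Type u) [Field K] [IsAlgClosed K] [Algebra k K] (P : Fin N → K),
    AlgebraicIndependent k P → ∀ (e : Fin N → ℕ) (d : ℕ), (∀ i, 1 ≤ e i) →
    (∀ i, p = 0 ∨ e i < p) → (∑ i, e i) + 2 = 2 * d + N → ∀ V ∈ ramMaps d P e, Rigid d P e V

theorem cast_ne {k : Type*} [Field k] (p : ℕ) [CharP k p] {m : ℕ} (h1 : 1 ≤ m)
    (h2 : p = 0 ∨ m < p) : (m : k) ≠ 0 := by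
  intro h3
  rw [CharP.cast_eq_zero_iff k p] at h3
  rcases h2 with rfl | h2
  · rw [zero_dvd_iff] at h3; omega
  · exact absurd (Nat.le_of_dvd h1 h3) (by omega)

section Gen

variable {k : Type u} [Field k] {p : ℕ} [CharP k p]

section Residue

variable {K : Type u} [Field K] [IsAlgClosed K] {O : ValuationSubring K}
variable {n d a b : ℕ} {e : Fin n → ℕ} {Q : Fin n → O}
variable [Algebra k (IsLocalRing.ResidueField O)] {ρ : IsLocalRing.ResidueField O}

theorem ptsR_add_sub (ρ : IsLocalRing.ResidueField O) :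
    (fun i => ptsR Q i + ρ - ρ) = ptsR Q := by
  funext i; ring

theorem ptsR_injective (hP : AlgebraicIndependent k (fun i => ptsR Q i + ρ)) :
    Function.Injective (ptsR Q) := by
  intro i j hij
  exact hP.injective (show ptsR Q i + ρ = ptsR Q j + ρ by rw [hij])

theorem snoc_pos {c : ℕ} (he : ∀ i, 1 ≤ e i) (hc : 1 ≤ c) :
    ∀ i, 1 ≤ (Fin.snoc e c : Fin (n + 1) → ℕ) i := by
  rw [forall_snoc]
  exact ⟨fun i => by rw [Fin.snoc_castSucc]; exact he i, by rw [Fin.snoc_last]; exact hc⟩

theorem snoc_lt {c : ℕ} (he : ∀ i, p = 0 ∨ e i < p) (hc : p = 0 ∨ c < p) :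
    ∀ i, p = 0 ∨ (Fin.snoc e c : Fin (n + 1) → ℕ) i < p := by
  rw [forall_snoc]
  exact ⟨fun i => by rw [Fin.snoc_castSucc]; exact he i, by rw [Fin.snoc_last]; exact hc⟩

theorem sum_snoc_eq {c m : ℕ} (hsum : (∑ i, e i) + a + b = 2 * d + n) (hmd : m ≤ d)
    (hm : 2 * m + 2 ≤ a + b) (hc : c = a + b - 1 - 2 * m) :
    (∑ i, (Fin.snoc e c : Fin (n + 1) → ℕ) i) + 2 = 2 * (d - m) + (n + 1) := by
  rw [Fin.sum_snoc]; omega

/-- the translated pencil is in the generic configuration -/
theorem map_mem {V₀ : Submodule (IsLocalRing.ResidueField O) (IsLocalRing.ResidueField O)[X]}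
    (hP : AlgebraicIndependent k (fun i => ptsR Q i + ρ)) {e' : Fin (n + 1) → ℕ} {d' : ℕ}
    (he' : ∀ i, 1 ≤ e' i) (hd' : (∑ i, e' i) + 2 = 2 * d' + (n + 1))
    (hV₀ : V₀ ∈ ramMaps d' (ptsR Q) e') :
    V₀.map (taylor (-ρ)) ∈ ramMaps d' (fun i => ptsR Q i + ρ) e' := by
  have := translate_mem (ptsR_injective hP) he' hd' hV₀ (-ρ)
  simpa only [sub_neg_eq_add] using this

theorem sepR (hpab : p = 0 ∨ a + b ≤ p) (he : ∀ i, 1 ≤ e i) (hlt : ∀ i, p = 0 ∨ e i < p)
    (hsum : (∑ i, e i) + a + b = 2 * d + n)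
    (hP : AlgebraicIndependent k (fun i => ptsR Q i + ρ)) : SepR O d Q e a b := by
  intro m hmd h2m V₀ hV₀ i s hs h0 hi
  haveI := HenselN.residue_isAlgClosed O
  have he' := snoc_pos (c := a + b - 1 - 2 * m) he (by omega)
  have hlt' : ∀ i, p = 0 ∨ (Fin.snoc e (a + b - 1 - 2 * m) : Fin (n + 1) → ℕ) i < p :=
    snoc_lt hlt (by omega)
  have hd' := sum_snoc_eq (c := a + b - 1 - 2 * m) hsum hmd h2m rfl
  have h1 := map_mem hP he' hd' hV₀
  have h2 := separate hP he' (fun i => cast_ne p (he' i) (hlt' i)) hd' h1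
    (i := Fin.last n) (j := Fin.castSucc i) (Fin.castSucc_lt_last i).ne'
    (s := taylor (-ρ) s) ⟨s, hs, rfl⟩ (by
      rw [taylor_eval, ptsR, Fin.snoc_last]; simpa using h0) (by
      rw [taylor_eval, ptsR, Fin.snoc_castSucc]; simpa using hi)
  rwa [taylor_eq_zero] at h2

theorem rigR (hR : RigAll k p (n + 1)) (hpab : p = 0 ∨ a + b ≤ p) (he : ∀ i, 1 ≤ e i)
    (hlt : ∀ i, p = 0 ∨ e i < p) (hsum : (∑ i, e i) + a + b = 2 * d + n)
    (hP : AlgebraicIndependent k (fun i => ptsR Q i + ρ)) : RigR O d Q e a b := by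
  intro m hmd h2m V₀ hV₀
  haveI := HenselN.residue_isAlgClosed O
  have he' := snoc_pos (c := a + b - 1 - 2 * m) he (by omega)
  have hlt' : ∀ i, p = 0 ∨ (Fin.snoc e (a + b - 1 - 2 * m) : Fin (n + 1) → ℕ) i < p :=
    snoc_lt hlt (by omega)
  have hd' := sum_snoc_eq (c := a + b - 1 - 2 * m) hsum hmd h2m rfl
  have h1 := hR _ _ hP _ _ he' hlt' hd' _ (map_mem hP he' hd' hV₀)
  have h2 := Rigid.of_translate (P := ptsR Q) (e := (Fin.snoc e (a + b - 1 - 2 * m) :
    Fin (n + 1) → ℕ)) (d := d - m) (V := V₀) (-ρ)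
  simp only [sub_neg_eq_add] at h2
  exact h2 h1

theorem card_R (hP : AlgebraicIndependent k (fun i => ptsR Q i + ρ)) {e' : Fin (n + 1) → ℕ} {d' : ℕ}
    (he' : ∀ i, 1 ≤ e' i) (hd' : (∑ i, e' i) + 2 = 2 * d' + (n + 1)) :
    Nat.card (ramMaps d' (ptsR Q) e') = Nat.card (ramMaps d' (fun i => ptsR Q i + ρ) e') := by
  have := card_translate (ptsR_injective hP) he' hd' (-ρ)
  simpa only [sub_neg_eq_add] using this

theorem finite_R (hP : AlgebraicIndependent k (fun i => ptsR Q i + ρ)) {e' : Fin (n + 1) → ℕ}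
    {d' : ℕ} (he' : ∀ i, 1 ≤ e' i) (hlt' : ∀ i, p = 0 ∨ e' i < p)
    (hd' : (∑ i, e' i) + 2 = 2 * d' + (n + 1)) : (ramMaps d' (ptsR Q) e').Finite := by
  haveI := HenselN.residue_isAlgClosed O
  have h1 := ramMaps_finite hP he' (fun i => cast_ne p (he' i) (hlt' i)) hd'
  refine Set.Finite.of_injOn (f := fun V => V.map (taylor (-ρ)))
    (fun V hV => map_mem hP he' hd' hV) ?_ h1
  intro V _ V' _ h
  have h2 := congrArg (fun W => W.map (taylor (-(-ρ)))) h
  simp only [map_map_taylor] at h2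
  exact h2

end Residue

variable {K : Type u} [Field K] [IsAlgClosed K] [Algebra k K]

/-- **One step, small indices**: rigidity and the count at `n + 2` generic points. -/
theorem step_small (hMb : p ≠ 0 → MbarProp.{u} p) {n : ℕ} (hR : RigAll k p (n + 1))
    {P : Fin (n + 2) → K} (hP : AlgebraicIndependent k P) {e : Fin n → ℕ} {a b d : ℕ}
    (hpab : p = 0 ∨ a + b ≤ p) (he : ∀ i, 1 ≤ e i) (hlt : ∀ i, p = 0 ∨ e i < p)
    (ha : 1 ≤ a) (hb : 1 ≤ b) (hsum : (∑ i, e i) + a + b = 2 * d + n) :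
    (∀ V ∈ ramMaps d P (ind e a b), Rigid d P (ind e a b) V) ∧
    ∃ (κ : Type u) (_ : Field κ) (_ : IsAlgClosed κ) (_ : Algebra k κ) (P' : Fin (n + 1) → κ),
      AlgebraicIndependent k P' ∧
      Nat.card (ramMaps d P (ind e a b)) =
        ∑ m ∈ (Finset.range (d + 1)).filter (fun m => m < a ∧ m < b),
          Nat.card (ramMaps (d - m) P' (Fin.snoc e (a + b - 1 - 2 * m) : Fin (n + 1) → ℕ)) := by
  obtain ⟨O, _, R, t, hRP, ht, ht0, htr, hPr⟩ := GenVal.exists_O hP
  haveI := HenselN.residue_isAlgClosed O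
  haveI hpκ : CharP (IsLocalRing.ResidueField O) p :=
    charP_of_injective_algebraMap (algebraMap k _).injective p
  haveI hpK : CharP K p := charP_of_injective_algebraMap (algebraMap k _).injective p
  set Q : Fin n → O := fun i => R i.castSucc - R (Fin.last n) with hQ
  set ρ := re O (R (Fin.last n)) with hρ
  set y := P (Fin.castSucc (Fin.last n)) with hy
  have hind : (fun i => ptsR Q i + ρ) = fun i => re O (R i) := by
    funext i
    refine Fin.lastCases ?_ (fun i => ?_) i
    · rw [ptsR, Fin.snoc_last, zero_add]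
    · rw [ptsR, Fin.snoc_castSucc, hQ]
      simp only [map_sub, hρ, sub_add_cancel]
  have hP' : AlgebraicIndependent k (fun i => ptsR Q i + ρ) := by rw [hind]; exact hPr
  have hPK : (fun i => P i - y) = ptsK Q t := by
    funext i
    refine Fin.lastCases ?_ (fun i => ?_) i
    · rw [ptsK, Fin.snoc_last, ht]
    · rw [ptsK, Fin.snoc_castSucc]
      refine Fin.lastCases ?_ (fun i => ?_) i
      · rw [Fin.snoc_last, hy, sub_self]
      · rw [Fin.snoc_castSucc, hQ, hy, ← hRP, ← hRP, map_sub]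
  have hc : Conf O Q t := by
    refine ⟨?_, ?_, ht0, htr⟩
    · intro i j hij
      have h1 := hPr.injective (a₁ := i.castSucc) (a₂ := j.castSucc) (by
        simp only [hQ, map_sub] at hij
        exact sub_left_inj.1 hij)
      exact Fin.castSucc_injective _ h1
    · intro i h0
      simp only [hQ, map_sub, sub_eq_zero] at h0
      exact (Fin.castSucc_lt_last i).ne (hPr.injective h0)
  have hsep := sepR hpab he hlt hsum hP'
  have hrig := rigR hR hpab he hlt hsum hP'
  have hred : RedSep d Q t e a b := by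
    by_cases hp : p = 0
    · subst hp
      exact redSep_zero
    · haveI : Fact p.Prime := ⟨(CharP.char_is_prime_or_zero k p).resolve_right hp⟩
      exact redSep_pos (k := k) (hMb hp) (hpab.resolve_left hp) hc he
        (fun i => (hlt i).resolve_left hp) ha hb hsum hP'
  have hd : (∑ i, ind e a b i) + 2 = 2 * d + (n + 2) := by rw [sum_ind]; omega
  have hi := ind_pos he ha hb
  constructor
  · intro V hV
    apply Rigid.of_translate y
    have h1 := translate_mem hP.injective hi hd hV y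
    rw [hPK] at h1 ⊢
    exact rigid_K p hpab hc he ha hb hsum hsep hrig hred h1
  · refine ⟨IsLocalRing.ResidueField O, inferInstance, inferInstance, inferInstance,
      fun i => ptsR Q i + ρ, hP', ?_⟩
    rw [card_translate hP.injective hi hd y, hPK,
      card_eq_sum p hpab hc he ha hb hsum hsep hrig hred]
    · apply Finset.sum_congr rfl
      intro m hm
      rw [Finset.mem_filter, Finset.mem_range] at hm
      exact card_R hP' (snoc_pos he (by omega))
        (sum_snoc_eq hsum (by omega) (by omega) rfl)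
    · intro m hm
      rw [Finset.mem_filter, Finset.mem_range] at hm
      exact finite_R (p := p) hP' (snoc_pos he (by omega)) (snoc_lt hlt (by omega))
        (sum_snoc_eq hsum (by omega) (by omega) rfl)

end Gen

end K807.MainA
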