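import Mathlib.RingTheory.Spectrum.Prime.Chevalley
import Mathlib.RingTheory.Nullstellensatz
import Mathlib.RingTheory.Localization.FractionRing
import Mathlib.RingTheory.Polynomial.Basic
import Mathlib.RingTheory.FinitePresentation
import Mathlib.Data.Set.Card
import Mathlib.Algebra.MvPolynomial.Rename

/-!
# Generic transfer of the number of solutions of a polynomial system

For a system of polynomial equations with coefficients in a noetherian domain `R`, the number of
solutions over an algebraically closed field containing `R`, if finite, is the number of solutions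
over every algebraically closed field in which some non-zero `Φ : R` is invertible.
-/

set_option autoImplicit false
set_option linter.style.haveILetI false
set_option linter.unusedSectionVars false

open MvPolynomial

universe w

namespace K807.Transfer

/-- Two fields with the same kernel from `R`: solvability passes to the algebraically closed one. -/
theorem exists_point {R K K' : Type*} [CommRing R] [Field K] [IsAlgClosed K] [Field K']
    (θ : R →+* K) (θ' : R →+* K') (hker : RingHom.ker θ = RingHom.ker θ') {σ : Type*} [Finite σ]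
    (I : Set (MvPolynomial σ R)) (h : MvPolynomial σ R) (x' : σ → K')
    (hI : ∀ f ∈ I, eval₂ θ' x' f = 0) (hh : eval₂ θ' x' h ≠ 0) :
    ∃ x : σ → K, (∀ f ∈ I, eval₂ θ x f = 0) ∧ eval₂ θ x h ≠ 0 := by
  let D := R ⧸ RingHom.ker θ
  have hD : IsDomain D := by
    have := RingHom.ker_isPrime θ
    infer_instance
  let ι : D →+* K := RingHom.kerLift θ
  have hι : Function.Injective ι := RingHom.kerLift_injective θ
  let ι' : D →+* K' := Ideal.Quotient.lift (RingHom.ker θ) θ' (fun a ha => by rwa [hker] at ha)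
  have hι' : Function.Injective ι' := by
    rw [injective_iff_map_eq_zero]
    intro a ha
    obtain ⟨b, rfl⟩ := Ideal.Quotient.mk_surjective a
    have ha' : θ' b = 0 := ha
    rw [Ideal.Quotient.eq_zero_iff_mem, hker]
    exact ha'
  let κ := FractionRing D
  let g : κ →+* K := IsFractionRing.lift (K := κ) hι
  let g' : κ →+* K' := IsFractionRing.lift (K := κ) hι'
  let φ : R →+* κ := (algebraMap D κ).comp (Ideal.Quotient.mk _)
  have hg : g.comp φ = θ := by
    ext r
    show g (algebraMap D κ (Ideal.Quotient.mk _ r)) = θ r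
    rw [IsFractionRing.lift_algebraMap]
    exact RingHom.kerLift_mk θ r
  have hg' : g'.comp φ = θ' := by
    ext r
    show g' (algebraMap D κ (Ideal.Quotient.mk _ r)) = θ' r
    rw [IsFractionRing.lift_algebraMap]
    exact Ideal.Quotient.lift_mk _ _ _
  letI : Algebra κ K := g.toAlgebra
  let J : Ideal (MvPolynomial σ κ) := Ideal.span (MvPolynomial.map φ '' I)
  have key : ∀ (x : σ → K) (f : MvPolynomial σ R),
      aeval (R := κ) x (MvPolynomial.map φ f) = eval₂ θ x f := by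
    intro x f
    rw [aeval_def, MvPolynomial.eval₂_map]
    show eval₂ (g.comp φ) x f = _
    rw [hg]
  have key' : ∀ f : MvPolynomial σ R, eval₂ g' x' (MvPolynomial.map φ f) = eval₂ θ' x' f := by
    intro f
    rw [MvPolynomial.eval₂_map, hg']
  by_contra hcon
  push Not at hcon
  have h1 : MvPolynomial.map φ h ∈ vanishingIdeal κ (zeroLocus K J) := by
    rw [mem_vanishingIdeal_iff]
    intro x hx
    rw [key]
    apply hcon
    intro f hf
    rw [← key]
    exact hx _ (Ideal.subset_span ⟨f, hf, rfl⟩)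
  rw [vanishingIdeal_zeroLocus_eq_radical] at h1
  obtain ⟨N, hN⟩ := h1
  have h2 : J ≤ RingHom.ker (eval₂Hom g' x') := by
    rw [Ideal.span_le]
    rintro _ ⟨f, hf, rfl⟩
    rw [SetLike.mem_coe, RingHom.mem_ker, coe_eval₂Hom, key']
    exact hI f hf
  have h3 := h2 hN
  rw [RingHom.mem_ker, map_pow, coe_eval₂Hom, key'] at h3
  exact pow_ne_zero N hh h3

section Generic

variable {R : Type*} [CommRing R] [IsDomain R]

/-- a constructible set containing the generic point contains a non-empty basic open -/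
theorem exists_of_bot_mem {s : Set (PrimeSpectrum R)} (hs : Topology.IsConstructible s)
    (h : (⊥ : PrimeSpectrum R) ∈ s) :
    ∃ Φ : R, Φ ≠ 0 ∧ ∀ p : PrimeSpectrum R, Φ ∉ p.asIdeal → p ∈ s := by
  obtain ⟨S, rfl⟩ := PrimeSpectrum.exists_constructibleSetData_iff.2 hs
  simp only [PrimeSpectrum.ConstructibleSetData.toSet, Set.mem_iUnion] at h
  obtain ⟨C, hC, hb⟩ := h
  have h1 : ∀ i, C.g i = 0 := by
    intro i
    have := hb.1 ⟨i, rfl⟩
    simpa using this
  have h2 : C.f ≠ 0 := by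
    intro h0
    apply hb.2
    rw [PrimeSpectrum.mem_zeroLocus, Set.singleton_subset_iff, h0]
    exact zero_mem _
  refine ⟨C.f, h2, fun p hp => ?_⟩
  simp only [PrimeSpectrum.ConstructibleSetData.toSet, Set.mem_iUnion]
  refine ⟨C, hC, ?_, ?_⟩
  · rw [PrimeSpectrum.mem_zeroLocus]
    rintro _ ⟨i, rfl⟩
    rw [h1 i]
    exact zero_mem _
  · rw [PrimeSpectrum.mem_zeroLocus, Set.singleton_subset_iff]
    exact hp

variable [IsNoetherianRing R] {σ : Type*} [Finite σ]

/-- the set of primes over which the system is solvable -/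
def Solv (I : Set (MvPolynomial σ R)) (h : MvPolynomial σ R) : Set (PrimeSpectrum R) :=
  PrimeSpectrum.comap (C : R →+* MvPolynomial σ R) ''
    (PrimeSpectrum.zeroLocus I ∩ PrimeSpectrum.basicOpen h)

theorem isConstructible_solv (I : Set (MvPolynomial σ R)) (h : MvPolynomial σ R) :
    Topology.IsConstructible (Solv I h) := by
  apply PrimeSpectrum.isConstructible_comap_image
  · have h1 : Algebra.FinitePresentation R (MvPolynomial σ R) := inferInstance
    exact RingHom.finitePresentation_algebraMap.2 h1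
  · refine Topology.IsConstructible.inter ?_ PrimeSpectrum.isConstructible_basicOpen
    rw [← Topology.isConstructible_compl]
    obtain ⟨T, hT⟩ := (inferInstance : IsNoetherianRing (MvPolynomial σ R)).noetherian (Ideal.span I)
    rw [← PrimeSpectrum.zeroLocus_span, ← hT]
    change Topology.IsConstructible (PrimeSpectrum.zeroLocus (Ideal.span (T : Set (MvPolynomial σ R)) : Set (MvPolynomial σ R)))ᶜ
    rw [PrimeSpectrum.zeroLocus_span]
    exact (PrimeSpectrum.isRetrocompact_zeroLocus_compl (Finset.finite_toSet T)).isConstructible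
      (PrimeSpectrum.isClosed_zeroLocus _).isOpen_compl

theorem mem_solv_of_point {K : Type*} [Field K] (θ : R →+* K) (I : Set (MvPolynomial σ R))
    (h : MvPolynomial σ R) (x : σ → K)
    (hI : ∀ f ∈ I, eval₂ θ x f = 0) (hh : eval₂ θ x h ≠ 0) :
    (⟨RingHom.ker θ, RingHom.ker_isPrime θ⟩ : PrimeSpectrum R) ∈ Solv I h := by
  refine ⟨⟨RingHom.ker (eval₂Hom θ x), RingHom.ker_isPrime _⟩, ⟨?_, ?_⟩, ?_⟩
  · rw [PrimeSpectrum.mem_zeroLocus]
    exact fun f hf => hI f hf
  · exact hh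
  · ext r
    show C r ∈ RingHom.ker (eval₂Hom θ x) ↔ r ∈ RingHom.ker θ
    rw [RingHom.mem_ker, RingHom.mem_ker, coe_eval₂Hom, eval₂_C]

theorem exists_point_of_mem_solv {K : Type*} [Field K] [IsAlgClosed K] (θ : R →+* K)
    (I : Set (MvPolynomial σ R)) (h : MvPolynomial σ R)
    (hmem : (⟨RingHom.ker θ, RingHom.ker_isPrime θ⟩ : PrimeSpectrum R) ∈ Solv I h) :
    ∃ x : σ → K, (∀ f ∈ I, eval₂ θ x f = 0) ∧ eval₂ θ x h ≠ 0 := by
  obtain ⟨q, ⟨hq1, hq2⟩, hq3⟩ := hmem
  let K' := FractionRing (MvPolynomial σ R ⧸ q.asIdeal)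
  let θ₁ : MvPolynomial σ R →+* K' :=
    (algebraMap (MvPolynomial σ R ⧸ q.asIdeal) K').comp (Ideal.Quotient.mk _)
  have hθ₁ : ∀ f, θ₁ f = 0 ↔ f ∈ q.asIdeal := by
    intro f
    rw [RingHom.comp_apply, FaithfulSMul.algebraMap_eq_zero_iff, Ideal.Quotient.eq_zero_iff_mem]
  let θ' : R →+* K' := θ₁.comp C
  have he : ∀ f, eval₂ θ' (fun i => θ₁ (X i)) f = θ₁ f := by
    intro f
    have : eval₂Hom θ' (fun i => θ₁ (X i)) = θ₁ := by
      apply MvPolynomial.ringHom_ext
      · intro r; simp [θ']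
      · intro i; simp
    exact congrArg (fun g : MvPolynomial σ R →+* K' => g f) this
  apply exists_point θ θ' ?_ I h (fun i => θ₁ (X i))
  · intro f hf
    rw [he, hθ₁]
    exact hq1 hf
  · rw [he, Ne, hθ₁]
    exact hq2
  · ext r
    rw [RingHom.mem_ker (f := θ'), RingHom.comp_apply, hθ₁]
    have := congrArg (fun p : PrimeSpectrum R => r ∈ p.asIdeal) hq3
    exact (iff_of_eq this).symm

/-- **Solvability spreads out.** -/
theorem exists_solvable {L : Type*} [Field L] (θL : R →+* L) (hL : Function.Injective θL)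
    (I : Set (MvPolynomial σ R)) (h : MvPolynomial σ R)
    (hx : ∃ x : σ → L, (∀ f ∈ I, eval₂ θL x f = 0) ∧ eval₂ θL x h ≠ 0) :
    ∃ Φ : R, Φ ≠ 0 ∧ ∀ {K : Type w} [Field K] [IsAlgClosed K] (θ : R →+* K), θ Φ ≠ 0 →
      ∃ x : σ → K, (∀ f ∈ I, eval₂ θ x f = 0) ∧ eval₂ θ x h ≠ 0 := by
  obtain ⟨x, hx1, hx2⟩ := hx
  have h1 := mem_solv_of_point θL I h x hx1 hx2
  have h2 : (⟨RingHom.ker θL, RingHom.ker_isPrime θL⟩ : PrimeSpectrum R) = ⊥ := by
    ext r
    show r ∈ RingHom.ker θL ↔ r ∈ (⊥ : Ideal R)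
    rw [(RingHom.injective_iff_ker_eq_bot _).1 hL]
  rw [h2] at h1
  obtain ⟨Φ, hΦ, hs⟩ := exists_of_bot_mem (isConstructible_solv I h) h1
  refine ⟨Φ, hΦ, fun θ hθ => exists_point_of_mem_solv θ I h (hs _ hθ)⟩

/-- **Unsolvability spreads out.** -/
theorem exists_unsolvable {L : Type*} [Field L] [IsAlgClosed L] (θL : R →+* L)
    (hL : Function.Injective θL) (I : Set (MvPolynomial σ R)) (h : MvPolynomial σ R)
    (hx : ¬ ∃ x : σ → L, (∀ f ∈ I, eval₂ θL x f = 0) ∧ eval₂ θL x h ≠ 0) :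
    ∃ Φ : R, Φ ≠ 0 ∧ ∀ {K : Type w} [Field K] (θ : R →+* K), θ Φ ≠ 0 →
      ¬ ∃ x : σ → K, (∀ f ∈ I, eval₂ θ x f = 0) ∧ eval₂ θ x h ≠ 0 := by
  have h2 : (⟨RingHom.ker θL, RingHom.ker_isPrime θL⟩ : PrimeSpectrum R) = ⊥ := by
    ext r
    show r ∈ RingHom.ker θL ↔ r ∈ (⊥ : Ideal R)
    rw [(RingHom.injective_iff_ker_eq_bot _).1 hL]
  have h1 : (⊥ : PrimeSpectrum R) ∈ (Solv I h)ᶜ := by
    intro hb
    rw [← h2] at hb
    exact hx (exists_point_of_mem_solv θL I h hb)
  obtain ⟨Φ, hΦ, hs⟩ := exists_of_bot_mem (isConstructible_solv I h).compl h1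
  refine ⟨Φ, hΦ, fun θ hθ => ?_⟩
  rintro ⟨x, hx1, hx2⟩
  exact hs ⟨RingHom.ker θ, RingHom.ker_isPrime θ⟩ hθ (mem_solv_of_point θ I h x hx1 hx2)

end Generic

section Count

variable {R : Type*} [CommRing R] {σ : Type*}

/-- the solutions of the system over a field -/
def Z {K : Type*} [Field K] (θ : R →+* K) (I : Set (MvPolynomial σ R)) : Set (σ → K) :=
  {x | ∀ f ∈ I, eval₂ θ x f = 0}

/-- the system for `N`-tuples of solutions -/
def tup (I : Set (MvPolynomial σ R)) (N : ℕ) : Set (MvPolynomial (Fin N × σ) R) :=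
  {g | ∃ i, ∃ f ∈ I, g = rename (fun s => (i, s)) f}

/-- the inequation for tuples -/
noncomputable def dis (N : ℕ) (c : {p : Fin N × Fin N // p.1 ≠ p.2} → σ) :
    MvPolynomial (Fin N × σ) R :=
  ∏ p, (X (p.1.1, c p) - X (p.1.2, c p))

theorem tup_iff {K : Type*} [Field K] (θ : R →+* K) (I : Set (MvPolynomial σ R)) (N : ℕ)
    (c : {p : Fin N × Fin N // p.1 ≠ p.2} → σ) :
    (∃ x : Fin N × σ → K, (∀ f ∈ tup I N, eval₂ θ x f = 0) ∧ eval₂ θ x (dis N c) ≠ 0) ↔
      ∃ z : Fin N → (σ → K), (∀ i, z i ∈ Z θ I) ∧ ∀ p, z p.1.1 (c p) ≠ z p.1.2 (c p) := by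
  constructor
  · rintro ⟨x, h1, h2⟩
    refine ⟨fun i s => x (i, s), ?_, ?_⟩
    · intro i f hf
      have := h1 _ ⟨i, f, hf, rfl⟩
      rw [eval₂_rename] at this
      exact this
    · intro p hp
      apply h2
      rw [dis, eval₂_prod]
      refine Finset.prod_eq_zero (Finset.mem_univ p) ?_
      rw [eval₂_sub, eval₂_X, eval₂_X]
      exact sub_eq_zero.2 hp
  · rintro ⟨z, h1, h2⟩
    refine ⟨fun q => z q.1 q.2, ?_, ?_⟩
    · rintro _ ⟨i, f, hf, rfl⟩
      rw [eval₂_rename]
      exact h1 i f hf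
    · rw [dis, eval₂_prod]
      refine Finset.prod_ne_zero_iff.2 fun p _ => ?_
      rw [eval₂_sub, eval₂_X, eval₂_X]
      exact sub_ne_zero.2 (h2 p)

/-- **The number of solutions spreads out.** -/
theorem exists_count [IsDomain R] [IsNoetherianRing R] [Finite σ] {L : Type*} [Field L]
    [IsAlgClosed L] (θL : R →+* L) (hL : Function.Injective θL) (I : Set (MvPolynomial σ R))
    (m : ℕ) (hfin : (Z θL I).Finite) (hm : (Z θL I).ncard = m) :
    ∃ Φ : R, Φ ≠ 0 ∧ ∀ {K : Type w} [Field K] [IsAlgClosed K] (θ : R →+* K), θ Φ ≠ 0 →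
      (Z θ I).Finite ∧ (Z θ I).ncard = m := by
  classical
  -- lower bound
  have hlow : ∃ Φ : R, Φ ≠ 0 ∧ ∀ {K : Type w} [Field K] [IsAlgClosed K] (θ : R →+* K), θ Φ ≠ 0 →
      ∃ z : Fin m → (σ → K), (∀ i, z i ∈ Z θ I) ∧ Function.Injective z := by
    have e : Fin m ≃ (Z θL I) := by
      have : Finite (Z θL I) := hfin
      exact (Finite.equivFinOfCardEq hm).symm
    have h1 : ∀ p : {p : Fin m × Fin m // p.1 ≠ p.2},
        ∃ s, (e p.1.1 : σ → L) s ≠ (e p.1.2 : σ → L) s := by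
      intro p
      by_contra hcon
      push Not at hcon
      exact p.2 (e.injective (Subtype.ext (funext hcon)))
    choose c hc using h1
    obtain ⟨Φ, hΦ, hs⟩ := exists_solvable θL hL (tup I m) (dis m c)
      ((tup_iff θL I m c).2 ⟨fun i => e i, fun i => (e i).2, hc⟩)
    refine ⟨Φ, hΦ, fun θ hθ => ?_⟩
    obtain ⟨z, hz1, hz2⟩ := (tup_iff θ I m c).1 (hs θ hθ)
    refine ⟨z, hz1, fun i j hij => ?_⟩
    by_contra hne
    exact hz2 ⟨(i, j), hne⟩ (congrFun hij _)
  have hupp : ∀ c : {p : Fin (m + 1) × Fin (m + 1) // p.1 ≠ p.2} → σ,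
      ∃ Φ : R, Φ ≠ 0 ∧ ∀ {K : Type w} [Field K] (θ : R →+* K), θ Φ ≠ 0 →
      ¬ ∃ x : Fin (m + 1) × σ → K, (∀ f ∈ tup I (m + 1), eval₂ θ x f = 0) ∧
        eval₂ θ x (dis (m + 1) c) ≠ 0 := by
    intro c
    apply exists_unsolvable θL hL
    intro hcon
    obtain ⟨z, hz1, hz2⟩ := (tup_iff θL I (m + 1) c).1 hcon
    have hinj : Function.Injective (fun i => (⟨z i, hz1 i⟩ : Z θL I)) := by
      intro i j hij
      by_contra hne
      exact hz2 ⟨(i, j), hne⟩ (congrFun (congrArg Subtype.val hij) _)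
    have : Finite (Z θL I) := hfin
    have h1 := Nat.card_le_card_of_injective _ hinj
    rw [Nat.card_eq_fintype_card, Fintype.card_fin] at h1
    have h2 : Nat.card (Z θL I) = m := hm
    rw [h2] at h1
    omega
  obtain ⟨Φ₁, hΦ₁, hs₁⟩ := hlow
  choose Φ₂ hΦ₂ hs₂ using hupp
  letI : Fintype ({p : Fin (m + 1) × Fin (m + 1) // p.1 ≠ p.2} → σ) := Fintype.ofFinite _
  refine ⟨Φ₁ * ∏ c, Φ₂ c, mul_ne_zero hΦ₁ (Finset.prod_ne_zero_iff.2 fun c _ => hΦ₂ c), ?_⟩
  intro K _ _ θ hθ
  rw [map_mul, map_prod] at hθ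
  obtain ⟨z, hz1, hz2⟩ := hs₁ θ (left_ne_zero_of_mul hθ)
  have hub : ∀ t : Finset (σ → K), (t : Set (σ → K)) ⊆ Z θ I → t.card ≠ m + 1 := by
    intro t ht hcard
    have e : Fin (m + 1) ≃ t := (Finset.equivFinOfCardEq hcard).symm
    have h1 : ∀ p : {p : Fin (m + 1) × Fin (m + 1) // p.1 ≠ p.2},
        ∃ s, (e p.1.1 : σ → K) s ≠ (e p.1.2 : σ → K) s := by
      intro p
      by_contra hcon
      push Not at hcon
      exact p.2 (e.injective (Subtype.ext (funext hcon)))
    choose c hc using h1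
    have h2 : θ (Φ₂ c) ≠ 0 :=
      Finset.prod_ne_zero_iff.1 (right_ne_zero_of_mul hθ) c (Finset.mem_univ c)
    exact hs₂ c θ h2 ((tup_iff θ I (m + 1) c).2 ⟨fun i => e i, fun i => ht (e i).2, hc⟩)
  have hf : (Z θ I).Finite := by
    by_contra hinf
    obtain ⟨t, ht1, ht2⟩ := Set.Infinite.exists_subset_card_eq hinf (m + 1)
    exact hub t ht1 ht2
  refine ⟨hf, le_antisymm ?_ ?_⟩
  · by_contra hlt
    push Not at hlt
    rw [Set.ncard_eq_toFinset_card _ hf] at hlt
    obtain ⟨t, ht1, ht2⟩ := Finset.exists_subset_card_eq (show m + 1 ≤ hf.toFinset.card by omega)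
    exact hub t (fun x hx => by simpa using ht1 hx) ht2
  · have h1 : (Finset.univ.image z).card = m := by
      rw [Finset.card_image_of_injective _ hz2, Finset.card_univ, Fintype.card_fin]
    rw [← h1, ← Set.ncard_coe_finset]
    refine Set.ncard_le_ncard ?_ hf
    intro x hx
    simp only [Finset.coe_image, Finset.coe_univ, Set.image_univ, Set.mem_range] at hx
    obtain ⟨i, rfl⟩ := hx
    exact hz1 i

end Count

end K807.Transfer
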