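import Groth.Agent.W4c1limliniiii.K807.Gen
import Groth.Agent.W4c1limliniiii.K807.Transfer

/-!
# Normal form of pencils, encoding by polynomial systems, transfer of generic counts
-/

set_option autoImplicit false
set_option linter.style.haveILetI false
universe u

open Polynomial

namespace K807.Normal

open K807.Wr K807.Pencil K807.Bound W4c1limliniiii

section Normal

variable {K : Type*} [Field K] {n : ℕ} {P : Fin n → K} {e : Fin n → ℕ} {d : ℕ}

theorem span_comb {F G : K[X]} {a b c : K} (ha : a ≠ 0) (hb : b ≠ 0) :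
    Submodule.span K {a • F + c • G, b • G} = Submodule.span K {F, G} := by
  apply le_antisymm
  · rw [Submodule.span_le]
    rintro x (rfl | rfl)
    · exact Submodule.add_mem _ (Submodule.smul_mem _ _ (Submodule.subset_span (by simp)))
        (Submodule.smul_mem _ _ (Submodule.subset_span (by simp)))
    · exact Submodule.smul_mem _ _ (Submodule.subset_span (by simp))
  · have hG : G ∈ Submodule.span K {a • F + c • G, b • G} :=
      Submodule.mem_span_pair.2 ⟨0, b⁻¹, by
        rw [zero_smul, zero_add, smul_smul, inv_mul_cancel₀ hb, one_smul]⟩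
    have hF : F ∈ Submodule.span K {a • F + c • G, b • G} :=
      Submodule.mem_span_pair.2 ⟨a⁻¹, -(a⁻¹ * c * b⁻¹), by
        rw [smul_add, smul_smul, smul_smul, smul_smul, inv_mul_cancel₀ ha, one_smul, neg_mul,
          mul_assoc (a⁻¹ * c), inv_mul_cancel₀ hb, mul_one, neg_smul, add_neg_cancel_right]⟩
    rw [Submodule.span_le]
    rintro x (rfl | rfl)
    · exact hF
    · exact hG

/-- every pencil has a normalised basis -/
theorem exists_np [IsAlgClosed K] (hP : Function.Injective P) (he : ∀ i, 1 ≤ e i)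
    (hd : (∑ i, e i) + 2 = 2 * d + n) {V : Submodule K K[X]} (hV : V ∈ ramMaps d P e) :
    ∃ F G : K[X], NP P e d (d - 1) F G ∧ V = Submodule.span K {F, G} := by
  have hd1 : 1 ≤ d := one_le_of_sum he hd
  obtain ⟨F, G, hF, hG, hli, hVs, dF, dG⟩ := exists_basis_deg hV.1.2.1 hd1 hV.1.1
  have hW : wronskian F G ≠ 0 := (isSeparable_iff hVs).1 hV.2.1
  have hs := schubert_of_mem hV hVs
  have hW1 := wr_of_schubert hP he hd dF dG hs
  have hFd : F.coeff d ≠ 0 := by
    intro h0
    rw [h0, zero_mul, neg_zero, C_0, zero_mul] at hW1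
    exact hW hW1
  have hGd : G.coeff (d - 1) ≠ 0 := by
    intro h0
    rw [h0, mul_zero, neg_zero, C_0, zero_mul] at hW1
    exact hW hW1
  set a := (F.coeff d)⁻¹ with ha
  set b := (G.coeff (d - 1))⁻¹ with hb
  set c := -(a * F.coeff (d - 1)) * b with hc
  have ha0 : a ≠ 0 := inv_ne_zero hFd
  have hb0 : b ≠ 0 := inv_ne_zero hGd
  have hG1d : G.coeff d = 0 := coeff_eq_zero_of_natDegree_lt (by omega)
  have hVs' : V = Submodule.span K {a • F + c • G, b • G} := by
    rw [span_comb ha0 hb0, hVs]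
  have d1 : (a • F + c • G).natDegree ≤ d :=
    (natDegree_add_le _ _).trans (max_le ((natDegree_smul_le _ _).trans dF)
      ((natDegree_smul_le _ _).trans (dG.trans (Nat.sub_le _ _))))
  have c1 : (a • F + c • G).coeff d = 1 := by
    rw [coeff_add, coeff_smul, coeff_smul, hG1d, smul_zero, add_zero, smul_eq_mul, ha,
      inv_mul_cancel₀ hFd]
  have d2 : (b • G).natDegree ≤ d - 1 := (natDegree_smul_le _ _).trans dG
  have c2 : (b • G).coeff (d - 1) = 1 := by
    rw [coeff_smul, smul_eq_mul, hb, inv_mul_cancel₀ hGd]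
  have n1 : (a • F + c • G).natDegree = d := by
    refine le_antisymm d1 ?_
    by_contra hlt
    rw [coeff_eq_zero_of_natDegree_lt (by omega)] at c1
    exact zero_ne_one c1
  have n2 : (b • G).natDegree = d - 1 := by
    refine le_antisymm d2 ?_
    by_contra hlt
    rw [coeff_eq_zero_of_natDegree_lt (by omega)] at c2
    exact zero_ne_one c2
  refine ⟨a • F + c • G, b • G, ⟨?_, ?_, n1, n2, by omega, ?_, ?_, ?_, ?_⟩, hVs'⟩
  · rw [Monic, leadingCoeff, n1, c1]
  · rw [Monic, leadingCoeff, n2, c2]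
  · rw [coeff_add, coeff_smul, coeff_smul, smul_eq_mul, smul_eq_mul, hc, mul_assoc, hb,
      inv_mul_cancel₀ hGd]
    ring
  · exact isCoprime_of_isPencil hV.1 hVs'
  · exact (isSeparable_iff hVs').1 hV.2.1
  · exact schubert_of_mem hV hVs'

/-- a pair with the right degrees, Wronskian, and ramification spans a pencil in `ramMaps` -/
theorem span_mem_ramMaps (hP : Function.Injective P) (he : ∀ i, 1 ≤ e i)
    (hd : (∑ i, e i) + 2 = 2 * d + n) {F G : K[X]} (dF : F.natDegree ≤ d) (dG : G.natDegree ≤ d)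
    (hW : wronskian F G ≠ 0)
    (hs : ∀ i, ∃ s ∈ Submodule.span K {F, G}, s ≠ 0 ∧ (X - C (P i)) ^ (e i) ∣ s) :
    Submodule.span K {F, G} ∈ ramMaps d P e := by
  refine mem_ramMaps_of hP he hd (le_degreeLE_of dF dG) (finrank_span_pair (linInd_of_wr hW))
    ((isSeparable_iff rfl).2 hW) ?_
  intro i
  obtain ⟨s, hs1, hs2, hs3⟩ := hs i
  exact ⟨s, hs1, hs2, (le_rootMultiplicity_iff hs2).2 hs3⟩

theorem NP.mem_ramMaps (hP : Function.Injective P) (he : ∀ i, 1 ≤ e i)
    (hd : (∑ i, e i) + 2 = 2 * d + n) {F G : K[X]} (h : NP P e d (d - 1) F G) :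
    Submodule.span K {F, G} ∈ ramMaps d P e :=
  span_mem_ramMaps hP he hd h.dF.le (h.dG.le.trans (Nat.sub_le _ _)) h.W0 h.sch

/-- uniqueness of the normalised basis -/
theorem eq_of_span_eq {α β : ℕ} {F G F' G' : K[X]}
    (cF : F.coeff α = 1) (cF' : F'.coeff α = 1) (nF : F.coeff β = 0) (nF' : F'.coeff β = 0)
    (cG : G.coeff β = 1) (cG' : G'.coeff β = 1) (dG : G.coeff α = 0) (dG' : G'.coeff α = 0)
    (h : Submodule.span K {F, G} = Submodule.span K {F', G'}) : F = F' ∧ G = G' := by
  have hF : F' ∈ Submodule.span K {F, G} := by rw [h]; exact Submodule.subset_span (by simp)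
  have hG : G' ∈ Submodule.span K {F, G} := by rw [h]; exact Submodule.subset_span (by simp)
  obtain ⟨a, b, hF⟩ := Submodule.mem_span_pair.1 hF
  obtain ⟨a', b', hG⟩ := Submodule.mem_span_pair.1 hG
  constructor
  · have h1 := congrArg (fun p : K[X] => p.coeff α) hF
    have h2 := congrArg (fun p : K[X] => p.coeff β) hF
    simp only [coeff_add, coeff_smul, smul_eq_mul, cF, cF', nF, nF', cG, dG, mul_one, mul_zero,
      add_zero, zero_add] at h1 h2
    rw [← hF, h1, h2, one_smul, zero_smul, add_zero]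
  · have h1 := congrArg (fun p : K[X] => p.coeff α) hG
    have h2 := congrArg (fun p : K[X] => p.coeff β) hG
    simp only [coeff_add, coeff_smul, smul_eq_mul, cF, nF, cG', cG, dG, dG', mul_one, mul_zero,
      add_zero, zero_add] at h1 h2
    rw [← hG, h1, h2, one_smul, zero_smul, zero_add]

theorem NP.unique {F G F' G' : K[X]} {α β : ℕ} (h : NP P e α β F G) (h' : NP P e α β F' G')
    (hs : Submodule.span K {F, G} = Submodule.span K {F', G'}) : F = F' ∧ G = G' :=
  eq_of_span_eq h.cF h'.cF h.nrm h'.nrm h.cG h'.cG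
    (coeff_eq_zero_of_natDegree_lt (by rw [h.dG]; exact h.lt))
    (coeff_eq_zero_of_natDegree_lt (by rw [h'.dG]; exact h.lt)) hs

end Normal

section Minors

variable {K : Type*} [Field K]

/-- a member of the span vanishing to order `e` exists iff the `2 × 2` minors of the Taylor
coefficients vanish -/
theorem exists_iff_minors {F G : K[X]} (hli : LinearIndependent K ![F, G]) (a : K) (e : ℕ) :
    (∃ s ∈ Submodule.span K {F, G}, s ≠ 0 ∧ (X - C a) ^ e ∣ s) ↔
      ∀ i < e, ∀ j < e, (taylor a F).coeff i * (taylor a G).coeff j -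
        (taylor a F).coeff j * (taylor a G).coeff i = 0 := by
  have hdvd : ∀ s : K[X], (X - C a) ^ e ∣ s ↔ ∀ i < e, (taylor a s).coeff i = 0 := by
    intro s
    rw [X_sub_C_pow_dvd_iff, X_pow_dvd_iff]
    rfl
  have hpair := LinearIndependent.pair_iff.1 hli
  constructor
  · rintro ⟨s, hs, hs0, hd⟩ i hi j hj
    obtain ⟨x, y, rfl⟩ := Submodule.mem_span_pair.1 hs
    rw [hdvd] at hd
    have h1 := hd i hi
    have h2 := hd j hj
    rw [map_add, map_smul, map_smul, coeff_add, coeff_smul, coeff_smul, smul_eq_mul,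
      smul_eq_mul] at h1 h2
    by_cases hx : x = 0
    · subst hx
      have hy : y ≠ 0 := by rintro rfl; simp at hs0
      rw [zero_mul, zero_add, mul_eq_zero] at h1 h2
      rw [h1.resolve_left hy, h2.resolve_left hy]; ring
    · have : x * ((taylor a F).coeff i * (taylor a G).coeff j -
        (taylor a F).coeff j * (taylor a G).coeff i) = 0 := by
        linear_combination (taylor a G).coeff j * h1 - (taylor a G).coeff i * h2
      exact (mul_eq_zero.1 this).resolve_left hx
  · intro h
    by_cases hv : ∀ i < e, (taylor a G).coeff i = 0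
    · refine ⟨G, Submodule.subset_span (by simp), ?_, (hdvd G).2 hv⟩
      rintro rfl
      have := hpair 0 1 (by simp)
      exact one_ne_zero this.2
    · push Not at hv
      obtain ⟨b, hb, hv⟩ := hv
      refine ⟨(taylor a G).coeff b • F - (taylor a F).coeff b • G, ?_, ?_, ?_⟩
      · exact Submodule.sub_mem _ (Submodule.smul_mem _ _ (Submodule.subset_span (by simp)))
          (Submodule.smul_mem _ _ (Submodule.subset_span (by simp)))
      · intro h0
        have := hpair ((taylor a G).coeff b) (-(taylor a F).coeff b) (by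
          rw [neg_smul, ← sub_eq_add_neg]; exact h0)
        exact hv this.1
      · rw [hdvd]
        intro i hi
        rw [map_sub, map_smul, map_smul, coeff_sub, coeff_smul, coeff_smul, smul_eq_mul,
          smul_eq_mul]
        linear_combination h i hi b hb

end Minors

section Encode

/-- monic polynomial with prescribed lower coefficients -/
noncomputable def mp {A : Type*} [CommRing A] (α : ℕ) (a : Fin α → A) : A[X] :=
  X ^ α + ∑ j, C (a j) * X ^ (j : ℕ)

theorem map_mp {A B : Type*} [CommRing A] [CommRing B] (φ : A →+* B) (α : ℕ) (a : Fin α → A) :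
    (mp α a).map φ = mp α (fun j => φ (a j)) := by
  simp [mp, Polynomial.map_sum]

theorem monic_mp {A : Type*} [CommRing A] (α : ℕ) (a : Fin α → A) : (mp α a).Monic := by
  nontriviality A
  exact monic_X_pow_add (degree_sum_fin_lt a)

theorem natDegree_mp {A : Type*} [CommRing A] [Nontrivial A] (α : ℕ) (a : Fin α → A) :
    (mp α a).natDegree = α := by
  have h := degree_sum_fin_lt a
  rw [mp, natDegree_eq_of_degree_eq_some]
  rw [degree_add_eq_left_of_degree_lt]
  · exact degree_X_pow α
  · rwa [degree_X_pow]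

theorem coeff_mp {A : Type*} [CommRing A] (α : ℕ) (a : Fin α → A) (j : Fin α) :
    (mp α a).coeff j = a j := by
  rw [mp, coeff_add, coeff_X_pow, if_neg (by have := j.2; omega), zero_add, finsetSum_coeff]
  simp only [coeff_C_mul_X_pow]
  rw [Finset.sum_eq_single j]
  · rw [if_pos rfl]
  · intro b _ hb
    rw [if_neg]
    intro h
    exact hb (Fin.ext h.symm)
  · intro h
    exact absurd (Finset.mem_univ _) h

theorem eq_mp {A : Type*} [CommRing A] {α : ℕ} {F : A[X]} (hF : F.Monic) (dF : F.natDegree = α) :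
    F = mp α (fun j => F.coeff j) := by
  conv_lhs => rw [hF.as_sum, dF]
  rw [mp, Finset.sum_range]

theorem map_wronskian {A B : Type*} [CommRing A] [CommRing B] (φ : A →+* B) (F G : A[X]) :
    (wronskian F G).map φ = wronskian (F.map φ) (G.map φ) := by
  simp [wronskian, Polynomial.derivative_map]

variable {R : Type*} [CommRing R] {n : ℕ}

/-- the universal pair -/
noncomputable def uF (R : Type*) [CommRing R] (α β : ℕ) : (MvPolynomial (Fin α ⊕ Fin β) R)[X] :=
  mp α (fun j => MvPolynomial.X (Sum.inl j))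

/-- the universal pair -/
noncomputable def uG (R : Type*) [CommRing R] (α β : ℕ) : (MvPolynomial (Fin α ⊕ Fin β) R)[X] :=
  mp β (fun j => MvPolynomial.X (Sum.inr j))

/-- the equations of normalised pairs with prescribed ramification -/
noncomputable def eqs (x : Fin n → R) (e : Fin n → ℕ) (α β : ℕ) :
    Set (MvPolynomial (Fin α ⊕ Fin β) R) :=
  {(uF R α β).coeff β} ∪
  Set.range (fun j => (wronskian (uF R α β) (uG R α β) -
    C ((β : MvPolynomial (Fin α ⊕ Fin β) R) - α) *
      ∏ i, (X - C (MvPolynomial.C (x i))) ^ (e i - 1)).coeff j) ∪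
  {f | ∃ i, ∃ a < e i, ∃ b < e i, f =
    (taylor (MvPolynomial.C (x i)) (uF R α β)).coeff a *
      (taylor (MvPolynomial.C (x i)) (uG R α β)).coeff b -
    (taylor (MvPolynomial.C (x i)) (uF R α β)).coeff b *
      (taylor (MvPolynomial.C (x i)) (uG R α β)).coeff a}

theorem map_taylor {A B : Type*} [CommRing A] [CommRing B] (φ : A →+* B) (a : A) (f : A[X]) :
    (taylor a f).map φ = taylor (φ a) (f.map φ) := by
  rw [taylor_apply, taylor_apply, Polynomial.map_comp, Polynomial.map_add, map_X, map_C]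

variable {K : Type*} [Field K] (θ : R →+* K)

theorem map_uF {α β : ℕ} (z : Fin α ⊕ Fin β → K) :
    (uF R α β).map (MvPolynomial.eval₂Hom θ z) = mp α (fun j => z (Sum.inl j)) := by
  rw [uF, map_mp]
  congr 1
  funext j
  rw [MvPolynomial.coe_eval₂Hom, MvPolynomial.eval₂_X]

theorem map_uG {α β : ℕ} (z : Fin α ⊕ Fin β → K) :
    (uG R α β).map (MvPolynomial.eval₂Hom θ z) = mp β (fun j => z (Sum.inr j)) := by
  rw [uG, map_mp]
  congr 1
  funext j
  rw [MvPolynomial.coe_eval₂Hom, MvPolynomial.eval₂_X]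

theorem mem_Z_iff {x : Fin n → R} {e : Fin n → ℕ} {α β : ℕ} (hlt : β < α)
    (hc : ((β : K) - α) ≠ 0) (z : Fin α ⊕ Fin β → K) :
    z ∈ Transfer.Z θ (eqs x e α β) ↔
      (mp α (fun j => z (Sum.inl j))).coeff β = 0 ∧
      wronskian (mp α (fun j => z (Sum.inl j))) (mp β (fun j => z (Sum.inr j))) =
        C ((β : K) - α) * ∏ i, (X - C (θ (x i))) ^ (e i - 1) ∧
      ∀ i, ∃ s ∈ Submodule.span K {mp α (fun j => z (Sum.inl j)), mp β (fun j => z (Sum.inr j))},
        s ≠ 0 ∧ (X - C (θ (x i))) ^ (e i) ∣ s := by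
  set F := mp α (fun j => z (Sum.inl j)) with hF
  set G := mp β (fun j => z (Sum.inr j)) with hG
  set φ := MvPolynomial.eval₂Hom θ z with hφ
  have hφC : ∀ r, φ (MvPolynomial.C r) = θ r := fun r => by
    rw [hφ, MvPolynomial.coe_eval₂Hom, MvPolynomial.eval₂_C]
  have mF : (uF R α β).map φ = F := map_uF θ z
  have mG : (uG R α β).map φ = G := map_uG θ z
  have e1 : φ ((uF R α β).coeff β) = F.coeff β := by rw [← coeff_map, mF]
  have e2 : ∀ j, φ ((wronskian (uF R α β) (uG R α β) -
    C ((β : MvPolynomial (Fin α ⊕ Fin β) R) - α) *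
      ∏ i, (X - C (MvPolynomial.C (x i))) ^ (e i - 1)).coeff j) =
      (wronskian F G - C ((β : K) - α) * ∏ i, (X - C (θ (x i))) ^ (e i - 1)).coeff j := by
    intro j
    rw [← coeff_map, Polynomial.map_sub, map_wronskian, mF, mG, Polynomial.map_mul,
      map_C, map_sub, map_natCast, map_natCast, Polynomial.map_prod]
    simp only [Polynomial.map_pow, Polynomial.map_sub, map_X, map_C, hφC]
  have e3 : ∀ i a, φ ((taylor (MvPolynomial.C (x i)) (uF R α β)).coeff a) =
      (taylor (θ (x i)) F).coeff a := by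
    intro i a
    rw [← coeff_map, map_taylor, mF, hφC]
  have e4 : ∀ i a, φ ((taylor (MvPolynomial.C (x i)) (uG R α β)).coeff a) =
      (taylor (θ (x i)) G).coeff a := by
    intro i a
    rw [← coeff_map, map_taylor, mG, hφC]
  have hPr : (∏ i, (X - C (θ (x i))) ^ (e i - 1)) ≠ 0 :=
    (monic_prod_of_monic _ _ fun i _ => (monic_X_sub_C _).pow _).ne_zero
  constructor
  · intro hz
    have h1 : F.coeff β = 0 := by rw [← e1]; exact hz _ (Or.inl (Or.inl rfl))
    have h2 : wronskian F G = C ((β : K) - α) * ∏ i, (X - C (θ (x i))) ^ (e i - 1) := by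
      rw [← sub_eq_zero]
      ext j
      rw [← e2, coeff_zero]
      exact hz _ (Or.inl (Or.inr ⟨j, rfl⟩))
    refine ⟨h1, h2, fun i => ?_⟩
    have hW : wronskian F G ≠ 0 := by
      rw [h2]; exact mul_ne_zero (C_ne_zero.2 hc) hPr
    rw [exists_iff_minors (linInd_of_wr hW)]
    intro a ha b hb
    rw [← e3, ← e3, ← e4, ← e4, ← map_mul, ← map_mul, ← map_sub]
    exact hz _ (Or.inr ⟨i, a, ha, b, hb, rfl⟩)
  · rintro ⟨h1, h2, h3⟩
    rintro f ((rfl | ⟨j, rfl⟩) | ⟨i, a, ha, b, hb, rfl⟩)
    · exact e1.trans h1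
    · refine (e2 j).trans ?_
      rw [h2, sub_self, coeff_zero]
    · have hW : wronskian F G ≠ 0 := by
        rw [h2]; exact mul_ne_zero (C_ne_zero.2 hc) hPr
      have h4 := (exists_iff_minors (linInd_of_wr hW) _ _).1 (h3 i) a ha b hb
      rw [← e3, ← e3, ← e4, ← e4, ← map_mul, ← map_mul, ← map_sub] at h4
      exact h4

end Encode

section Count

variable {R : Type*} [CommRing R] {n : ℕ} {K : Type*} [Field K] [IsAlgClosed K] (θ : R →+* K)

/-- the bijection between solutions of the system and pencils -/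
theorem bijOn {x : Fin n → R} {e : Fin n → ℕ} {d : ℕ} (hP : Function.Injective fun i => θ (x i))
    (he : ∀ i, 1 ≤ e i) (hd : (∑ i, e i) + 2 = 2 * d + n) :
    Set.BijOn (fun z : Fin d ⊕ Fin (d - 1) → K =>
      Submodule.span K {mp d (fun j => z (Sum.inl j)), mp (d - 1) (fun j => z (Sum.inr j))})
      (Transfer.Z θ (eqs x e d (d - 1))) (ramMaps d (fun i => θ (x i)) e) := by
  have hd1 : 1 ≤ d := one_le_of_sum he hd
  have hlt : d - 1 < d := by omega
  have hc : (((d - 1 : ℕ) : K) - (d : ℕ)) ≠ 0 := by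
    rw [Nat.cast_sub hd1]; simp
  refine ⟨?_, ?_, ?_⟩
  · intro z hz
    obtain ⟨h1, h2, h3⟩ := (mem_Z_iff θ hlt hc z).1 hz
    refine span_mem_ramMaps hP he hd (natDegree_mp _ _).le
      ((natDegree_mp _ _).le.trans (Nat.sub_le _ _)) ?_ h3
    rw [h2]
    exact mul_ne_zero (C_ne_zero.2 hc)
      (monic_prod_of_monic _ _ fun i _ => (monic_X_sub_C _).pow _).ne_zero
  · intro z hz z' hz' hzz
    obtain ⟨h1, -, -⟩ := (mem_Z_iff θ hlt hc z).1 hz
    obtain ⟨h1', -, -⟩ := (mem_Z_iff θ hlt hc z').1 hz'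
    have cmp : ∀ (α : ℕ) (a : Fin α → K), (mp α a).coeff α = 1 := by
      intro α a
      have := (monic_mp α a).coeff_natDegree
      rwa [natDegree_mp] at this
    have dmp : ∀ (a : Fin (d - 1) → K), (mp (d - 1) a).coeff d = 0 := by
      intro a
      apply coeff_eq_zero_of_natDegree_lt
      rw [natDegree_mp]; exact hlt
    obtain ⟨g1, g2⟩ := eq_of_span_eq (cmp _ _) (cmp _ _) h1 h1' (cmp _ _) (cmp _ _)
      (dmp _) (dmp _) hzz
    funext s
    rcases s with j | j
    · have := congrArg (fun p : K[X] => p.coeff j) g1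
      simpa only [coeff_mp] using this
    · have := congrArg (fun p : K[X] => p.coeff j) g2
      simpa only [coeff_mp] using this
  · intro V hV
    obtain ⟨F, G, hNP, rfl⟩ := exists_np hP he hd hV
    refine ⟨Sum.elim (fun j => F.coeff j) (fun j => G.coeff j), ?_, ?_⟩
    · rw [mem_Z_iff θ hlt hc]
      simp only [Sum.elim_inl, Sum.elim_inr]
      rw [← eq_mp hNP.mF hNP.dF, ← eq_mp hNP.mG hNP.dG]
      exact ⟨hNP.nrm, (hNP.wr hP he (by omega)).1, hNP.sch⟩
    · simp only [Sum.elim_inl, Sum.elim_inr]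
      rw [← eq_mp hNP.mF hNP.dF, ← eq_mp hNP.mG hNP.dG]

end Count

end K807.Normal
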