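import Groth.Agent.W4c1limliniiii.K807.Wr

/-!
# Pencils of polynomials: bases, separability, membership in `ramMaps`
-/

set_option autoImplicit false
set_option linter.style.haveILetI false

open Polynomial W4c1limliniiii

namespace K807.Pencil

open K807.Wr

variable {k : Type*} [Field k]

theorem linInd_of_wr {F G : k[X]} (h : wronskian F G ≠ 0) : LinearIndependent k ![F, G] := by
  rw [LinearIndependent.pair_iff]
  intro s t hst
  have h1 : wronskian (s • F + t • G) G = s • wronskian F G := by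
    have := wr_comb s t 0 1 F G
    simpa using this
  have h2 : wronskian F (s • F + t • G) = t • wronskian F G := by
    have := wr_comb 1 0 s t F G
    simpa using this
  rw [hst, wronskian_zero_left] at h1
  rw [hst, wronskian_zero_right] at h2
  exact ⟨by simpa [h] using h1.symm, by simpa [h] using h2.symm⟩

theorem finrank_span_pair {F G : k[X]} (h : LinearIndependent k ![F, G]) :
    Module.finrank k (Submodule.span k {F, G}) = 2 := by
  have := finrank_span_eq_card h
  rw [Matrix.range_cons, Matrix.range_cons, Matrix.range_empty, Set.union_empty,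
    Set.singleton_union] at this
  simpa using this

theorem eq_span_pair {V : Submodule k k[X]} (hV : Module.finrank k V = 2) {F G : k[X]}
    (hF : F ∈ V) (hG : G ∈ V) (h : LinearIndependent k ![F, G]) :
    V = Submodule.span k {F, G} := by
  have hle : Submodule.span k {F, G} ≤ V := by
    rw [Submodule.span_le]
    rintro x (rfl | rfl)
    · exact hF
    · exact hG
  haveI : FiniteDimensional k V := Module.finite_of_finrank_pos (by rw [hV]; norm_num)
  exact (Submodule.eq_of_le_of_finrank_eq hle (by rw [finrank_span_pair h, hV])).symm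

theorem linInd_of_not_mem {F G : k[X]} (hG0 : G ≠ 0) (hF : F ∉ Submodule.span k {G}) :
    LinearIndependent k ![F, G] := by
  rw [LinearIndependent.pair_iff]
  intro s t hst
  have hs : s = 0 := by
    by_contra hs
    apply hF
    have h1 : F = (-(s⁻¹ * t)) • G := by
      have h2 : s • F = -(t • G) := eq_neg_of_add_eq_zero_left hst
      calc F = s⁻¹ • s • F := by rw [smul_smul, inv_mul_cancel₀ hs, one_smul]
        _ = _ := by rw [h2, smul_neg, smul_smul, neg_smul]
    rw [h1]
    exact Submodule.smul_mem _ _ (Submodule.mem_span_singleton_self G)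
  subst hs
  rw [zero_smul, zero_add] at hst
  exact ⟨rfl, (smul_eq_zero.1 hst).resolve_right hG0⟩

/-- every non-zero member can be completed to a basis -/
theorem exists_pair_of_mem {V : Submodule k k[X]} (hV : Module.finrank k V = 2) {G : k[X]}
    (hG : G ∈ V) (hG0 : G ≠ 0) : ∃ F ∈ V, LinearIndependent k ![F, G] ∧
      V = Submodule.span k {F, G} := by
  haveI : FiniteDimensional k V := Module.finite_of_finrank_pos (by rw [hV]; norm_num)
  have h : ∃ F ∈ V, F ∉ Submodule.span k {G} := by
    by_contra h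
    push Not at h
    have h1 : Module.finrank k V ≤ Module.finrank k (Submodule.span k {G}) :=
      Submodule.finrank_mono h
    rw [hV, finrank_span_singleton hG0] at h1
    omega
  obtain ⟨F, hF, hFG⟩ := h
  have hli := linInd_of_not_mem hG0 hFG
  exact ⟨F, hF, hli, eq_span_pair hV hF hG hli⟩

theorem exists_pair (V : Submodule k k[X]) (hV : Module.finrank k V = 2) :
    ∃ F G : k[X], F ∈ V ∧ G ∈ V ∧ LinearIndependent k ![F, G] ∧ V = Submodule.span k {F, G} := by
  have h0 : V ≠ ⊥ := by
    rintro rfl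
    rw [finrank_bot] at hV
    omega
  obtain ⟨G, hG, hG0⟩ := Submodule.exists_mem_ne_zero_of_ne_bot h0
  obtain ⟨F, hF, h1, h2⟩ := exists_pair_of_mem hV hG hG0
  exact ⟨F, G, hF, hG, h1, h2⟩

/-- there is a non-zero member with a prescribed coefficient zero -/
theorem exists_coeff_eq_zero {V : Submodule k k[X]} (hV : Module.finrank k V = 2) (j : ℕ) :
    ∃ G ∈ V, G ≠ 0 ∧ G.coeff j = 0 := by
  obtain ⟨F, G, hF, hG, hli, -⟩ := exists_pair V hV
  rw [LinearIndependent.pair_iff] at hli
  by_cases h : G.coeff j = 0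
  · refine ⟨G, hG, ?_, h⟩
    rintro rfl
    have := (hli 0 1 (by simp)).2
    exact one_ne_zero this
  · refine ⟨G.coeff j • F - F.coeff j • G, V.sub_mem (V.smul_mem _ hF) (V.smul_mem _ hG), ?_, ?_⟩
    · intro h0
      rw [sub_eq_add_neg, ← neg_smul] at h0
      exact h (hli _ _ h0).1
    · rw [coeff_sub, coeff_smul, coeff_smul, smul_eq_mul, smul_eq_mul]
      ring

theorem natDegree_le_of_mem {V : Submodule k k[X]} {d : ℕ} (h : V ≤ degreeLE k d) {s : k[X]}
    (hs : s ∈ V) : s.natDegree ≤ d :=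
  natDegree_le_iff_degree_le.2 (mem_degreeLE.1 (h hs))

theorem le_degreeLE_of {F G : k[X]} {d : ℕ} (hF : F.natDegree ≤ d) (hG : G.natDegree ≤ d) :
    Submodule.span k {F, G} ≤ degreeLE k d := by
  rw [Submodule.span_le]
  rintro x (rfl | rfl)
  · exact mem_degreeLE.2 (natDegree_le_iff_degree_le.1 hF)
  · exact mem_degreeLE.2 (natDegree_le_iff_degree_le.1 hG)

/-- A pencil has a basis with second member of smaller degree bound. -/
theorem exists_basis_deg {V : Submodule k k[X]} (hV : Module.finrank k V = 2) {d : ℕ}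
    (hd : 1 ≤ d) (hle : V ≤ degreeLE k d) :
    ∃ F G : k[X], F ∈ V ∧ G ∈ V ∧ LinearIndependent k ![F, G] ∧ V = Submodule.span k {F, G} ∧
      F.natDegree ≤ d ∧ G.natDegree ≤ d - 1 := by
  obtain ⟨G, hG, hG0, hGd⟩ := exists_coeff_eq_zero hV d
  obtain ⟨F, hF, h1, h2⟩ := exists_pair_of_mem hV hG hG0
  refine ⟨F, G, hF, hG, h1, h2, natDegree_le_of_mem hle hF, ?_⟩
  have h3 := natDegree_le_of_mem hle hG
  have h4 : G.natDegree ≠ d := by
    intro h
    apply hG0
    rw [← leadingCoeff_eq_zero, leadingCoeff, h, hGd]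
  omega

/-- A pencil has a basis with strictly decreasing degrees. -/
theorem exists_basis_deg_lt {V : Submodule k k[X]} (hV : Module.finrank k V = 2) :
    ∃ F G : k[X], F ∈ V ∧ G ∈ V ∧ G ≠ 0 ∧ LinearIndependent k ![F, G] ∧
      V = Submodule.span k {F, G} ∧ G.natDegree < F.natDegree := by
  obtain ⟨A, B, hA, hB, hli, hVe⟩ := exists_pair V hV
  rw [LinearIndependent.pair_iff] at hli
  have hA0 : A ≠ 0 := by
    rintro rfl
    exact one_ne_zero (hli 1 0 (by simp)).1
  have hB0 : B ≠ 0 := by
    rintro rfl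
    exact one_ne_zero (hli 0 1 (by simp)).2
  obtain ⟨F, hF, hF0, hmax⟩ : ∃ F ∈ V, F ≠ 0 ∧ ∀ s ∈ V, s.natDegree ≤ F.natDegree := by
    have hmem : ∀ s ∈ V, s.natDegree ≤ max A.natDegree B.natDegree := by
      intro s hs
      rw [hVe] at hs
      obtain ⟨x, y, rfl⟩ := Submodule.mem_span_pair.1 hs
      exact (natDegree_add_le _ _).trans (max_le_max (natDegree_smul_le _ _)
        (natDegree_smul_le _ _))
    rcases le_total A.natDegree B.natDegree with h | h
    · exact ⟨B, hB, hB0, fun s hs => (hmem s hs).trans (max_le h le_rfl)⟩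
    · exact ⟨A, hA, hA0, fun s hs => (hmem s hs).trans (max_le le_rfl h)⟩
  obtain ⟨G, hG, hG0, hGd⟩ := exists_coeff_eq_zero hV F.natDegree
  have hlt : G.natDegree < F.natDegree := by
    refine lt_of_le_of_ne (hmax G hG) ?_
    intro h
    apply hG0
    rw [← leadingCoeff_eq_zero, leadingCoeff, h, hGd]
  have hli' : LinearIndependent k ![F, G] := by
    apply linInd_of_not_mem hG0
    intro h
    obtain ⟨c, rfl⟩ := Submodule.mem_span_singleton.1 h
    exact absurd (natDegree_smul_le c G) (not_le.2 hlt)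
  exact ⟨F, G, hF, hG, hG0, hli', eq_span_pair hV hF hG hli', hlt⟩

theorem isSeparable_iff {V : Submodule k k[X]} {F G : k[X]} (hV : V = Submodule.span k {F, G}) :
    IsSeparable V ↔ wronskian F G ≠ 0 := by
  constructor
  · rintro ⟨s, hs, t, ht, hst⟩ h
    rw [hV] at hs ht
    obtain ⟨c, hc⟩ := exists_wr_eq hs ht
    rw [hc, h, smul_zero] at hst
    exact hst rfl
  · intro h
    exact ⟨F, by rw [hV]; exact Submodule.subset_span (by simp), G,
      by rw [hV]; exact Submodule.subset_span (by simp), h⟩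

/-- the wronskian of a separable pencil in the intersection of the Schubert conditions -/
theorem wr_of_schubert {n : ℕ} {P : Fin n → k} (hP : Function.Injective P) {e : Fin n → ℕ}
    (he : ∀ i, 1 ≤ e i) {d : ℕ} (hd : (∑ i, e i) + 2 = 2 * d + n) {F G : k[X]}
    (hF : F.natDegree ≤ d) (hG : G.natDegree ≤ d - 1)
    (hs : ∀ i, ∃ s ∈ Submodule.span k {F, G}, s ≠ 0 ∧ (X - C (P i)) ^ (e i) ∣ s) :
    wronskian F G = C (-(F.coeff d * G.coeff (d - 1))) * ∏ i, (X - C (P i)) ^ (e i - 1) := by
  have hd1 : 1 ≤ d := by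
    have : n ≤ ∑ i, e i := by
      calc n = ∑ _i : Fin n, 1 := by simp
        _ ≤ _ := Finset.sum_le_sum (fun i _ => he i)
    omega
  rw [wr_eq hP he (α := d) (β := d - 1) (by omega) hF hG hs]
  congr 2
  rw [Nat.cast_sub hd1]
  push_cast
  ring

theorem one_le_of_sum {n : ℕ} {e : Fin n → ℕ} (he : ∀ i, 1 ≤ e i) {d : ℕ}
    (hd : (∑ i, e i) + 2 = 2 * d + n) : 1 ≤ d := by
  have : n ≤ ∑ i, e i := by
    calc n = ∑ _i : Fin n, 1 := by simp
      _ ≤ _ := Finset.sum_le_sum (fun i _ => he i)
  omega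

/-- **Membership criterion for `ramMaps`**. -/
theorem mem_ramMaps_of {n : ℕ} {P : Fin n → k} (hP : Function.Injective P) {e : Fin n → ℕ}
    (he : ∀ i, 1 ≤ e i) {d : ℕ} (hd : (∑ i, e i) + 2 = 2 * d + n) {V : Submodule k k[X]}
    (h1 : V ≤ degreeLE k d) (h2 : Module.finrank k V = 2) (h3 : IsSeparable V)
    (h4 : ∀ i, ∃ s ∈ V, s ≠ 0 ∧ e i ≤ rootMultiplicity (P i) s) : V ∈ ramMaps d P e := by
  have hd1 := one_le_of_sum he hd
  obtain ⟨F, G, hF, hG, hli, hV, hFd, hGd⟩ := exists_basis_deg h2 hd1 h1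
  have h4' : ∀ i, ∃ s ∈ Submodule.span k {F, G}, s ≠ 0 ∧ (X - C (P i)) ^ (e i) ∣ s := by
    intro i
    obtain ⟨s, hs, hs0, hsm⟩ := h4 i
    exact ⟨s, hV ▸ hs, hs0, (le_rootMultiplicity_iff hs0).1 hsm⟩
  have hW := wr_of_schubert hP he hd hFd hGd h4'
  have hW0 : wronskian F G ≠ 0 := (isSeparable_iff hV).1 h3
  have hc : -(F.coeff d * G.coeff (d - 1)) ≠ 0 := by
    intro h
    rw [h, C_0, zero_mul] at hW
    exact hW0 hW
  refine ⟨⟨h1, h2, ⟨F, hF, ?_⟩, ?_⟩, h3, ?_⟩
  · refine le_antisymm hFd (le_natDegree_of_ne_zero ?_)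
    intro h
    rw [h, zero_mul, neg_zero] at hc
    exact hc rfl
  · intro a
    have := exists_eval_ne_zero hP he hc hW h4' a
    rwa [← hV] at this
  · intro i
    refine ⟨h4 i, ?_⟩
    intro s hs hs0
    exact rootMultiplicity_le hP he hc hW i (hV ▸ hs) hs0

theorem schubert_of_mem {n : ℕ} {P : Fin n → k} {e : Fin n → ℕ} {d : ℕ} {V : Submodule k k[X]}
    (h : V ∈ ramMaps d P e) {F G : k[X]} (hV : V = Submodule.span k {F, G}) :
    ∀ i, ∃ s ∈ Submodule.span k {F, G}, s ≠ 0 ∧ (X - C (P i)) ^ (e i) ∣ s := by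
  intro i
  obtain ⟨s, hs, hs0, hsm⟩ := (h.2.2 i).1
  exact ⟨s, hV ▸ hs, hs0, (le_rootMultiplicity_iff hs0).1 hsm⟩

/-- coprimality of a basis of a base-point-free pencil -/
theorem isCoprime_of_isPencil [IsAlgClosed k] {d : ℕ} {V : Submodule k k[X]} (h : IsPencil d V)
    {F G : k[X]} (hV : V = Submodule.span k {F, G}) : IsCoprime F G := by
  rw [Polynomial.isCoprime_iff_aeval_ne_zero_of_isAlgClosed k k]
  intro a
  obtain ⟨s, hs, hsa⟩ := h.2.2.2 a
  by_contra hcon
  push Not at hcon
  rw [hV] at hs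
  obtain ⟨x, y, rfl⟩ := Submodule.mem_span_pair.1 hs
  apply hsa
  have h1 := hcon.1
  have h2 := hcon.2
  rw [coe_aeval_eq_eval] at h1 h2
  simp [h1, h2]

/-- If the Wronskian vanishes to order `≥ r` at a non-base point `a`, with `r < p` or `p = 0`,
then the pencil contains a non-zero member vanishing to order `≥ r + 1`. -/
theorem exists_pow_dvd_of_wr (p : ℕ) [CharP k p] {F G : k[X]} {a : k} {r : ℕ}
    (hbpf : F.eval a ≠ 0 ∨ G.eval a ≠ 0) (hW0 : wronskian F G ≠ 0)
    (hW : (X - C a) ^ r ∣ wronskian F G) (hr : p = 0 ∨ r < p) :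
    ∃ s ∈ Submodule.span k {F, G}, s ≠ 0 ∧ (X - C a) ^ (r + 1) ∣ s := by
  -- key statement for a pair with `B` not vanishing at `a` and `A` vanishing
  have key : ∀ A B : k[X], wronskian A B ≠ 0 → A.eval a = 0 → B.eval a ≠ 0 →
      (X - C a) ^ r ∣ wronskian A B → (X - C a) ^ (r + 1) ∣ A := by
    intro A B hAB hA hB hdvd
    have hA0 : A ≠ 0 := by rintro rfl; exact hAB (wronskian_zero_left _)
    obtain ⟨u, hu⟩ := pow_rootMultiplicity_dvd A a
    set m := rootMultiplicity a A with hm
    have hm1 : 1 ≤ m := (rootMultiplicity_pos hA0).2 hA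
    have hu0 : u.eval a ≠ 0 := by
      intro h0
      have h1 : (X - C a) ^ (m + 1) ∣ A := by
        rw [hu, pow_succ]
        exact mul_dvd_mul_left _ (dvd_iff_isRoot.2 h0)
      have := (le_rootMultiplicity_iff hA0).2 h1
      omega
    by_contra hcon
    have hmr : m ≤ r := by
      by_contra h
      apply hcon
      rw [hu]
      exact Dvd.dvd.mul_right (pow_dvd_pow _ (by omega)) _
    have h1 := wr_pow a m 0 (by omega) u B
    rw [pow_zero, one_mul, ← hu, add_zero] at h1
    have h2 : (X - C a) ^ (m - 1) * (X - C a) ∣ wronskian A B := by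
      rw [← pow_succ]
      exact (pow_dvd_pow _ (by omega)).trans hdvd
    rw [h1] at h2
    have h3 := (mul_dvd_mul_iff_left (pow_ne_zero _ (X_sub_C_ne_zero a))).1 h2
    rw [dvd_iff_isRoot, IsRoot] at h3
    simp only [eval_add, eval_mul, eval_sub, eval_X, eval_C, sub_self, zero_mul, add_zero,
      Nat.cast_zero, zero_sub, eval_neg, eval_natCast, neg_mul, neg_eq_zero, mul_eq_zero,
      hu0, hB, or_false] at h3
    rcases hr with hr | hr
    · subst hr
      haveI := CharP.charP_to_charZero k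
      exact absurd (Nat.cast_eq_zero.1 h3) (by omega)
    · have h4 := (CharP.cast_eq_zero_iff k p m).1 h3
      exact absurd (Nat.le_of_dvd (by omega) h4) (by omega)
  rcases hbpf with h | h
  · refine ⟨(-(G.eval a / F.eval a)) • F + (1 : k) • G, ?_, ?_, ?_⟩
    · exact Submodule.mem_span_pair.2 ⟨_, _, rfl⟩
    · intro h0
      have := wr_comb 1 0 (-(G.eval a / F.eval a)) 1 F G
      rw [h0, wronskian_zero_right] at this
      rw [one_mul, mul_zero, sub_zero, one_smul] at this
      exact hW0 this.symm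
    · have e1 : wronskian ((-(G.eval a / F.eval a)) • F + (1 : k) • G) F = -wronskian F G := by
        have := wr_comb (-(G.eval a / F.eval a)) 1 1 0 F G
        simp only [one_smul, zero_smul, add_zero] at this
        rw [one_smul, this]
        simp
      refine key _ F ?_ ?_ h ?_
      · rw [e1]; exact neg_ne_zero.2 hW0
      · simp only [eval_add, eval_smul, smul_eq_mul]
        field_simp
        ring
      · rw [e1, dvd_neg]; exact hW
  · refine ⟨(1 : k) • F + (-(F.eval a / G.eval a)) • G, ?_, ?_, ?_⟩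
    · exact Submodule.mem_span_pair.2 ⟨_, _, rfl⟩
    · intro h0
      have := wr_comb 1 (-(F.eval a / G.eval a)) 0 1 F G
      rw [h0, wronskian_zero_left] at this
      rw [one_mul, zero_mul, sub_zero, one_smul] at this
      exact hW0 this.symm
    · have e1 : wronskian ((1 : k) • F + (-(F.eval a / G.eval a)) • G) G = wronskian F G := by
        have := wr_comb 1 (-(F.eval a / G.eval a)) 0 1 F G
        simp only [zero_smul, one_smul, zero_add] at this
        rw [one_smul, this]
        simp
      refine key _ G ?_ ?_ h ?_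
      · rw [e1]; exact hW0
      · simp only [eval_add, eval_smul, smul_eq_mul]
        field_simp
        ring
      · rw [e1]; exact hW

end K807.Pencil
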