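import Groth.Agent.W4c1limliniiii.K807.Flip
import Groth.Agent.W4c1limliniiii.K807.Three

/-!
# Infinitesimal rigidity of pencils with prescribed ramification; translations
-/

set_option autoImplicit false
set_option linter.style.haveILetI false
universe u

open Polynomial

namespace K807.Rigid

open K807.Wr K807.Pencil K807.Bound K807.Normal K807.Flip W4c1limliniiii

variable {K : Type*} [Field K]

/-- infinitesimal rigidity of a pencil with prescribed ramification -/
def Rigid (d : ℕ) {n : ℕ} (P : Fin n → K) (e : Fin n → ℕ) (V : Submodule K K[X]) : Prop :=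
  ∀ τ : K[X] →ₗ[K] K[X], (∀ s ∈ V, (τ s).natDegree ≤ d) →
    (∀ i, ∀ s ∈ V, (X - C (P i)) ^ (e i) ∣ s → ∃ r ∈ V, (X - C (P i)) ^ (e i) ∣ τ s - r) →
    ∀ s ∈ V, τ s ∈ V

theorem exists_map {F G : K[X]} (hli : LinearIndependent K ![F, G]) (F₁ G₁ : K[X]) :
    ∃ τ : K[X] →ₗ[K] K[X], τ F = F₁ ∧ τ G = G₁ := by
  obtain ⟨τ, hτ⟩ := LinearMap.exists_extend ((Module.Basis.span hli).constr K ![F₁, G₁])
  have h : ∀ i, τ (![F, G] i) = ![F₁, G₁] i := by
    intro i
    have h1 := congrArg (fun g => g (Module.Basis.span hli i)) hτ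
    simp only [LinearMap.comp_apply, Submodule.subtype_apply, Module.Basis.constr_basis] at h1
    rwa [Module.Basis.span_apply] at h1
  exact ⟨τ, h 0, h 1⟩

theorem natDegree_comb_le {x y : K} {F G : K[X]} {d : ℕ} (hF : F.natDegree ≤ d)
    (hG : G.natDegree ≤ d) : (x • F + y • G).natDegree ≤ d :=
  (natDegree_add_le _ _).trans (max_le ((natDegree_smul_le _ _).trans hF)
    ((natDegree_smul_le _ _).trans hG))

theorem eval_pow_mul {a : K} {m : ℕ} (hm : 1 ≤ m) (w : K[X]) : ((X - C a) ^ m * w).eval a = 0 := by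
  rw [eval_mul, eval_pow, eval_sub, eval_X, eval_C, sub_self, zero_pow (by omega), zero_mul]

section Translate

theorem dvd_taylor_iff (c a : K) (m : ℕ) (s : K[X]) :
    (X - C (a - c)) ^ m ∣ taylor c s ↔ (X - C a) ^ m ∣ s := by
  have h1 : taylor c ((X - C a) ^ m) = (X - C (a - c)) ^ m := by
    rw [taylor_pow, map_sub, taylor_X, taylor_C, C_sub]
    congr 1; ring
  rw [← h1]
  exact map_dvd_iff (taylorEquiv c)

theorem taylor_neg_taylor (c : K) (s : K[X]) : taylor (-c) (taylor c s) = s := by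
  rw [taylor_taylor, neg_add_cancel, taylor_zero]

theorem wronskian_taylor (c : K) (F G : K[X]) :
    wronskian (taylor c F) (taylor c G) = taylor c (wronskian F G) := by
  have h : ∀ f : K[X], derivative (taylor c f) = taylor c (derivative f) := by
    intro f
    rw [taylor_apply, taylor_apply, derivative_comp]
    simp
  rw [wronskian, wronskian, h, h, map_sub, taylor_mul, taylor_mul]

variable {n : ℕ} {P : Fin n → K} {e : Fin n → ℕ} {d : ℕ}

theorem translate_mem (hP : Function.Injective P) (he : ∀ i, 1 ≤ e i)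
    (hd : (∑ i, e i) + 2 = 2 * d + n) {V : Submodule K K[X]} (hV : V ∈ ramMaps d P e) (c : K) :
    V.map (taylor c) ∈ ramMaps d (fun i => P i - c) e := by
  obtain ⟨F, G, hF, hG, hli, hVs⟩ := exists_pair V hV.1.2.1
  rw [hVs, Submodule.map_span, Set.image_pair]
  refine span_mem_ramMaps (fun i j hij => hP (sub_left_inj.1 hij)) he hd ?_ ?_ ?_ ?_
  · rw [natDegree_taylor]; exact natDegree_le_of_mem hV.1.1 hF
  · rw [natDegree_taylor]; exact natDegree_le_of_mem hV.1.1 hG
  · rw [wronskian_taylor, Ne, taylor_eq_zero]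
    exact (isSeparable_iff hVs).1 hV.2.1
  · intro i
    obtain ⟨s, hs, hs0, hd⟩ := schubert_of_mem hV hVs i
    refine ⟨taylor c s, ?_, ?_, (dvd_taylor_iff _ _ _ _).2 hd⟩
    · have : taylor c s ∈ (Submodule.span K {F, G}).map (taylor c) := ⟨s, hs, rfl⟩
      rwa [Submodule.map_span, Set.image_pair] at this
    · rwa [Ne, taylor_eq_zero]

theorem map_map_taylor (V : Submodule K K[X]) (c : K) :
    (V.map (taylor c)).map (taylor (-c)) = V := by
  rw [← Submodule.map_comp]
  have : (taylor (-c)).comp (taylor c) = (LinearMap.id : K[X] →ₗ[K] K[X]) := by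
    apply LinearMap.ext
    intro s
    exact taylor_neg_taylor c s
  rw [this, Submodule.map_id]

/-- translation invariance of the number of pencils -/
theorem card_translate (hP : Function.Injective P) (he : ∀ i, 1 ≤ e i)
    (hd : (∑ i, e i) + 2 = 2 * d + n) (c : K) :
    Nat.card (ramMaps d P e) = Nat.card (ramMaps d (fun i => P i - c) e) := by
  have hP' : Function.Injective fun i => P i - c := fun i j hij => hP (sub_left_inj.1 hij)
  have hPc : (fun i => P i - c - -c) = P := by funext i; ring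
  refine Nat.card_congr
    { toFun := fun V => ⟨V.1.map (taylor c), translate_mem hP he hd V.2 c⟩
      invFun := fun V => ⟨V.1.map (taylor (-c)), by
        have := translate_mem hP' he hd V.2 (-c)
        rwa [hPc] at this⟩
      left_inv := fun V => Subtype.ext (map_map_taylor V.1 c)
      right_inv := fun V => Subtype.ext (by
        have := map_map_taylor V.1 (-c)
        rwa [neg_neg] at this) }

theorem mem_iff_translate (hP : Function.Injective P) (he : ∀ i, 1 ≤ e i)
    (hd : (∑ i, e i) + 2 = 2 * d + n) (c : K) {V : Submodule K K[X]} :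
    V.map (taylor c) ∈ ramMaps d (fun i => P i - c) e ↔ V ∈ ramMaps d P e := by
  refine ⟨fun h => ?_, fun h => translate_mem hP he hd h c⟩
  have hP' : Function.Injective fun i => P i - c := fun i j hij => hP (sub_left_inj.1 hij)
  have hPc : (fun i => P i - c - -c) = P := by funext i; ring
  have := translate_mem hP' he hd h (-c)
  rwa [hPc, map_map_taylor] at this

theorem Rigid.of_translate {V : Submodule K K[X]} (c : K)
    (h : Rigid d (fun i => P i - c) e (V.map (taylor c))) : Rigid d P e V := by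
  intro τ h1 h2 s hs
  have h3 := h ((taylor c).comp (τ.comp (taylor (-c)))) ?_ ?_ (taylor c s) ⟨s, hs, rfl⟩
  · obtain ⟨r, hr, hr'⟩ := h3
    simp only [LinearMap.comp_apply, taylor_neg_taylor] at hr'
    rw [← taylor_injective c hr']
    exact hr
  · rintro _ ⟨r, hr, rfl⟩
    simp only [LinearMap.comp_apply, taylor_neg_taylor]
    rw [natDegree_taylor]
    exact h1 r hr
  · rintro i _ ⟨r, hr, rfl⟩ hd
    obtain ⟨r', hr', hd'⟩ := h2 i r hr ((dvd_taylor_iff _ _ _ _).1 hd)
    refine ⟨taylor c r', ⟨r', hr', rfl⟩, ?_⟩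
    simp only [LinearMap.comp_apply, taylor_neg_taylor]
    rw [← map_sub]
    exact (dvd_taylor_iff _ _ _ _).2 hd'

end Translate

section Three

/-- three-point pencils are rigid -/
theorem rigid_three [IsAlgClosed K] {P : Fin 3 → K} (hP : Function.Injective P) {e : Fin 3 → ℕ}
    {d : ℕ} (hd : (∑ i, e i) + 2 = 2 * d + 3) {V : Submodule K K[X]}
    (hV : V ∈ ramMaps d P e) : Rigid d P e V := by
  have hed : ∀ i, e i ≤ d := by
    intro i
    obtain ⟨s, hs, hs0, hm⟩ := (hV.2.2 i).1
    have h1 := (le_rootMultiplicity_iff hs0).1 hm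
    have h2 := natDegree_le_of_dvd h1 hs0
    rw [natDegree_pow, natDegree_X_sub_C, mul_one] at h2
    exact h2.trans (natDegree_le_of_mem hV.1.1 hs)
  obtain ⟨s₀, s₁, hVs, hli, d0, d1, d2⟩ := Three.exists_normal hP hed hd (Three.sch_of_mem hV)
  have m0 : s₀ ∈ V := by rw [hVs]; exact Submodule.subset_span (by simp)
  have m1 : s₁ ∈ V := by rw [hVs]; exact Submodule.subset_span (by simp)
  have hcop := isCoprime_of_isPencil hV.1 hVs
  have hs₀ : s₀ ≠ 0 := hli.ne_zero 0
  intro τ hdeg hcond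
  obtain ⟨r₀, hr₀, c0⟩ := hcond 0 s₀ m0 d0
  obtain ⟨r₁, hr₁, c1⟩ := hcond 1 s₁ m1 d1
  obtain ⟨r₂, hr₂, c2⟩ := hcond 2 (s₀ + s₁) (V.add_mem m0 m1) d2
  have hr : r₂ - r₀ - r₁ ∈ V := V.sub_mem (V.sub_mem hr₂ hr₀) hr₁
  have hr' := hr
  rw [hVs] at hr'
  obtain ⟨x, y, hxy⟩ := Submodule.mem_span_pair.1 hr'
  set A := τ s₀ - r₀ - (x - y) • s₀ with hA
  set B := τ s₁ - r₁ with hB
  have dA : (X - C (P 0)) ^ (e 0) ∣ A := dvd_sub c0 (dvd_smul_of_dvd _ d0)
  have dAB : (X - C (P 2)) ^ (e 2) ∣ A + B := by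
    have : A + B = (τ (s₀ + s₁) - r₂) + y • (s₀ + s₁) := by
      rw [hA, hB, map_add]
      have : r₂ = r₀ + r₁ + (x • s₀ + y • s₁) := by rw [hxy]; ring
      rw [this]
      simp only [smul_eq_C_mul, C_sub]
      ring
    rw [this]
    exact dvd_add c2 (dvd_smul_of_dvd _ d2)
  have nA : A.natDegree ≤ d := by
    refine (natDegree_sub_le _ _).trans (max_le ((natDegree_sub_le _ _).trans
      (max_le (hdeg _ m0) (natDegree_le_of_mem hV.1.1 hr₀))) ?_)
    exact (natDegree_smul_le _ _).trans (natDegree_le_of_mem hV.1.1 m0)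
  have nB : B.natDegree ≤ d :=
    (natDegree_sub_le _ _).trans (max_le (hdeg _ m1) (natDegree_le_of_mem hV.1.1 hr₁))
  have hD : A * s₁ - s₀ * B = 0 := by
    by_contra hne
    have hdv : ∏ i, (X - C (P i)) ^ (e i) ∣ A * s₁ - s₀ * B := by
      apply prod_pow_dvd hP
      intro i
      fin_cases i
      · exact dvd_sub (Dvd.dvd.mul_right dA _) (Dvd.dvd.mul_right d0 _)
      · exact dvd_sub (Dvd.dvd.mul_left d1 _) (Dvd.dvd.mul_left c1 _)
      · have : A * s₁ - s₀ * B = A * (s₀ + s₁) - s₀ * (A + B) := by ring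
        show (X - C (P 2)) ^ (e 2) ∣ A * s₁ - s₀ * B
        rw [this]
        exact dvd_sub (Dvd.dvd.mul_left d2 _) (Dvd.dvd.mul_left dAB _)
    have h1 := natDegree_le_of_dvd hdv hne
    rw [natDegree_prod_pow] at h1
    have h2 : (A * s₁ - s₀ * B).natDegree ≤ d + d := by
      refine (natDegree_sub_le _ _).trans (max_le ?_ ?_)
      · exact natDegree_mul_le.trans (add_le_add nA (natDegree_le_of_mem hV.1.1 m1))
      · exact natDegree_mul_le.trans (add_le_add (natDegree_le_of_mem hV.1.1 m0) nB)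
    omega
  have h1 : s₀ ∣ A := by
    apply hcop.dvd_of_dvd_mul_right
    rw [sub_eq_zero.1 hD]
    exact dvd_mul_right _ _
  obtain ⟨h, hh⟩ := h1
  have hB' : B = s₁ * h := by
    have : s₀ * B = s₀ * (s₁ * h) := by
      rw [← sub_eq_zero.1 hD, hh]; ring
    exact mul_left_cancel₀ hs₀ this
  have hh0 : ∃ c : K, h = C c := by
    obtain ⟨s, hs, hsd⟩ := hV.1.2.2.1
    have hs' := hs
    rw [hVs] at hs'
    obtain ⟨x', y', rfl⟩ := Submodule.mem_span_pair.1 hs'
    by_cases hh1 : h = 0
    · exact ⟨0, by rw [hh1, C_0]⟩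
    have h2 : ((x' • s₀ + y' • s₁) * h).natDegree ≤ d := by
      have : (x' • s₀ + y' • s₁) * h = x' • A + y' • B := by
        rw [hh, hB', add_mul, smul_mul_assoc, smul_mul_assoc]
      rw [this]
      exact natDegree_comb_le nA nB
    have hd1 : 1 ≤ d := by
      by_contra hd0
      have := hed 0; have := hed 1; have := hed 2
      rw [Fin.sum_univ_three] at hd
      omega
    have hs0 : x' • s₀ + y' • s₁ ≠ 0 := by
      intro h0
      rw [h0, natDegree_zero] at hsd
      omega
    rw [natDegree_mul hs0 hh1, hsd] at h2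
    exact ⟨h.coeff 0, eq_C_of_natDegree_le_zero (by omega)⟩
  obtain ⟨c, hc⟩ := hh0
  have t0 : τ s₀ ∈ V := by
    have : τ s₀ = c • s₀ + (x - y) • s₀ + r₀ := by
      have h3 : A = c • s₀ := by rw [hh, hc, smul_eq_C_mul, mul_comm]
      rw [← h3, hA]; ring
    rw [this]
    exact V.add_mem (V.add_mem (V.smul_mem _ m0) (V.smul_mem _ m0)) hr₀
  have t1 : τ s₁ ∈ V := by
    have : τ s₁ = c • s₁ + r₁ := by
      have h3 : B = c • s₁ := by rw [hB', hc, smul_eq_C_mul, mul_comm]
      rw [← h3, hB]; ring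
    rw [this]
    exact V.add_mem (V.smul_mem _ m1) hr₁
  intro s hs
  rw [hVs] at hs
  obtain ⟨x', y', rfl⟩ := Submodule.mem_span_pair.1 hs
  rw [map_add, map_smul, map_smul]
  exact V.add_mem (V.smul_mem _ t0) (V.smul_mem _ t1)

end Three

section Flip

variable {p : ℕ}

/-- rigidity is invariant under flips -/
theorem rigid_flip [Fact p.Prime] [CharP K p] {n : ℕ} {P : Fin n → K}
    (hP : Function.Injective P) {e e' : Fin n → ℕ} {d d' : ℕ} (he : ∀ l, 1 ≤ e l)
    (hlt : ∀ l, e l < p) {i j : Fin n}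
    (hi : e' i = p - e i) (hj : e' j = p - e j) (hl : ∀ l, l ≠ i → l ≠ j → e' l = e l)
    (hdd : d' + e i + e j = d + p) {V V' : Submodule K K[X]} (hV : V ∈ ramMaps d P e)
    (hV' : V' ∈ ramMaps d' P e') (hrel : Rel p (P i) (P j) (e i) (e j) V V')
    (hR : Rigid d' P e' V') : Rigid d P e V := by
  obtain ⟨u, v, h1, h2⟩ := hrel
  set a := P i with ha
  set b := P j with hb
  have ei := hlt i
  have ej := hlt j
  have ei1 := he i
  have ej1 := he j
  set F := (X - C a) ^ (e i) * u with hF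
  set G := (X - C b) ^ (e j) * v with hG
  set F' := (X - C b) ^ (p - e j) * u with hF'
  set G' := (X - C a) ^ (p - e i) * v with hG'
  have hli : LinearIndependent K ![F, G] := linInd_of_wr ((isSeparable_iff h1).1 hV.2.1)
  have hli' : LinearIndependent K ![F', G'] := linInd_of_wr ((isSeparable_iff h2).1 hV'.2.1)
  have mF : F ∈ V := by rw [h1]; exact Submodule.subset_span (by simp)
  have mG : G ∈ V := by rw [h1]; exact Submodule.subset_span (by simp)
  have G'a : G'.eval a = 0 := eval_pow_mul (by omega) _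
  have F'b : F'.eval b = 0 := eval_pow_mul (by omega) _
  have F'a : F'.eval a ≠ 0 := by
    intro h0
    obtain ⟨s, hs, hs0⟩ := hV'.1.2.2.2 a
    rw [h2] at hs
    obtain ⟨x, y, rfl⟩ := Submodule.mem_span_pair.1 hs
    apply hs0
    rw [eval_add, eval_smul, eval_smul, G'a, h0, smul_zero, smul_zero, add_zero]
  have G'b : G'.eval b ≠ 0 := by
    intro h0
    obtain ⟨s, hs, hs0⟩ := hV'.1.2.2.2 b
    rw [h2] at hs
    obtain ⟨x, y, rfl⟩ := Submodule.mem_span_pair.1 hs
    apply hs0
    rw [eval_add, eval_smul, eval_smul, F'b, h0, smul_zero, smul_zero, add_zero]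
  intro τ hdeg hcond
  obtain ⟨ri, hri, ⟨u₁, hu₁⟩⟩ := hcond i F mF (Dvd.intro _ rfl)
  obtain ⟨rj, hrj, ⟨v₁, hv₁⟩⟩ := hcond j G mG (Dvd.intro _ rfl)
  set F₁ := (X - C b) ^ (p - e j) * u₁ with hF₁
  set G₁ := (X - C a) ^ (p - e i) * v₁ with hG₁
  have degree_bound : ∀ (c c' : K) (m m' : ℕ) (w s : K[X]), s = (X - C c) ^ m * w →
      s.natDegree ≤ d → m' + d ≤ d' + m → ((X - C c') ^ m' * w).natDegree ≤ d' := by
    intro c c' m m' w s hs hsd hm
    by_cases hw : w = 0
    · rw [hw, mul_zero, natDegree_zero]; exact Nat.zero_le _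
    · rw [hs, natDegree_mul (pow_ne_zero _ (X_sub_C_ne_zero _)) hw, natDegree_pow,
        natDegree_X_sub_C, mul_one] at hsd
      refine natDegree_mul_le.trans ?_
      rw [natDegree_pow, natDegree_X_sub_C, mul_one]
      omega
  have dF₁ : F₁.natDegree ≤ d' := degree_bound a b (e i) (p - e j) u₁ _ hu₁
    ((natDegree_sub_le _ _).trans (max_le (hdeg _ mF) (natDegree_le_of_mem hV.1.1 hri))) (by omega)
  have dG₁ : G₁.natDegree ≤ d' := degree_bound b a (e j) (p - e i) v₁ _ hv₁
    ((natDegree_sub_le _ _).trans (max_le (hdeg _ mG) (natDegree_le_of_mem hV.1.1 hrj))) (by omega)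
  obtain ⟨τ', t1, t2⟩ := exists_map hli' F₁ G₁
  -- congruences modulo the other points
  set c := (X - C a) ^ (e i) * (X - C b) ^ (e j) with hc
  have pb : (X - C b) ^ p = (X - C b) ^ (e j) * (X - C b) ^ (p - e j) := by
    rw [← pow_add]; congr 1; omega
  have pa : (X - C a) ^ p = (X - C a) ^ (e i) * (X - C a) ^ (p - e i) := by
    rw [← pow_add]; congr 1; omega
  have hcF : c * F' = (X - C b) ^ p * F := by rw [hc, hF', pb, hF]; ring
  have hcG : c * G' = (X - C a) ^ p * G := by rw [hc, hG', pa, hG]; ring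
  have hcF₁ : c * F₁ = (X - C b) ^ p * (τ F - ri) := by rw [hu₁, hc, hF₁, pb]; ring
  have hcG₁ : c * G₁ = (X - C a) ^ p * (τ G - rj) := by rw [hv₁, hc, hG₁, pa]; ring
  have hmem := hR τ' ?_ ?_
  · have tF : τ F ∈ V := by
      have h3 := hmem F' (by rw [h2]; exact Submodule.subset_span (by simp))
      rw [t1, h2] at h3
      obtain ⟨x, y, hxy⟩ := Submodule.mem_span_pair.1 h3
      have h4 := congrArg (eval b) hxy
      rw [eval_add, eval_smul, eval_smul, F'b, smul_zero, zero_add, hF₁,
        eval_pow_mul (by omega), smul_eq_mul, mul_eq_zero] at h4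
      have h5 := h4.resolve_right G'b
      rw [h5, zero_smul, add_zero, hF', hF₁, ← mul_smul_comm] at hxy
      have h6 := mul_left_cancel₀ (pow_ne_zero _ (X_sub_C_ne_zero b)) hxy
      have h7 : τ F = ri + x • F := by
        have h8 : τ F = ri + (X - C a) ^ (e i) * u₁ := by rw [← hu₁]; ring
        rw [h8, ← h6, hF, mul_smul_comm]
      rw [h7]
      exact V.add_mem hri (V.smul_mem _ mF)
    have tG : τ G ∈ V := by
      have h3 := hmem G' (by rw [h2]; exact Submodule.subset_span (by simp))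
      rw [t2, h2] at h3
      obtain ⟨x, y, hxy⟩ := Submodule.mem_span_pair.1 h3
      have h4 := congrArg (eval a) hxy
      rw [eval_add, eval_smul, eval_smul, G'a, smul_zero, add_zero, hG₁,
        eval_pow_mul (by omega), smul_eq_mul, mul_eq_zero] at h4
      have h5 := h4.resolve_right F'a
      rw [h5, zero_smul, zero_add, hG', hG₁, ← mul_smul_comm] at hxy
      have h6 := mul_left_cancel₀ (pow_ne_zero _ (X_sub_C_ne_zero a)) hxy
      have h7 : τ G = rj + y • G := by
        have h8 : τ G = rj + (X - C b) ^ (e j) * v₁ := by rw [← hv₁]; ring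
        rw [h8, ← h6, hG, mul_smul_comm]
      rw [h7]
      exact V.add_mem hrj (V.smul_mem _ mG)
    intro s hs
    rw [h1] at hs
    obtain ⟨x, y, rfl⟩ := Submodule.mem_span_pair.1 hs
    rw [map_add, map_smul, map_smul]
    exact V.add_mem (V.smul_mem _ tF) (V.smul_mem _ tG)
  · intro s hs
    rw [h2] at hs
    obtain ⟨x, y, rfl⟩ := Submodule.mem_span_pair.1 hs
    rw [map_add, map_smul, map_smul, t1, t2]
    exact natDegree_comb_le dF₁ dG₁
  · intro l s hs hsd
    rw [h2] at hs
    obtain ⟨x, y, rfl⟩ := Submodule.mem_span_pair.1 hs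
    rw [map_add, map_smul, map_smul, t1, t2]
    by_cases l1 : l = i
    · subst l1
      rw [hi] at hsd ⊢
      have h3 : (x • F' + y • G').eval a = 0 := by
        have : X - C a ∣ x • F' + y • G' := (dvd_pow_self _ (by omega)).trans hsd
        exact dvd_iff_isRoot.1 this
      rw [eval_add, eval_smul, eval_smul, G'a, smul_zero, add_zero, smul_eq_mul,
        mul_eq_zero] at h3
      have h4 := h3.resolve_right F'a
      refine ⟨0, V'.zero_mem, ?_⟩
      rw [h4, zero_smul, zero_add, sub_zero]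
      exact dvd_smul_of_dvd _ (Dvd.intro _ rfl)
    by_cases l2 : l = j
    · subst l2
      rw [hj] at hsd ⊢
      have h3 : (x • F' + y • G').eval b = 0 := by
        have : X - C b ∣ x • F' + y • G' := (dvd_pow_self _ (by omega)).trans hsd
        exact dvd_iff_isRoot.1 this
      rw [eval_add, eval_smul, eval_smul, F'b, smul_zero, zero_add, smul_eq_mul,
        mul_eq_zero] at h3
      have h4 := h3.resolve_right G'b
      refine ⟨0, V'.zero_mem, ?_⟩
      rw [h4, zero_smul, add_zero, sub_zero]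
      exact dvd_smul_of_dvd _ (Dvd.intro _ rfl)
    rw [hl l l1 l2] at hsd ⊢
    have hla : P l - a ≠ 0 := sub_ne_zero.2 (fun h => l1 (hP h))
    have hlb : P l - b ≠ 0 := sub_ne_zero.2 (fun h => l2 (hP h))
    set A := (P l - a) ^ p with hA
    set B := (P l - b) ^ p with hB
    have hA0 : A ≠ 0 := pow_ne_zero _ hla
    have hB0 : B ≠ 0 := pow_ne_zero _ hlb
    have hcop : IsCoprime ((X - C (P l)) ^ (e l)) c := by
      refine IsCoprime.mul_right (IsCoprime.pow ?_) (IsCoprime.pow ?_)
      · exact isCoprime_X_sub_C_of_isUnit_sub (isUnit_iff_ne_zero.2 hla)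
      · exact isCoprime_X_sub_C_of_isUnit_sub (isUnit_iff_ne_zero.2 hlb)
    have h3 : (X - C (P l)) ^ (e l) ∣ (X - C a) ^ p - C A :=
      (pow_dvd_pow _ (hlt l).le).trans (pow_dvd_sub a (P l))
    have h4 : (X - C (P l)) ^ (e l) ∣ (X - C b) ^ p - C B :=
      (pow_dvd_pow _ (hlt l).le).trans (pow_dvd_sub b (P l))
    -- the corresponding member of `V`
    have h5 : (X - C (P l)) ^ (e l) ∣ (x * B) • F + (y * A) • G := by
      have h6 : (x * B) • F + (y * A) • G = c * (x • F' + y • G') -
          C x * F * ((X - C b) ^ p - C B) - C y * G * ((X - C a) ^ p - C A) := by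
        have : c * (x • F' + y • G') = C x * (c * F') + C y * (c * G') := by
          rw [smul_eq_C_mul, smul_eq_C_mul]; ring
        rw [this, hcF, hcG]
        simp only [smul_eq_C_mul, C_mul]
        ring
      rw [h6]
      exact dvd_sub (dvd_sub (Dvd.dvd.mul_left hsd _) (Dvd.dvd.mul_left h4 _))
        (Dvd.dvd.mul_left h3 _)
    obtain ⟨r, hr, hrd⟩ := hcond l _ (V.add_mem (V.smul_mem _ mF) (V.smul_mem _ mG)) h5
    have hr2 : r - (x * B) • ri - (y * A) • rj ∈ V :=
      V.sub_mem (V.sub_mem hr (V.smul_mem _ hri)) (V.smul_mem _ hrj)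
    rw [h1] at hr2
    obtain ⟨α, β, hαβ⟩ := Submodule.mem_span_pair.1 hr2
    refine ⟨(α / B) • F' + (β / A) • G', ?_, ?_⟩
    · rw [h2]; exact Submodule.mem_span_pair.2 ⟨_, _, rfl⟩
    · apply hcop.dvd_of_dvd_mul_left
      have eα : α / B * B = α := div_mul_cancel₀ _ hB0
      have eβ : β / A * A = β := div_mul_cancel₀ _ hA0
      have h6 : c * (x • F₁ + y • G₁ - ((α / B) • F' + (β / A) • G')) =
          (τ ((x * B) • F + (y * A) • G) - r) +
          (C x * (τ F - ri) - C (α / B) * F) * ((X - C b) ^ p - C B) +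
          (C y * (τ G - rj) - C (β / A) * G) * ((X - C a) ^ p - C A) := by
        have e1 : c * (x • F₁ + y • G₁ - ((α / B) • F' + (β / A) • G')) =
            C x * (c * F₁) + C y * (c * G₁) - C (α / B) * (c * F') - C (β / A) * (c * G') := by
          simp only [smul_eq_C_mul]; ring
        have e2 : r = (x * B) • ri + (y * A) • rj + (α • F + β • G) := by
          rw [hαβ]; ring
        rw [e1, hcF₁, hcG₁, hcF, hcG, map_add, map_smul, map_smul, e2]
        conv_rhs => rw [← eα, ← eβ]
        simp only [smul_eq_C_mul, C_mul, mul_div_cancel_right₀ _ hB0, mul_div_cancel_right₀ _ hA0]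
        ring
      rw [h6]
      exact dvd_add (dvd_add hrd (Dvd.dvd.mul_left h4 _)) (Dvd.dvd.mul_left h3 _)

end Flip

end K807.Rigid
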