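import Groth.Agent.W4c1limliniiii.K807.Chart
import Groth.Agent.W4c1limliniiii.K807.Bubble
import Groth.Agent.W4c1limliniiii.K807.Rigid

/-!
# The special fibre of the square system
-/

set_option autoImplicit false
set_option linter.style.haveILetI false
universe u

open Polynomial

namespace K807.Special

open K807.Wr K807.Pencil K807.Rigid K807.Chart K807.Bubble W4c1limliniiii

variable {κ : Type*} [Field κ] {n d a b m₀ m₁ : ℕ} {e : Fin n → ℕ} {Q : Fin n → κ}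

theorem coeff_tw_wm_zero (m : ℕ) (f : κ[X]) (j : ℕ) :
    (tw (wm 0 m) f).coeff j = if m ≤ j then f.coeff j else 0 := by
  rw [coeff_tw, wm]
  split_ifs with h
  · rw [Nat.sub_eq_zero_of_le h, pow_zero, one_mul]
  · rw [zero_pow (by omega), zero_mul]

theorem coeff_tw_wb_zero (m : ℕ) (f : κ[X]) (j : ℕ) :
    (tw (wb 0 m) f).coeff j = if j ≤ m then f.coeff j else 0 := by
  rw [coeff_tw, wb]
  split_ifs with h
  · rw [Nat.sub_eq_zero_of_le h, pow_zero, one_mul]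
  · rw [zero_pow (by omega), zero_mul]

theorem X_pow_dvd_tw_wm (m : ℕ) (f : κ[X]) : X ^ m ∣ tw (wm 0 m) f := by
  rw [X_pow_dvd_iff]
  intro j hj
  rw [coeff_tw_wm_zero, if_neg (by omega)]

theorem natDegree_tw_wb (m : ℕ) (f : κ[X]) : (tw (wb 0 m) f).natDegree ≤ m := by
  rw [natDegree_le_iff_coeff_eq_zero]
  intro j hj
  rw [coeff_tw_wb_zero, if_neg (by omega)]

/-- the main component of a solution -/
noncomputable abbrev mF (t : κ) (m₀ : ℕ) (z : Var n d → κ) : κ[X] := tw (wm t m₀) (pA z)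
/-- the main component of a solution -/
noncomputable abbrev mG (t : κ) (m₁ : ℕ) (z : Var n d → κ) : κ[X] := tw (wm t m₁) (pB z)
/-- the bubble component of a solution -/
noncomputable abbrev bF (t : κ) (m₀ : ℕ) (z : Var n d → κ) : κ[X] := tw (wb t m₀) (pA z)
/-- the bubble component of a solution -/
noncomputable abbrev bG (t : κ) (m₁ : ℕ) (z : Var n d → κ) : κ[X] := tw (wb t m₁) (pB z)

/-- the equations in readable form -/
structure Sol (m₀ m₁ : ℕ) (Q : Fin n → κ) (t : κ) (e : Fin n → ℕ) (a b : ℕ)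
    (z : Var n d → κ) : Prop where
  A0 : (pA z).coeff m₀ = 1
  A1 : (pA z).coeff m₁ = 0
  B1 : (pB z).coeff m₁ = 1
  B0 : ∀ l < a, (pB z).coeff l = 0
  main : ∀ i, (X - C (Q i)) ^ (e i) ∣ mF t m₀ z - C (pq z i) * mG t m₁ z
  bub : (X - C 1) ^ b ∣ bG t m₁ z + C (pr z) * bF t m₀ z

theorem sol_iff (m₀ m₁ : ℕ) (Q : Fin n → κ) (t : κ) (z : Var n d → κ) :
    Sol m₀ m₁ Q t e a b z ↔ ∀ i : Eqn e a b, ev m₀ m₁ Q t z i = 0 := by
  constructor
  · rintro ⟨h1, h2, h3, h4, h5, h6⟩ ((_ | _ | _ | l) | (⟨i, l⟩ | l))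
    · simp only [ev]; rw [h1, sub_self]
    · simp only [ev]; exact h2
    · simp only [ev]; rw [h3, sub_self]
    · simp only [ev]; exact h4 l l.2
    · simp only [ev]; exact (dvd_iff_taylor _ _ _).1 (h5 i) l l.2
    · simp only [ev]; exact (dvd_iff_taylor _ _ _).1 h6 l l.2
  · intro h
    refine ⟨?_, ?_, ?_, ?_, ?_, ?_⟩
    · exact sub_eq_zero.1 (h (Sum.inl (Sum.inl ())))
    · exact h (Sum.inl (Sum.inr (Sum.inl ())))
    · exact sub_eq_zero.1 (h (Sum.inl (Sum.inr (Sum.inr (Sum.inl ())))))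
    · intro l hl
      exact h (Sum.inl (Sum.inr (Sum.inr (Sum.inr ⟨l, hl⟩))))
    · intro i
      rw [dvd_iff_taylor]
      intro l hl
      exact h (Sum.inr (Sum.inl ⟨i, ⟨l, hl⟩⟩))
    · rw [dvd_iff_taylor]
      intro l hl
      exact h (Sum.inr (Sum.inr ⟨l, hl⟩))

/-- the linearised equations in readable form -/
structure LSol (m₀ m₁ : ℕ) (Q : Fin n → κ) (t : κ) (e : Fin n → ℕ) (a b : ℕ)
    (z v : Var n d → κ) : Prop where
  A0 : (pA v).coeff m₀ = 0
  A1 : (pA v).coeff m₁ = 0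
  B1 : (pB v).coeff m₁ = 0
  B0 : ∀ l < a, (pB v).coeff l = 0
  main : ∀ i, (X - C (Q i)) ^ (e i) ∣
    mF t m₀ v - C (pq z i) * mG t m₁ v - C (pq v i) * mG t m₁ z
  bub : (X - C 1) ^ b ∣ bG t m₁ v + C (pr z) * bF t m₀ v + C (pr v) * bF t m₀ z

theorem lsol_iff (m₀ m₁ : ℕ) (Q : Fin n → κ) (t : κ) (z v : Var n d → κ) :
    LSol m₀ m₁ Q t e a b z v ↔ ∀ i : Eqn e a b, lin m₀ m₁ Q t z v i = 0 := by
  constructor
  · rintro ⟨h1, h2, h3, h4, h5, h6⟩ ((_ | _ | _ | l) | (⟨i, l⟩ | l))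
    · simp only [lin]; exact h1
    · simp only [lin]; exact h2
    · simp only [lin]; exact h3
    · simp only [lin]; exact h4 l l.2
    · simp only [lin]; exact (dvd_iff_taylor _ _ _).1 (h5 i) l l.2
    · simp only [lin]; exact (dvd_iff_taylor _ _ _).1 h6 l l.2
  · intro h
    refine ⟨?_, ?_, ?_, ?_, ?_, ?_⟩
    · exact h (Sum.inl (Sum.inl ()))
    · exact h (Sum.inl (Sum.inr (Sum.inl ())))
    · exact h (Sum.inl (Sum.inr (Sum.inr (Sum.inl ()))))
    · intro l hl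
      exact h (Sum.inl (Sum.inr (Sum.inr (Sum.inr ⟨l, hl⟩))))
    · intro i
      rw [dvd_iff_taylor]
      intro l hl
      exact h (Sum.inr (Sum.inl ⟨i, ⟨l, hl⟩⟩))
    · rw [dvd_iff_taylor]
      intro l hl
      exact h (Sum.inr (Sum.inr ⟨l, hl⟩))

/-- extensionality for unknowns -/
theorem var_ext {z z' : Var n d → κ} (hA : pA z = pA z') (hB : pB z = pB z')
    (hq : ∀ i, pq z i = pq z' i) (hr : pr z = pr z') : z = z' := by
  funext i
  rcases i with j | j | j | ⟨⟩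
  · have := congrArg (fun f : κ[X] => f.coeff j) hA
    simp only [pA, coeff_pl, dif_pos j.2] at this
    exact this
  · have := congrArg (fun f : κ[X] => f.coeff j) hB
    simp only [pB, coeff_pl, dif_pos j.2] at this
    exact this
  · exact hq j
  · exact hr

/-- the unknowns attached to polynomials -/
noncomputable def mk (A B : κ[X]) (q : Fin n → κ) (r : κ) : Var n d → κ
  | Sum.inl j => A.coeff j
  | Sum.inr (Sum.inl j) => B.coeff j
  | Sum.inr (Sum.inr (Sum.inl i)) => q i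
  | Sum.inr (Sum.inr (Sum.inr _)) => r

theorem pA_mk {A B : κ[X]} {q : Fin n → κ} {r : κ} (hA : A.natDegree ≤ d) :
    pA (mk A B q r : Var n d → κ) = A := pl_coeff hA

theorem pB_mk {A B : κ[X]} {q : Fin n → κ} {r : κ} (hB : B.natDegree ≤ d) :
    pB (mk A B q r : Var n d → κ) = B := pl_coeff hB

section Zero

variable {z : Var n d → κ}

theorem Sol.bF_monic (h : Sol m₀ m₁ Q 0 e a b z) : (bF 0 m₀ z).Monic ∧ (bF 0 m₀ z).natDegree = m₀ := by
  have h1 := natDegree_tw_wb m₀ (pA z)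
  have h2 : (bF 0 m₀ z).coeff m₀ = 1 := by rw [coeff_tw_wb_zero, if_pos le_rfl, h.A0]
  have h3 : (bF 0 m₀ z).natDegree = m₀ :=
    le_antisymm h1 (le_natDegree_of_ne_zero (by rw [h2]; exact one_ne_zero))
  exact ⟨by rw [Monic, leadingCoeff, h3, h2], h3⟩

theorem Sol.bG_monic (h : Sol m₀ m₁ Q 0 e a b z) : (bG 0 m₁ z).Monic ∧ (bG 0 m₁ z).natDegree = m₁ := by
  have h1 := natDegree_tw_wb m₁ (pB z)
  have h2 : (bG 0 m₁ z).coeff m₁ = 1 := by rw [coeff_tw_wb_zero, if_pos le_rfl, h.B1]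
  have h3 : (bG 0 m₁ z).natDegree = m₁ :=
    le_antisymm h1 (le_natDegree_of_ne_zero (by rw [h2]; exact one_ne_zero))
  exact ⟨by rw [Monic, leadingCoeff, h3, h2], h3⟩

theorem Sol.bG_dvd (h : Sol m₀ m₁ Q 0 e a b z) : X ^ a ∣ bG 0 m₁ z := by
  rw [X_pow_dvd_iff]
  intro j hj
  rw [coeff_tw, h.B0 j hj, mul_zero]

theorem Sol.mF_coeff (h : Sol m₀ m₁ Q 0 e a b z) (hm : m₀ < m₁) :
    (mF 0 m₀ z).coeff m₀ = 1 ∧ (mF 0 m₀ z).coeff m₁ = 0 := by
  rw [coeff_tw_wm_zero, coeff_tw_wm_zero, if_pos le_rfl, if_pos hm.le]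
  exact ⟨h.A0, h.A1⟩

theorem Sol.mG_coeff (h : Sol m₀ m₁ Q 0 e a b z) : (mG 0 m₁ z).coeff m₁ = 1 := by
  rw [coeff_tw_wm_zero, if_pos le_rfl, h.B1]

theorem pA_eq (m : ℕ) {z z' : Var n d → κ} (h1 : mF 0 m z = mF 0 m z')
    (h2 : bF 0 m z = bF 0 m z') : pA z = pA z' := by
  ext j
  by_cases hj : m ≤ j
  · have := congrArg (fun f : κ[X] => f.coeff j) h1
    simpa only [coeff_tw_wm_zero, if_pos hj] using this
  · have := congrArg (fun f : κ[X] => f.coeff j) h2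
    simpa only [coeff_tw_wb_zero, if_pos (show j ≤ m by omega)] using this

theorem pB_eq (m : ℕ) {z z' : Var n d → κ} (h1 : mG 0 m z = mG 0 m z')
    (h2 : bG 0 m z = bG 0 m z') : pB z = pB z' := by
  ext j
  by_cases hj : m ≤ j
  · have := congrArg (fun f : κ[X] => f.coeff j) h1
    simpa only [coeff_tw_wm_zero, if_pos hj] using this
  · have := congrArg (fun f : κ[X] => f.coeff j) h2
    simpa only [coeff_tw_wb_zero, if_pos (show j ≤ m by omega)] using this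

/-- uniqueness of the special solution with given main component -/
theorem Sol.unique (p : ℕ) [CharP κ p] (hab : m₀ + m₁ + 1 = a + b) (ha : m₀ < a) (hb : m₀ < b)
    (hp : p = 0 ∨ m₁ < p) (he : ∀ i, 1 ≤ e i) {z z' : Var n d → κ}
    (h : Sol m₀ m₁ Q 0 e a b z) (h' : Sol m₀ m₁ Q 0 e a b z')
    (hF : mF 0 m₀ z = mF 0 m₀ z') (hG : mG 0 m₁ z = mG 0 m₁ z')
    (hQ : ∀ i, (mG 0 m₁ z).eval (Q i) ≠ 0) : z = z' := by
  obtain ⟨g1, g2, g3, -⟩ := unique_sol p hab ha hb hp h.bF_monic.1 h.bF_monic.2 h.bG_monic.1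
    h.bG_monic.2 h.bG_dvd h.bub h'.bF_monic.1 h'.bF_monic.2 h'.bG_monic.1
    h'.bG_monic.2 h'.bG_dvd h'.bub
  refine var_ext (pA_eq m₀ hF g1) (pB_eq m₁ hG g2) ?_ g3
  intro i
  have h1 : ∀ {w : Var n d → κ}, Sol m₀ m₁ Q 0 e a b w →
      (mF 0 m₀ w).eval (Q i) = pq w i * (mG 0 m₁ w).eval (Q i) := by
    intro w hw
    have h2 : X - C (Q i) ∣ mF 0 m₀ w - C (pq w i) * mG 0 m₁ w :=
      (dvd_pow_self _ (by have := he i; omega)).trans (hw.main i)
    have h3 := dvd_iff_isRoot.1 h2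
    rw [IsRoot.def, eval_sub, eval_mul, eval_C] at h3
    exact sub_eq_zero.1 h3
  have h2 := h1 h
  have h3 := h1 h'
  rw [← hF, ← hG, h2] at h3
  exact mul_right_cancel₀ (hQ i) h3

/-- existence of the special solution with given main component -/
theorem exists_sol_of (p : ℕ) [CharP κ p] (hab : m₀ + m₁ + 1 = a + b) (ha : m₀ < a) (hb : m₀ < b)
    (hp : p = 0 ∨ m₁ < p) (hm₁ : m₁ ≤ d) {F G : κ[X]} (dF : F.natDegree ≤ d)
    (dG : G.natDegree ≤ d) (xF : X ^ m₀ ∣ F) (xG : X ^ m₁ ∣ G) (cF : F.coeff m₀ = 1)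
    (cF' : F.coeff m₁ = 0) (cG : G.coeff m₁ = 1) (q : Fin n → κ)
    (hq : ∀ i, (X - C (Q i)) ^ (e i) ∣ F - C (q i) * G) :
    ∃ z : Var n d → κ, Sol m₀ m₁ Q 0 e a b z ∧ mF 0 m₀ z = F ∧ mG 0 m₁ z = G := by
  obtain ⟨φ, γ, r, mφ, dφ, mγ, dγ, xγ, hdv, hr⟩ := exists_sol (κ := κ) p hab ha hb hp
  rw [X_pow_dvd_iff] at xF xG
  have cφ : φ.coeff m₀ = 1 := by rw [← dφ]; exact mφ
  have cγ : γ.coeff m₁ = 1 := by rw [← dγ]; exact mγ
  set A := F + φ - X ^ m₀ with hA
  set B := G + γ - X ^ m₁ with hB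
  have cA : ∀ j, A.coeff j = if j < m₀ then φ.coeff j else F.coeff j := by
    intro j
    rw [hA, coeff_sub, coeff_add, coeff_X_pow]
    rcases lt_trichotomy j m₀ with h | h | h
    · rw [if_pos h, xF j h, if_neg (by omega)]; ring
    · subst h
      rw [if_pos rfl, if_neg (lt_irrefl _), cφ]; ring
    · rw [if_neg (by omega), if_neg (by omega), coeff_eq_zero_of_natDegree_lt (p := φ) (by omega)]
      ring
  have cB : ∀ j, B.coeff j = if j < m₁ then γ.coeff j else G.coeff j := by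
    intro j
    rw [hB, coeff_sub, coeff_add, coeff_X_pow]
    rcases lt_trichotomy j m₁ with h | h | h
    · rw [if_pos h, xG j h, if_neg (by omega)]; ring
    · subst h
      rw [if_pos rfl, if_neg (lt_irrefl _), cγ]; ring
    · rw [if_neg (by omega), if_neg (by omega), coeff_eq_zero_of_natDegree_lt (p := γ) (by omega)]
      ring
  have dA : A.natDegree ≤ d := by
    rw [natDegree_le_iff_coeff_eq_zero]
    intro j hj
    rw [cA, if_neg (by omega), coeff_eq_zero_of_natDegree_lt (by omega)]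
  have dB : B.natDegree ≤ d := by
    rw [natDegree_le_iff_coeff_eq_zero]
    intro j hj
    rw [cB, if_neg (by omega), coeff_eq_zero_of_natDegree_lt (by omega)]
  let z : Var n d → κ := mk A B q r
  have zA : pA z = A := pA_mk dA
  have zB : pB z = B := pB_mk dB
  have eF : mF 0 m₀ z = F := by
    ext j
    rw [coeff_tw_wm_zero, zA, cA]
    split_ifs with h1 h2
    · omega
    · rfl
    · exact (xF j (by omega)).symm
  have eG : mG 0 m₁ z = G := by
    ext j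
    rw [coeff_tw_wm_zero, zB, cB]
    split_ifs with h1 h2
    · omega
    · rfl
    · exact (xG j (by omega)).symm
  have eφ : bF 0 m₀ z = φ := by
    ext j
    rw [coeff_tw_wb_zero, zA, cA]
    split_ifs with h1 h2
    · rfl
    · have : j = m₀ := by omega
      subst this
      rw [cF, cφ]
    · rw [coeff_eq_zero_of_natDegree_lt (by omega)]
  have eγ : bG 0 m₁ z = γ := by
    ext j
    rw [coeff_tw_wb_zero, zB, cB]
    split_ifs with h1 h2
    · rfl
    · have : j = m₁ := by omega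
      subst this
      rw [cG, cγ]
    · rw [coeff_eq_zero_of_natDegree_lt (by omega)]
  refine ⟨z, ⟨?_, ?_, ?_, ?_, ?_, ?_⟩, eF, eG⟩
  · rw [zA, cA, if_neg (lt_irrefl _), cF]
  · rw [zA, cA, if_neg (by omega), cF']
  · rw [zB, cB, if_neg (lt_irrefl _), cG]
  · intro l hl
    rw [zB, cB, if_pos (by omega)]
    exact X_pow_dvd_iff.1 xγ l hl
  · intro i
    rw [eF, eG]
    exact hq i
  · rw [eφ, eγ]
    exact hdv

/-- non-degeneracy of the special solution -/
theorem Sol.nondeg (p : ℕ) [CharP κ p] (hab : m₀ + m₁ + 1 = a + b) (ha : m₀ < a) (hb : m₀ < b)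
    (hp : p = 0 ∨ m₁ < p) (he : ∀ i, 1 ≤ e i) (hm₀d : m₀ ≤ d) {z : Var n d → κ}
    (h : Sol m₀ m₁ Q 0 e a b z) (hQ0 : ∀ i, Q i ≠ 0)
    (hQ : ∀ i, (mG 0 m₁ z).eval (Q i) ≠ 0) {Fo Go : κ[X]} (hFo : mF 0 m₀ z = X ^ m₀ * Fo)
    (hGo : mG 0 m₁ z = X ^ m₀ * Go)
    (hR : Rigid (d - m₀) (Fin.snoc Q 0 : Fin (n + 1) → κ)
      (Fin.snoc e (m₁ - m₀) : Fin (n + 1) → ℕ) (Submodule.span κ {Fo, Go}))
    {v : Var n d → κ} (hv : LSol m₀ m₁ Q 0 e a b z v) : v = 0 := by
  have hm : m₀ < m₁ := by omega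
  -- the bubble
  have dφ₁ := natDegree_tw_wb m₀ (pA v)
  have cφ₁ : (bF 0 m₀ v).coeff m₀ = 0 := by rw [coeff_tw_wb_zero, if_pos le_rfl, hv.A0]
  have dγ₁ : (bG 0 m₁ v).natDegree < m₁ := by
    have h1 := natDegree_tw_wb m₁ (pB v)
    have h2 : (bG 0 m₁ v).coeff m₁ = 0 := by rw [coeff_tw_wb_zero, if_pos le_rfl, hv.B1]
    rcases lt_or_eq_of_le h1 with h3 | h3
    · exact h3
    · have h4 : bG 0 m₁ v = 0 := by
        rw [← leadingCoeff_eq_zero, leadingCoeff, h3, h2]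
      rw [h4, natDegree_zero]; omega
  have xγ₁ : X ^ a ∣ bG 0 m₁ v := by
    rw [X_pow_dvd_iff]
    intro j hj
    rw [coeff_tw, hv.B0 j hj, mul_zero]
  have hr : pr z ≠ 0 := (unique_sol p hab ha hb hp h.bF_monic.1 h.bF_monic.2 h.bG_monic.1
    h.bG_monic.2 h.bG_dvd h.bub h.bF_monic.1 h.bF_monic.2 h.bG_monic.1
    h.bG_monic.2 h.bG_dvd h.bub).2.2.2
  obtain ⟨g1, g2, g3⟩ := rigid_sol p hab ha hb hp h.bF_monic.1 h.bF_monic.2 hr dφ₁ cφ₁ dγ₁ xγ₁
    (by rw [← add_assoc]; exact hv.bub)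
  -- the main component
  obtain ⟨F₁, hF₁⟩ := X_pow_dvd_tw_wm m₀ (pA v)
  obtain ⟨G₁', hG₁'⟩ := X_pow_dvd_tw_wm m₁ (pB v)
  set G₁ := X ^ (m₁ - m₀) * G₁' with hG₁def
  have hG₁ : mG 0 m₁ v = X ^ m₀ * G₁ := by
    rw [hG₁def, ← mul_assoc, ← pow_add, show m₀ + (m₁ - m₀) = m₁ by omega]
    exact hG₁'
  have hX : (X : κ[X]) ^ m₀ ≠ 0 := pow_ne_zero _ X_ne_zero
  have cX : ∀ (f g : κ[X]) (j : ℕ), f = X ^ m₀ * g → g.coeff j = f.coeff (j + m₀) := by
    intro f g j hfg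
    rw [hfg, coeff_X_pow_mul]
  have dX : ∀ (f g : κ[X]), f = X ^ m₀ * g → f.natDegree ≤ d → g.natDegree ≤ d - m₀ := by
    intro f g hfg hd
    rw [natDegree_le_iff_coeff_eq_zero]
    intro j hj
    rw [cX f g j hfg, coeff_eq_zero_of_natDegree_lt (by omega)]
  obtain ⟨f1, f2⟩ := h.mF_coeff hm
  have f3 := h.mG_coeff
  have cF0 : Fo.coeff 0 = 1 := by rw [cX _ _ _ hFo, zero_add, f1]
  have cFc : Fo.coeff (m₁ - m₀) = 0 := by
    rw [cX _ _ _ hFo, show m₁ - m₀ + m₀ = m₁ by omega, f2]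
  have cGc : Go.coeff (m₁ - m₀) = 1 := by
    rw [cX _ _ _ hGo, show m₁ - m₀ + m₀ = m₁ by omega, f3]
  have cG0 : ∀ j < m₁ - m₀, Go.coeff j = 0 := by
    intro j hj
    rw [cX _ _ _ hGo, coeff_tw_wm_zero, if_neg (by omega)]
  have cF₁0 : F₁.coeff 0 = 0 := by
    rw [cX _ _ _ hF₁, zero_add, coeff_tw_wm_zero, if_pos le_rfl, hv.A0]
  have cF₁c : F₁.coeff (m₁ - m₀) = 0 := by
    rw [cX _ _ _ hF₁, show m₁ - m₀ + m₀ = m₁ by omega, coeff_tw_wm_zero, if_pos hm.le, hv.A1]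
  have cG₁c : G₁.coeff (m₁ - m₀) = 0 := by
    rw [cX _ _ _ hG₁, show m₁ - m₀ + m₀ = m₁ by omega, coeff_tw_wm_zero, if_pos le_rfl, hv.B1]
  have cG₁0 : ∀ j < m₁ - m₀, G₁.coeff j = 0 := by
    intro j hj
    rw [cX _ _ _ hG₁, coeff_tw_wm_zero, if_neg (by omega)]
  have hli : LinearIndependent κ ![Fo, Go] := by
    rw [LinearIndependent.pair_iff]
    intro x y hxy
    have e1 := congrArg (fun q : κ[X] => q.coeff 0) hxy
    have e2 := congrArg (fun q : κ[X] => q.coeff (m₁ - m₀)) hxy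
    simp only [coeff_add, coeff_smul, smul_eq_mul, coeff_zero, cF0, cFc, cGc,
      cG0 0 (by omega), mul_one, mul_zero, add_zero, zero_add] at e1 e2
    exact ⟨e1, e2⟩
  obtain ⟨τ, t1, t2⟩ := exists_map hli F₁ G₁
  have hmem : ∀ s ∈ Submodule.span κ {Fo, Go}, τ s ∈ Submodule.span κ {Fo, Go} := by
    apply hR τ
    · intro s hs
      obtain ⟨x, y, rfl⟩ := Submodule.mem_span_pair.1 hs
      rw [map_add, map_smul, map_smul, t1, t2]
      exact natDegree_comb_le (dX _ _ hF₁ (natDegree_tw _ (natDegree_pA v)))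
        (dX _ _ hG₁ (natDegree_tw _ (natDegree_pB v)))
    · rw [Fin.forall_fin_succ']
      constructor
      · intro i s hs hsd
        rw [Fin.snoc_castSucc, Fin.snoc_castSucc] at hsd ⊢
        obtain ⟨x, y, rfl⟩ := Submodule.mem_span_pair.1 hs
        have hcop : IsCoprime ((X - C (Q i)) ^ (e i)) ((X : κ[X]) ^ m₀) := by
          have h1 : IsCoprime ((X - C (Q i)) ^ (e i)) ((X - C (0 : κ)) ^ m₀) :=
            (isCoprime_X_sub_C_of_isUnit_sub (isUnit_iff_ne_zero.2 (by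
              rw [sub_zero]; exact hQ0 i))).pow
          rwa [C_0, sub_zero] at h1
        have h1 : (X - C (Q i)) ^ (e i) ∣ C (x * pq z i + y) * mG 0 m₁ z := by
          have : C (x * pq z i + y) * mG 0 m₁ z =
              X ^ m₀ * (x • Fo + y • Go) - C x * (mF 0 m₀ z - C (pq z i) * mG 0 m₁ z) := by
            rw [hFo, hGo]
            simp only [smul_eq_C_mul, C_add, C_mul]
            ring
          rw [this]
          exact dvd_sub (Dvd.dvd.mul_left hsd _) (Dvd.dvd.mul_left (h.main i) _)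
        have h2 : x * pq z i + y = 0 := by
          have h3 : X - C (Q i) ∣ C (x * pq z i + y) * mG 0 m₁ z :=
            (dvd_pow_self _ (by have := he i; omega)).trans h1
          have h4 := dvd_iff_isRoot.1 h3
          rw [IsRoot.def, eval_mul, eval_C, mul_eq_zero] at h4
          exact h4.resolve_right (hQ i)
        refine ⟨(x * pq v i) • Go, Submodule.smul_mem _ _ (Submodule.subset_span (by simp)), ?_⟩
        apply hcop.dvd_of_dvd_mul_left
        have hy : y = -(x * pq z i) := by linear_combination h2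
        have h5 : X ^ m₀ * (τ (x • Fo + y • Go) - (x * pq v i) • Go) =
            C x * (mF 0 m₀ v - C (pq z i) * mG 0 m₁ v - C (pq v i) * mG 0 m₁ z) := by
          rw [map_add, map_smul, map_smul, t1, t2, hy, hGo, hG₁, show mF 0 m₀ v = X ^ m₀ * F₁ from hF₁]
          simp only [smul_eq_C_mul, C_neg, C_mul]
          ring
        rw [h5]
        exact Dvd.dvd.mul_left (hv.main i) _
      · intro s hs hsd
        rw [Fin.snoc_last, Fin.snoc_last, C_0, sub_zero] at hsd ⊢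
        obtain ⟨x, y, rfl⟩ := Submodule.mem_span_pair.1 hs
        have hx : x = 0 := by
          have h1 := X_pow_dvd_iff.1 hsd 0 (by omega)
          rw [coeff_add, coeff_smul, coeff_smul, cF0, cG0 0 (by omega)] at h1
          simpa using h1
        refine ⟨0, Submodule.zero_mem _, ?_⟩
        rw [sub_zero, map_add, map_smul, map_smul, t1, t2, hx, zero_smul, zero_add]
        exact dvd_smul_of_dvd _ (Dvd.intro _ rfl)
  have hF₁0 : F₁ = 0 := by
    have h1 := hmem Fo (Submodule.subset_span (by simp))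
    rw [t1] at h1
    obtain ⟨x, y, hxy⟩ := Submodule.mem_span_pair.1 h1
    have e1 := congrArg (fun q : κ[X] => q.coeff 0) hxy
    have e2 := congrArg (fun q : κ[X] => q.coeff (m₁ - m₀)) hxy
    simp only [coeff_add, coeff_smul, smul_eq_mul, cF0, cFc, cGc,
      cG0 0 (by omega), cF₁0, cF₁c, mul_one, mul_zero, add_zero, zero_add] at e1 e2
    rw [← hxy, e1, e2, zero_smul, zero_smul, add_zero]
  have hG₁0 : G₁ = 0 := by
    have h1 := hmem Go (Submodule.subset_span (by simp))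
    rw [t2] at h1
    obtain ⟨x, y, hxy⟩ := Submodule.mem_span_pair.1 h1
    have e1 := congrArg (fun q : κ[X] => q.coeff 0) hxy
    have e2 := congrArg (fun q : κ[X] => q.coeff (m₁ - m₀)) hxy
    simp only [coeff_add, coeff_smul, smul_eq_mul, cF0, cFc, cGc,
      cG0 0 (by omega), cG₁0 0 (by omega), cG₁c, mul_one, mul_zero, add_zero, zero_add] at e1 e2
    rw [← hxy, e1, e2, zero_smul, zero_smul, add_zero]
  have hmF : mF 0 m₀ v = 0 := by
    have : mF 0 m₀ v = X ^ m₀ * F₁ := hF₁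
    rw [this, hF₁0, mul_zero]
  have hmG : mG 0 m₁ v = 0 := by rw [hG₁, hG₁0, mul_zero]
  have tw0 : ∀ w : ℕ → κ, tw w (0 : κ[X]) = 0 := by
    intro w; ext j; rw [coeff_tw]; simp
  have hp0 : pA (0 : Var n d → κ) = 0 := by
    ext j; rw [pA, coeff_pl]; split_ifs <;> simp
  have hp1 : pB (0 : Var n d → κ) = 0 := by
    ext j; rw [pB, coeff_pl]; split_ifs <;> simp
  refine var_ext (pA_eq m₀ ?_ ?_) (pB_eq m₁ ?_ ?_) ?_ g3
  · show mF 0 m₀ v = tw _ (pA 0)
    rw [hmF, hp0, tw0]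
  · show bF 0 m₀ v = tw _ (pA 0)
    rw [hp0, tw0]
    exact g1
  · show mG 0 m₁ v = tw _ (pB 0)
    rw [hmG, hp1, tw0]
  · show bG 0 m₁ v = tw _ (pB 0)
    rw [hp1, tw0]
    exact g2
  · intro i
    have h1 := hv.main i
    rw [hmF, hmG, mul_zero, sub_zero, zero_sub, dvd_neg] at h1
    have h3 : X - C (Q i) ∣ C (pq v i) * mG 0 m₁ z :=
      (dvd_pow_self _ (by have := he i; omega)).trans h1
    have h4 := dvd_iff_isRoot.1 h3
    rw [IsRoot.def, eval_mul, eval_C, mul_eq_zero] at h4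
    exact h4.resolve_right (hQ i)

end Zero

end K807.Special
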