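import Groth.Prelude.Def_W4c1limliniiiiRamP1
import Mathlib.LinearAlgebra.FiniteDimensional.Lemmas
import Mathlib.Algebra.Polynomial.FieldDivision
import Mathlib.Algebra.Polynomial.Taylor
import Mathlib.Algebra.Ring.Divisibility.Lemmas
import Mathlib.FieldTheory.IsAlgClosed.Basic
import Mathlib.Tactic.LinearCombination

/-!
# Wronskians of pairs of polynomials: local order, degree, and pencils with given ramification
-/

set_option autoImplicit false

open Polynomial

namespace K807.Wr

section CommRing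

variable {R : Type*} [CommRing R]

theorem wr_smul_left (c : R) (f g : R[X]) : wronskian (c • f) g = c • wronskian f g := by
  simp only [wronskian, derivative_smul, smul_mul_assoc, smul_sub]

theorem wr_smul_right (c : R) (f g : R[X]) : wronskian f (c • g) = c • wronskian f g := by
  simp only [wronskian, derivative_smul, mul_smul_comm, smul_sub]

theorem wr_comb (x₁ y₁ x₂ y₂ : R) (F G : R[X]) :
    wronskian (x₁ • F + y₁ • G) (x₂ • F + y₂ • G) = (x₁ * y₂ - x₂ * y₁) • wronskian F G := by
  simp only [wronskian, derivative_add, derivative_smul]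
  simp only [smul_eq_C_mul, C_sub, C_mul]
  ring

theorem dvd_wr_left {q F : R[X]} {m : ℕ} (h : q ^ m ∣ F) (G : R[X]) :
    q ^ (m - 1) ∣ wronskian F G := by
  unfold wronskian
  exact dvd_sub (Dvd.dvd.mul_right ((pow_dvd_pow q (Nat.sub_le m 1)).trans h) _)
    (Dvd.dvd.mul_right (pow_sub_one_dvd_derivative_of_pow_dvd h) _)

theorem dvd_wr_right {q G : R[X]} {m : ℕ} (h : q ^ m ∣ G) (F : R[X]) :
    q ^ (m - 1) ∣ wronskian F G := by
  rw [← wronskian_neg_eq, dvd_neg]
  exact dvd_wr_left h F

theorem wr_mul_mul (q u v : R[X]) : wronskian (q * u) (q * v) = q ^ 2 * wronskian u v := by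
  simp only [wronskian, derivative_mul]
  ring

/-- Wronskian of two products by powers of a linear polynomial. -/
theorem wr_pow (a : R) (m n : ℕ) (h : 1 ≤ m + n) (u v : R[X]) :
    wronskian ((X - C a) ^ m * u) ((X - C a) ^ n * v) =
      (X - C a) ^ (m + n - 1) *
        (((n : R[X]) - (m : R[X])) * (u * v) + (X - C a) * wronskian u v) := by
  rcases m with _ | m
  · rcases n with _ | n
    · omega
    · simp only [pow_zero, one_mul, wronskian, derivative_mul, derivative_X_sub_C_pow,
        zero_add, Nat.add_sub_cancel, Nat.cast_zero, sub_zero, Nat.cast_add, Nat.cast_one,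
        map_natCast, map_add, map_one]
      ring
  · rcases n with _ | n
    · simp only [pow_zero, one_mul, wronskian, derivative_mul, derivative_X_sub_C_pow,
        add_zero, Nat.add_sub_cancel, Nat.cast_zero, zero_sub, Nat.cast_add, Nat.cast_one,
        map_natCast, map_add, map_one]
      ring
    · have e : m + 1 + (n + 1) - 1 = m + n + 1 := by omega
      simp only [wronskian, derivative_mul, derivative_X_sub_C_pow,
        Nat.add_sub_cancel, Nat.cast_add, Nat.cast_one,
        map_natCast, map_add, map_one, e]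
      ring

theorem pow_dvd_wr {a : R} {m n : ℕ} {F G : R[X]} (hF : (X - C a) ^ m ∣ F)
    (hG : (X - C a) ^ n ∣ G) (h : 1 ≤ m + n) : (X - C a) ^ (m + n - 1) ∣ wronskian F G := by
  obtain ⟨u, rfl⟩ := hF
  obtain ⟨v, rfl⟩ := hG
  rw [wr_pow a m n h]
  exact dvd_mul_right _ _

theorem natDegree_wr_le {a b : ℕ} {F G : R[X]} (hF : F.natDegree ≤ a) (hG : G.natDegree ≤ b) :
    (wronskian F G).natDegree ≤ a + b - 1 := by
  have h1 : (F * derivative G).natDegree ≤ a + b - 1 := by
    rcases b with _ | b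
    · rw [eq_C_of_natDegree_le_zero hG]; simp
    · refine natDegree_mul_le.trans ?_
      have := natDegree_derivative_le G
      omega
  have h2 : (derivative F * G).natDegree ≤ a + b - 1 := by
    rcases a with _ | a
    · rw [eq_C_of_natDegree_le_zero hF]; simp
    · refine natDegree_mul_le.trans ?_
      have := natDegree_derivative_le F
      omega
  exact (natDegree_sub_le _ _).trans (max_le h1 h2)

theorem coeff_wr {a b : ℕ} (hab : 1 ≤ a + b) {F G : R[X]} (hF : F.natDegree ≤ a)
    (hG : G.natDegree ≤ b) :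
    (wronskian F G).coeff (a + b - 1) = ((b : R) - (a : R)) * (F.coeff a * G.coeff b) := by
  have h1 : (F * derivative G).coeff (a + b - 1) = (b : R) * (F.coeff a * G.coeff b) := by
    rcases b with _ | b
    · rw [eq_C_of_natDegree_le_zero hG]; simp
    · have e : a + (b + 1) - 1 = a + b := by omega
      rw [e, coeff_mul_add_eq_of_natDegree_le hF (show (derivative G).natDegree ≤ b by
        have := natDegree_derivative_le G; omega), coeff_derivative]
      push_cast
      ring
  have h2 : (derivative F * G).coeff (a + b - 1) = (a : R) * (F.coeff a * G.coeff b) := by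
    rcases a with _ | a
    · rw [eq_C_of_natDegree_le_zero hF]; simp
    · have e : a + 1 + b - 1 = a + b := by omega
      rw [e, coeff_mul_add_eq_of_natDegree_le (show (derivative F).natDegree ≤ a by
        have := natDegree_derivative_le F; omega) hG, coeff_derivative]
      push_cast
      ring
  rw [wronskian, coeff_sub, h1, h2]
  ring

end CommRing

section Field

variable {k : Type*} [Field k]

theorem prod_pow_dvd {n : ℕ} {P : Fin n → k} (hP : Function.Injective P) (m : Fin n → ℕ)
    {W : k[X]} (h : ∀ i, (X - C (P i)) ^ (m i) ∣ W) : ∏ i, (X - C (P i)) ^ (m i) ∣ W := by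
  refine Finset.prod_dvd_of_coprime ?_ (fun i _ => h i)
  intro i _ j _ hij
  exact (isCoprime_X_sub_C_of_isUnit_sub
    (sub_ne_zero.2 (fun h => hij (hP h))).isUnit).pow

theorem natDegree_prod_pow {n : ℕ} (P : Fin n → k) (m : Fin n → ℕ) :
    (∏ i, (X - C (P i)) ^ (m i)).natDegree = ∑ i, m i := by
  rw [natDegree_prod_of_monic _ _ (fun i _ => (monic_X_sub_C _).pow _)]
  exact Finset.sum_congr rfl (fun i _ => by
    rw [(monic_X_sub_C _).natDegree_pow, natDegree_X_sub_C, mul_one])

theorem monic_prod_pow {n : ℕ} (P : Fin n → k) (m : Fin n → ℕ) :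
    (∏ i, (X - C (P i)) ^ (m i)).Monic :=
  monic_prod_of_monic _ _ (fun _ _ => (monic_X_sub_C _).pow _)

theorem not_pow_succ_dvd_prod {n : ℕ} {P : Fin n → k} (hP : Function.Injective P)
    (m : Fin n → ℕ) (j : Fin n) {c : k} (hc : c ≠ 0) :
    ¬ (X - C (P j)) ^ (m j + 1) ∣ C c * ∏ i, (X - C (P i)) ^ (m i) := by
  classical
  rw [← Finset.mul_prod_erase _ _ (Finset.mem_univ j), ← mul_assoc, mul_comm (C c), mul_assoc,
    pow_succ]
  intro h
  have h2 := (mul_dvd_mul_iff_left (pow_ne_zero _ (X_sub_C_ne_zero (P j)))).1 h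
  rw [dvd_iff_isRoot, IsRoot, eval_mul, eval_C, eval_prod, mul_eq_zero] at h2
  rcases h2 with h2 | h2
  · exact hc h2
  · rw [Finset.prod_eq_zero_iff] at h2
    obtain ⟨i, hi, h3⟩ := h2
    rw [eval_pow, eval_sub, eval_X, eval_C] at h3
    refine pow_ne_zero _ (sub_ne_zero.2 ?_) h3
    intro h4
    exact (Finset.mem_erase.1 hi).1 (hP h4).symm

theorem eval_prod_pow_ne_zero {n : ℕ} (P : Fin n → k) (m : Fin n → ℕ) {a : k}
    (ha : ∀ i, a ≠ P i) : (∏ i, (X - C (P i)) ^ (m i)).eval a ≠ 0 := by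
  rw [eval_prod, Finset.prod_ne_zero_iff]
  intro i _
  rw [eval_pow, eval_sub, eval_X, eval_C]
  exact pow_ne_zero _ (sub_ne_zero.2 (ha i))

theorem exists_eq_C_mul {W T : k[X]} (hT : T.Monic) (h : T ∣ W) (hd : W.natDegree ≤ T.natDegree) :
    ∃ c : k, W = C c * T := by
  obtain ⟨q, rfl⟩ := h
  by_cases hq : q = 0
  · exact ⟨0, by rw [hq]; simp⟩
  · rw [hT.natDegree_mul' hq] at hd
    have : q.natDegree = 0 := by omega
    rw [eq_C_of_natDegree_eq_zero this]
    exact ⟨q.coeff 0, by rw [mul_comm]⟩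

theorem exists_compl {F G s : k[X]} (hs : s ∈ Submodule.span k {F, G}) (hs0 : s ≠ 0) :
    ∃ t ∈ Submodule.span k {F, G}, ∃ c : k, c ≠ 0 ∧ wronskian s t = c • wronskian F G := by
  obtain ⟨x, y, rfl⟩ := Submodule.mem_span_pair.1 hs
  by_cases hx : x = 0
  · have hy : y ≠ 0 := by
      rintro rfl; exact hs0 (by rw [hx]; simp)
    refine ⟨F, Submodule.subset_span (by simp), -y, neg_ne_zero.2 hy, ?_⟩
    have := wr_comb x y 1 0 F G
    rw [one_smul, zero_smul, add_zero] at this
    rw [this]; congr 1; ring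
  · refine ⟨G, Submodule.subset_span (by simp), x, hx, ?_⟩
    have := wr_comb x y 0 1 F G
    rw [one_smul, zero_smul, zero_add] at this
    rw [this]; congr 1; ring

theorem exists_wr_eq {F G s t : k[X]} (hs : s ∈ Submodule.span k {F, G})
    (ht : t ∈ Submodule.span k {F, G}) : ∃ c : k, wronskian s t = c • wronskian F G := by
  obtain ⟨x, y, rfl⟩ := Submodule.mem_span_pair.1 hs
  obtain ⟨x', y', rfl⟩ := Submodule.mem_span_pair.1 ht
  exact ⟨_, wr_comb _ _ _ _ _ _⟩

/-- A member of the span vanishing to order `m` at `a` makes the Wronskian vanish to order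
`m - 1`. -/
theorem pow_dvd_of_mem {F G s : k[X]} {q : k[X]} {m : ℕ} (hs : s ∈ Submodule.span k {F, G})
    (hs0 : s ≠ 0) (h : q ^ m ∣ s) : q ^ (m - 1) ∣ wronskian F G := by
  obtain ⟨t, -, c, hc, hst⟩ := exists_compl hs hs0
  have := dvd_wr_left h t
  rw [hst] at this
  have h2 : wronskian F G = c⁻¹ • c • wronskian F G := by
    rw [smul_smul, inv_mul_cancel₀ hc, one_smul]
  rw [h2]
  exact dvd_smul_of_dvd _ this

/-- **Main structure lemma.** -/
theorem wr_eq {n : ℕ} {P : Fin n → k} (hP : Function.Injective P) {e : Fin n → ℕ}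
    (he : ∀ i, 1 ≤ e i) {α β : ℕ} (hsum : (∑ i, e i) + 1 = α + β + n) {F G : k[X]}
    (hF : F.natDegree ≤ α) (hG : G.natDegree ≤ β)
    (hs : ∀ i, ∃ s ∈ Submodule.span k {F, G}, s ≠ 0 ∧ (X - C (P i)) ^ (e i) ∣ s) :
    wronskian F G = C (((β : k) - (α : k)) * (F.coeff α * G.coeff β)) *
      ∏ i, (X - C (P i)) ^ (e i - 1) := by
  have hsum' : ∑ i, (e i - 1) = α + β - 1 := by
    have : ∑ i, (e i - 1) + n = ∑ i, e i := by
      have : ∑ i, (e i - 1) + ∑ _i : Fin n, 1 = ∑ i, e i := by
        rw [← Finset.sum_add_distrib]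
        exact Finset.sum_congr rfl (fun i _ => Nat.sub_add_cancel (he i))
      simpa using this
    omega
  have hab : 1 ≤ α + β := by
    have : n ≤ ∑ i, e i := by
      calc n = ∑ _i : Fin n, 1 := by simp
        _ ≤ _ := Finset.sum_le_sum (fun i _ => he i)
    omega
  have hdvd : ∏ i, (X - C (P i)) ^ (e i - 1) ∣ wronskian F G :=
    prod_pow_dvd hP _ (fun i => by
      obtain ⟨s, hs1, hs2, hs3⟩ := hs i
      exact pow_dvd_of_mem hs1 hs2 hs3)
  obtain ⟨c, hc⟩ := exists_eq_C_mul (monic_prod_pow P _) hdvd (by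
    rw [natDegree_prod_pow, hsum']; exact natDegree_wr_le hF hG)
  rw [hc]
  congr 2
  have h1 := coeff_wr hab hF hG
  rw [hc, coeff_C_mul] at h1
  have h2 : (∏ i, (X - C (P i)) ^ (e i - 1)).coeff (α + β - 1) = 1 := by
    have := (monic_prod_pow P (fun i => e i - 1)).coeff_natDegree
    rwa [natDegree_prod_pow, hsum'] at this
  rw [h2, mul_one] at h1
  exact h1

/-- In the situation of `wr_eq` with non-zero Wronskian: order of members at `P i`. -/
theorem rootMultiplicity_le {n : ℕ} {P : Fin n → k} (hP : Function.Injective P) {e : Fin n → ℕ}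
    (he : ∀ i, 1 ≤ e i) {F G : k[X]} {c : k} (hc : c ≠ 0)
    (hW : wronskian F G = C c * ∏ i, (X - C (P i)) ^ (e i - 1)) (j : Fin n) {s : k[X]}
    (hs : s ∈ Submodule.span k {F, G}) (hs0 : s ≠ 0) : s.rootMultiplicity (P j) ≤ e j := by
  by_contra h
  push Not at h
  have h1 : (X - C (P j)) ^ (e j + 1) ∣ s := (le_rootMultiplicity_iff hs0).1 h
  have h2 := pow_dvd_of_mem hs hs0 h1
  rw [hW] at h2
  apply not_pow_succ_dvd_prod hP (fun i => e i - 1) j hc
  have : e j + 1 - 1 = e j - 1 + 1 := by have := he j; omega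
  rwa [this] at h2

theorem exists_eval_ne_zero {n : ℕ} {P : Fin n → k} (hP : Function.Injective P) {e : Fin n → ℕ}
    (he : ∀ i, 1 ≤ e i) {F G : k[X]} {c : k} (hc : c ≠ 0)
    (hW : wronskian F G = C c * ∏ i, (X - C (P i)) ^ (e i - 1))
    (hs : ∀ i, ∃ s ∈ Submodule.span k {F, G}, s ≠ 0 ∧ (X - C (P i)) ^ (e i) ∣ s) (a : k) :
    ∃ s ∈ Submodule.span k {F, G}, s.eval a ≠ 0 := by
  by_contra h
  push Not at h
  have hF : X - C a ∣ F := dvd_iff_isRoot.2 (h F (Submodule.subset_span (by simp)))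
  have hG : X - C a ∣ G := dvd_iff_isRoot.2 (h G (Submodule.subset_span (by simp)))
  by_cases ha : ∃ j, a = P j
  · obtain ⟨j, rfl⟩ := ha
    obtain ⟨s, hs1, hs2, hs3⟩ := hs j
    obtain ⟨t, ht, c', hc', hst⟩ := exists_compl hs1 hs2
    have ht' : (X - C (P j)) ^ 1 ∣ t := by
      rw [pow_one]; exact dvd_iff_isRoot.2 (h t ht)
    have h1 := pow_dvd_wr hs3 ht' (by omega)
    rw [hst, Nat.add_sub_cancel] at h1
    have h2 : (X - C (P j)) ^ (e j) ∣ wronskian F G := by
      have h2 : wronskian F G = c'⁻¹ • c' • wronskian F G := by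
        rw [smul_smul, inv_mul_cancel₀ hc', one_smul]
      rw [h2]
      exact dvd_smul_of_dvd _ h1
    rw [hW] at h2
    apply not_pow_succ_dvd_prod hP (fun i => e i - 1) j hc
    rwa [Nat.sub_add_cancel (he j)]
  · push Not at ha
    obtain ⟨u, rfl⟩ := hF
    obtain ⟨v, rfl⟩ := hG
    rw [wr_mul_mul] at hW
    have := congrArg (eval a) hW
    rw [eval_mul, eval_mul, eval_pow, eval_sub, eval_X, eval_C, sub_self, eval_C] at this
    rw [zero_pow two_ne_zero, zero_mul] at this
    exact mul_ne_zero hc (eval_prod_pow_ne_zero P _ ha) this.symm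

end Field

end K807.Wr
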